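import Cfsg.Agent.FGS.L37.Defs

/-!
A Steinberg summand excludes `2F`-offenders.
-/

set_option autoImplicit false
set_option linter.unusedSectionVars false

namespace CL.L37

open Subgroup Cfsg CL.MSS CL.Ord6 CL.Ord8
open scoped commutatorElement MatrixGroups

universe u

variable {W : Type*} [CommGroup W] [Finite W] {ρ : L32 →* MulAut W}

namespace MS

abbrev P := ZMod 2 × ZMod 2 × ZMod 2

def m (r p : P) : P := (r.1 + p.1, r.2.1 + p.2.1 + r.1 * p.2.2, r.2.2 + p.2.2)

theorem up_m : ∀ r p, B7.up (m r p) = B7.up r * B7.up p := by decide +kernel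

theorem m_m : ∀ r, B7.up r * B7.up r = 1 → ∀ p, m r (m r p) = p := by decide +kernel

def tr (r : P) (c : P → ZMod 2) : P → ZMod 2 := fun q => c (m r q)

def st (r : P) (c : P → ZMod 2) : P → ZMod 2 := if tr r c = c then c else c + tr r c

theorem desc : ∀ c : P → ZMod 2, c ≠ 0 → st (0, 0, 1) (st (1, 0, 0) (st (0, 1, 0) c)) = fun _ => 1 := by
  decide +kernel

theorem cnt1 : ∀ r : P, r ≠ 0 → (Finset.univ.filter fun c : P → ZMod 2 => tr r c = c).card ≤ 16 := by
  decide +kernel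

theorem cnt2 : ∀ r s : P, r ≠ 0 → s ≠ 0 → r ≠ s → m r r = 0 → m s s = 0 →
    (Finset.univ.filter fun c : P → ZMod 2 => tr r c = c ∧ tr s c = c).card ≤ 4 := by
  decide +kernel

theorem exists_up {a : L32} (h : a ∈ B7.D) : ∃ r, B7.up r = a := by
  have b : Function.Injective fun p => (⟨B7.up p, B7.up_D p⟩ : B7.D) := fun p q e =>
    (by decide +kernel : ∀ p q, B7.up p = B7.up q → p = q) p q (congrArg Subtype.val e)
  obtain ⟨r, e⟩ := (b.bijective_of_nat_card_le (by rw [B7.card_D]; simp)).2 ⟨a, h⟩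
  exact ⟨r, congrArg Subtype.val e⟩

/-- the map from the group algebra -/
def F (ρ : L32 →* MulAut W) (w : W) (c : P → ZMod 2) : W := ∏ p, ρ (B7.up p) w ^ (c p).val

theorem F_add (h2 : ∀ w : W, w * w = 1) (w : W) (c d : P → ZMod 2) : F ρ w (c + d) = F ρ w c * F ρ w d := by
  rw [F, F, F, ← Finset.prod_mul_distrib]
  refine Finset.prod_congr rfl fun p _ => ?_
  rw [← pow_add, Pi.add_apply]
  rcases (by decide : ∀ a b : ZMod 2, a.val + b.val = (a + b).val ∨ a.val + b.val = (a + b).val + 2) (c p) (d p)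
    with e | e
  · rw [e]
  · rw [e, pow_add, pow_two, h2, mul_one]

theorem F_tr (w : W) {r : P} (hr : ∀ p, m r (m r p) = p) (c : P → ZMod 2) :
    ρ (B7.up r) (F ρ w c) = F ρ w (tr r c) := by
  rw [F, F, map_prod]
  refine Fintype.prod_equiv (Function.Involutive.toPerm (m r) hr) _ _ fun p => ?_
  rw [map_pow, ← MulAut.mul_apply, ← map_mul, ← up_m]
  show _ = ρ (B7.up (m r p)) w ^ (c (m r (m r p))).val
  rw [hr]

theorem F_inj (h2 : ∀ w : W, w * w = 1) {w : W} (n : ∏ p : P, ρ (B7.up p) w ≠ 1) {c : P → ZMod 2}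
    (e : F ρ w c = 1) : c = 0 := by
  have k : ∀ r : P, (∀ p, m r (m r p) = p) → ∀ c, F ρ w c = 1 → F ρ w (st r c) = 1 := fun r hr c e => by
    unfold st
    split_ifs
    · exact e
    · rw [F_add h2, ← F_tr w hr, e, map_one, mul_one]
  by_contra h
  have := k (0, 0, 1) (by decide) _ (k (1, 0, 0) (by decide) _ (k (0, 1, 0) (by decide) _ e))
  rw [desc c h] at this
  exact n (by simpa [F, ZMod.val_one] using this)

end MS

open MS

/-- PROOF. Conjugate `A` into `D` (Sylow; the number of fixed points does not change). `N w ≠ 1`: the map `F₂[D] → W`,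
`c ↦ ∏ ρ u w ^ c u`, is injective (a non-zero invariant subspace of `F₂[D]` contains the only fixed vector `N`). `|A| = 2` or
`4` (`B7.rk4`). `v ↦ (ρ a v / v)_{a ∈ A}` has kernel `C_W(A)`, and on `F₂[D]` (`256` elements, `|C| = 2 ^ (8 / |A|)`) its image
has `16 > 4` resp. `64 > 16` elements. -/
theorem stM_bound (h2 : ∀ w : W, w * w = 1) (s : StM ρ) (A : Subgroup L32) (el : ∀ a ∈ A, a * a = 1) (ne : A ≠ ⊥) :
    Nat.card A ^ 2 * Nat.card {w : W // ∀ a ∈ A, ρ a w = w} < Nat.card W := by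
  obtain ⟨w, n⟩ := s
  have sy : SylIn 2 B7.D ⊤ := sylIn_of_not_dvd_relIndex B7.pg_D le_top
    (by rw [relIndex_top_right, B7.index_D]; decide)
  obtain ⟨x, -, hx⟩ := sy.exists_conj_le (R := A)
    (fun g => ⟨1, Subtype.ext (by simpa [pow_two] using el g g.2)⟩) le_top
  let C : Subgroup W :=
    { carrier := {w | ∀ a ∈ A, ρ a w = w}
      one_mem' := fun a _ => map_one _
      mul_mem' := fun {u v} hu hv a ha => by rw [map_mul, hu a ha, hv a ha]
      inv_mem' := fun {u} hu a ha => by rw [map_inv, hu a ha] }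
  let φ : Multiplicative (P → ZMod 2) →* W := MonoidHom.mk' (fun c => ρ x⁻¹ (F ρ w c.toAdd)) fun c d => by
    rw [toAdd_mul, F_add h2, map_mul]
  have ex : ∀ a ∈ A, a ≠ 1 → ∃ r : P, B7.up r = x * a * x⁻¹ ∧ r ≠ 0 ∧ m r r = 0 ∧
      ∀ c ∈ C.comap φ, tr r c.toAdd = c.toAdd := fun a ha a1 => by
    obtain ⟨r, hr⟩ := exists_up (hx (conj_mem_cj ha))
    have r2 : B7.up r * B7.up r = 1 := by rw [hr, conj_mul, el a ha]; simp
    refine ⟨r, hr, fun e => a1 ?_, by simpa [m] using m_m r r2 0, fun c hc => ?_⟩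
    · rw [e, show B7.up 0 = 1 by decide +kernel, eq_comm, conj_eq_one_iff] at hr
      exact hr
    · have e : ρ a (ρ x⁻¹ (F ρ w c.toAdd)) = ρ x⁻¹ (F ρ w c.toAdd) := hc a ha
      rw [← MulAut.mul_apply, ← map_mul, show a * x⁻¹ = x⁻¹ * B7.up r by rw [hr]; group, map_mul,
        MulAut.mul_apply, F_tr w (m_m r r2)] at e
      have := F_inj h2 n (c := tr r c.toAdd + c.toAdd) (by rw [F_add h2, (ρ x⁻¹).injective e, h2])
      funext p
      exact (by decide : ∀ a b : ZMod 2, a + b = 0 → a = b) _ _ (congrFun this p)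
  have key : ∀ (k : ℕ) (S : Finset (P → ZMod 2)), S.card ≤ k → (∀ c ∈ C.comap φ, c.toAdd ∈ S) →
      Nat.card A ^ 2 * k < 256 → Nat.card A ^ 2 * Nat.card C < Nat.card W := fun k S hS h lt => by
    have c1 : Nat.card (C.comap φ) ≤ k := by
      refine le_trans ?_ hS
      rw [← Fintype.card_coe S, ← Nat.card_eq_fintype_card]
      exact Nat.card_le_card_of_injective (fun c => ⟨c.1.toAdd, h c.1 c.2⟩) fun c d e =>
        Subtype.ext (Multiplicative.toAdd.injective (congrArg (Subtype.val : S → _) e))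
    have c2 := (C.comap φ).card_mul_index
    rw [show Nat.card (Multiplicative (P → ZMod 2)) = 256 by simp, index_comap] at c2
    have c3 := Nat.le_of_dvd (Nat.pos_of_ne_zero index_ne_zero_of_finite) (relIndex_dvd_index_of_normal C φ.range)
    have c4 : Nat.card A ^ 2 < C.index := by
      by_contra c
      have := Nat.mul_le_mul c1 (c3.trans (not_lt.1 c))
      rw [c2, mul_comm] at this
      omega
    rw [← C.index_mul_card]
    exact Nat.mul_lt_mul_of_pos_right c4 Nat.card_pos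
  obtain ⟨⟨a, ha⟩, a1⟩ := (ne_bot_iff_exists_ne_one).1 ne
  have a1 : a ≠ 1 := fun e => a1 (Subtype.ext e)
  obtain ⟨r, hr, r0, r2, fr⟩ := ex a ha a1
  by_cases h : ∃ b ∈ A, b ≠ 1 ∧ b ≠ a
  · obtain ⟨b, hb, b1, ba⟩ := h
    obtain ⟨s, hs, s0, s2, fs⟩ := ex b hb b1
    refine key 4 _ (cnt2 r s r0 s0 (fun e => ba ?_) r2 s2) (fun c hc => by simpa using ⟨fr c hc, fs c hc⟩) ?_
    · rw [e, hs] at hr
      simpa using hr
    · have := Nat.pow_le_pow_left (B7.rk4 A el) 2
      omega
  · refine key 16 _ (cnt1 r r0) (fun c hc => by simpa using fr c hc) ?_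
    have : Nat.card A ≤ 2 := by
      have := Nat.card_le_card_of_injective (fun b : A => decide (b.1 = 1)) fun b c e => Subtype.ext (by
        by_cases h1 : b.1 = 1
        · rw [h1, (by simpa [h1] using e : c.1 = 1)]
        · have h2 : c.1 ≠ 1 := by simpa [h1] using e
          rw [of_not_not fun n => h ⟨b, b.2, h1, n⟩, of_not_not fun n => h ⟨c, c.2, h2, n⟩])
      simpa using this
    have := Nat.pow_le_pow_left this 2
    omega

end CL.L37
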