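import Cfsg.Agent.FGS.L37.BldU1
import Cfsg.Agent.FGS.L37.ModS

/-!
The module trichotomy for a maximal `2`-local subgroup.
-/

set_option autoImplicit false
set_option linter.unusedSectionVars false

namespace CL.L37

open Subgroup Cfsg CL.MSS CL.Ord6 CL.Ord8
open scoped commutatorElement MatrixGroups

universe u

variable {G : Type*} [Group G] [Finite G]
variable {M Q : Subgroup G} {π : M →* L32}

/-- PROOF. `ρ` on `Y = Om Q` as in `CL.Ord8.cf7`; non-trivial by `faith`. `StM ρ`: for `B ≤ M` apply `stM_bound` to `A = π B`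
(`|A| = |B : C_B(Y)|` as `C_M(Y) = Q`). Otherwise `modB`, `coreN`, `coreU`, with `B7.dual` for `ρ ∘ σ`. -/
theorem tri7 (h : HD G) (l : Loc M Q π) (r : Function.Surjective π) :
    No2F M (B7.Om Q) ∨ (∃ V T Q1 z x, Cn M Q V T Q1 z x) ∨ ∃ V T Q1 Z1 z0 z x, Cu M Q V T Q1 Z1 z0 z x := by
  let _ : CommGroup (B7.Om Q) :=
    { (inferInstance : Group (B7.Om Q)) with mul_comm := fun a b => Subtype.ext (a.2.2.2 b b.2.1) }
  let g : M →* MulAut (B7.Om Q) := (B7.Om Q).normalizerMonoidHom.comp (inclusion (l.nQ.ge.trans B7.Om_nz))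
  have hg : ∀ (m : M) w, (g m w).1 = m.1 * w.1 * m.1⁻¹ := fun _ _ => rfl
  obtain ⟨ρ, hρ⟩ : ∃ ρ : L32 →* MulAut (B7.Om Q), ∀ m, ρ (π m) = g m :=
    ⟨π.liftOfSurjective r ⟨g, fun m hm => MulEquiv.ext fun w => Subtype.ext (by
      rw [hg, ← w.2.2.2 _ ((l.ker m).1 hm)]; simp)⟩, π.liftOfRightInverse_comp_apply _ _ _⟩
  have h2 : ∀ w : B7.Om Q, w * w = 1 := fun w => Subtype.ext w.2.2.1
  have fx : ∀ (m : M) w, ρ (π m) w = w ↔ w.1 * m.1 = m.1 * w.1 := fun m w => by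
    rw [hρ, Subtype.ext_iff, hg, mul_inv_eq_iff_eq_mul, eq_comm]
  have kr : ∀ m : M, π m = 1 ↔ m.1 ∈ 𝐂 (B7.Om Q) := fun m =>
    (l.ker m).trans ⟨fun q y hy => hy.2.2 _ q, fun q => faith h l r ⟨m.2, q⟩⟩
  by_cases s : StM ρ
  · refine .inl fun B hB ⟨n, sq, _⟩ => ?_
    have := stM_bound h2 s ((B.subgroupOf M).map π) (by
      rintro _ ⟨b, hb, rfl⟩
      rw [← map_mul, kr, ← pow_two]
      exact sq b hb) fun e => n fun b hb => (kr ⟨b, hB hb⟩).1 (mem_bot.1 (e ▸ mem_map_of_mem π hb))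
    have e1 : Nat.card ((B.subgroupOf M).map π) = (𝐂 (B7.Om Q)).relIndex B := by
      rw [← relIndex_ker, ← relIndex_subgroupOf hB]
      congr 1
      exact Subgroup.ext kr
    have e2 : Nat.card {w : B7.Om Q // ∀ a ∈ (B.subgroupOf M).map π, ρ a w = w} = ♯(B7.Om Q ⊓ 𝐂 B) :=
      Nat.card_congr ⟨fun w => ⟨w.1.1, w.1.2, fun b hb => ((fx ⟨b, hB hb⟩ _).1 (w.2 _ (mem_map_of_mem π hb))).symm⟩,
        fun w => ⟨⟨w.1, w.2.1⟩, by
          rintro _ ⟨b, hb, rfl⟩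
          exact (fx b _).2 (w.2.2 b hb).symm⟩, fun _ => rfl, fun _ => rfl⟩
    have e3 := index_mul_card ((B7.Om Q ⊓ 𝐂 B).subgroupOf (B7.Om Q))
    rw [Nat.card_congr (subgroupOfEquivOfLe inf_le_left).toEquiv] at e3
    rw [e1, e2, ← e3] at this
    exact Nat.lt_of_mul_lt_mul_right this
  have key : ∀ {π' : M →* L32} {ρ' : L32 →* MulAut (B7.Om Q)}, Loc M Q π' → Function.Surjective π' →
      (∀ m, ρ' (π' m) = g m) → B7.NatM ρ' ∨ U4M ρ' →
      (∃ V T Q1 z x, Cn M Q V T Q1 z x) ∨ ∃ V T Q1 Z1 z0 z x, Cu M Q V T Q1 Z1 z0 z x := by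
    rintro π' ρ' l' r' hρ' (⟨U, ⟨v, n⟩, e, a⟩ | ⟨U, z0, z1, zf, a, ef, ex, et⟩)
    · exact .inl (coreN h l' r' (fun v => (U v).1) ⟨v, fun c => n (Subtype.ext c)⟩ (fun v => (U v).2.1)
        (fun m v => by rw [← hg, ← hρ', e]) fun v w => congrArg Subtype.val (a v w))
    · obtain ⟨V, T, Q1, Z1, z, x, k⟩ := coreU h l' r' (ζ := fun v => (U v).1) (z0 := z0.1)
        ⟨fun c => z1 (Subtype.ext c), z0.2.2.1, fun m hm => by
          have := congrArg Subtype.val (zf (π' ⟨m, hm⟩))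
          rw [hρ', hg, mul_inv_eq_iff_eq_mul] at this
          exact this.symm, fun v w => congrArg Subtype.val (a v w), fun m e v => by rw [← hg, ← hρ', e, ef],
          fun m e v => by rw [← hg, ← hρ', e, ex], fun m e v => by rw [← hg, ← hρ', e, et]; rfl⟩
        (fun v => (U v).2) z0.2
      exact .inr ⟨V, T, Q1, Z1, z0, z, x, k⟩
  refine .inr ((modB h2 ?_ s).elim (key l r hρ) (key (B7.dual l) (B7.σ_bij.2.comp r) fun m => by
    rw [MonoidHom.comp_apply, MonoidHom.comp_apply, B7.σσ, hρ]))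
  by_contra c
  push Not at c
  obtain ⟨m, hm⟩ := r B7.x1
  exact B7.x1_3.2.1 (hm ▸ (kr m).2 fun y hy => (fx m ⟨y, hy⟩).1 (c _ _))

end CL.L37
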