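import Cfsg.Agent.FGS.L37.ModA

/-!
Lifting a natural submodule of `W / C_W(L₃(2))`.
-/

set_option autoImplicit false
set_option linter.unusedSectionVars false

namespace CL.L37

open Subgroup Cfsg CL.MSS CL.Ord6 CL.Ord8
open scoped commutatorElement MatrixGroups

universe u

variable {W : Type*} [CommGroup W] [Finite W] {ρ : L32 →* MulAut W}

namespace ModB

open B7

theorem words : ∀ p, up p ∈ [1, t0, x1 * f0 * f0 * f0 * t0 * f0, f0 * f0 * t0 * f0 * x1 * f0,
    f0 * f0 * f0 * t0 * f0 * x1, f0 * x1 * t0 * f0 * t0 * f0, f0 * x1 * t0 * f0 * t0 * f0 * t0,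
    f0 * t0 * x1 * f0 * f0 * f0] := by decide +kernel

/-- the fixed points -/
def fx (ρ : L32 →* MulAut W) : Subgroup W where
  carrier := {w | ∀ a, ρ a w = w}
  mul_mem' := fun {x y} p q a => by rw [map_mul, p, q]
  one_mem' := fun a => map_one _
  inv_mem' := fun {x} p a => by rw [map_inv, p]

/-- the map induced on the quotient by the fixed points -/
def qm (ρ : L32 →* MulAut W) (a : L32) : W ⧸ fx ρ →* W ⧸ fx ρ :=
  QuotientGroup.map _ _ (ρ a).toMonoidHom fun w hw => by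
    show ρ a w ∈ fx ρ
    rw [hw a]; exact hw

/-- the action on the quotient by the fixed points -/
def qt (ρ : L32 →* MulAut W) : L32 →* MulAut (W ⧸ fx ρ) where
  toFun a :=
    { toFun := qm ρ a
      invFun := qm ρ a⁻¹
      left_inv := fun w => QuotientGroup.induction_on w fun w => by
        show ((ρ a⁻¹ (ρ a w) : W) : W ⧸ fx ρ) = w
        rw [← MulAut.mul_apply, ← map_mul, inv_mul_cancel, map_one, MulAut.one_apply]
      right_inv := fun w => QuotientGroup.induction_on w fun w => by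
        show ((ρ a (ρ a⁻¹ w) : W) : W ⧸ fx ρ) = w
        rw [← MulAut.mul_apply, ← map_mul, mul_inv_cancel, map_one, MulAut.one_apply]
      map_mul' := map_mul _ }
  map_one' := MulEquiv.ext fun w => QuotientGroup.induction_on w fun w => by
    show ((ρ 1 w : W) : W ⧸ fx ρ) = w
    rw [map_one, MulAut.one_apply]
  map_mul' a b := MulEquiv.ext fun w => QuotientGroup.induction_on w fun w => by
    show ((ρ (a * b) w : W) : W ⧸ fx ρ) = (ρ a (ρ b w) : W)
    rw [map_mul, MulAut.mul_apply]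

theorem nofix (gen : Subgroup.closure ({f0, x1, t0} : Set L32) = ⊤) (h2 : ∀ w : W, w * w = 1) {w : W}
    (h : ∀ a b, ρ b (ρ a w / w) = ρ a w / w) (a : L32) : ρ a w = w := by
  let φ : L32 →* W := MonoidHom.mk' (fun a => ρ a w / w) fun a b => by
    show ρ (a * b) w / w = ρ a w / w * (ρ b w / w)
    rw [← h b a, map_div, map_mul, MulAut.mul_apply, mul_comm, div_mul_div_cancel]
  have o : ∀ {g : L32} {n : ℕ}, g ^ n = 1 → n.Coprime 2 → g ∈ φ.ker := fun {g n} e c =>
    one_of_cop (g := φ g) (by rw [← map_pow, e, map_one]) (by rw [pow_two, h2]) c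
  have f := o f0_7.1 (by norm_num)
  have t : t0 * f0 ∈ φ.ker := o (p7 (by decide +kernel)) (by norm_num)
  have : φ.ker = ⊤ := eq_top_iff.2 (gen ▸ (closure_le _).2 (by
    rintro g (rfl | rfl | rfl)
    exacts [f, o x1_3.1 (by norm_num), (mul_mem_cancel_right f).1 t]))
  exact div_eq_one.1 (show φ a = 1 from (this ▸ mem_top a : a ∈ φ.ker))

/-- `w` times the norm of `f0` -/
def P (ρ : L32 →* MulAut W) : W →* W :=
  MonoidHom.mk' (fun w => w * ∏ j ∈ Finset.range 7, ρ (f0 ^ j) w) fun a b => by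
    simp only [map_mul, Finset.prod_mul_distrib]; exact mul_mul_mul_comm _ _ _ _

theorem P_ap (w : W) : P ρ w = w * ∏ j ∈ Finset.range 7, ρ (f0 ^ j) w := rfl

theorem P_fix (h2 : ∀ w : W, w * w = 1) {c : W} (h : ∀ a, ρ a c = c) : P ρ c = 1 := by
  simp only [P_ap, h, Finset.prod_const, Finset.card_range]
  rw [← pow_succ', show 7 + 1 = 2 * 4 from rfl, pow_mul, pow_two, h2, one_pow]

theorem P_f (w : W) : ρ f0 (P ρ w) = P ρ (ρ f0 w) := by
  simp only [P_ap, map_mul, map_prod, ← MulAut.mul_apply]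
  simp only [← map_mul, ← pow_succ, ← pow_succ']

theorem P_x (w : W) : ρ x1 (P ρ w) = P ρ (ρ x1 w) := by
  have e : ∀ j, x1 * f0 ^ j = f0 ^ (2 * j) * x1 := fun j => by
    have : SemiconjBy x1 f0 (f0 ^ 2) := by rw [pow_two]; exact f0_7.2.2
    rw [pow_mul]; exact (this.pow_right j).eq
  have r : ∀ j, f0 ^ (7 + j) = f0 ^ j := fun j => by rw [pow_add, f0_7.1, one_mul]
  have q : ∀ j, ρ x1 (ρ (f0 ^ j) w) = ρ (f0 ^ (2 * j)) (ρ x1 w) := fun j => by
    rw [← MulAut.mul_apply, ← map_mul, e, map_mul, MulAut.mul_apply]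
  rw [P_ap, P_ap, map_mul, map_prod]
  simp only [q, Finset.prod_range_succ, Finset.prod_range_zero]
  rw [show 2 * 4 = 7 + 1 from rfl, show 2 * 5 = 7 + 3 from rfl, show 2 * 6 = 7 + 5 from rfl, r, r, r]
  generalize ρ x1 w = y
  show y * (1 * ρ (f0 ^ 0) y * ρ (f0 ^ 2) y * ρ (f0 ^ 4) y * ρ (f0 ^ 6) y * ρ (f0 ^ 1) y * ρ (f0 ^ 3) y *
    ρ (f0 ^ 5) y) = _
  ac_rfl

theorem sum0 : ∀ v : Vec, v + ac f0 v + ac (f0 * f0) v + ac (f0 * f0 * f0) v + ac (f0 * f0 * f0 * f0) v +
    ac (f0 * f0 * f0 * f0 * f0) v + ac (f0 * f0 * f0 * f0 * f0 * f0) v = 0 := by decide +kernel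

theorem dec : ∀ v : Vec, ∃ u, (v 0 = 0 ∧ v = u + ac x1 u) ∨ (v 0 = 1 ∧ v = e0 + (u + ac x1 u)) := by
  decide +kernel

theorem lift {W' : Type*} [CommGroup W'] {ρ' : L32 →* MulAut W'}
    (gen : Subgroup.closure ({f0, x1, t0} : Set L32) = ⊤) (h2 : ∀ w : W, w * w = 1) (π : W →* W')
    (s : Function.Surjective π) (k : ∀ w, π w = 1 ↔ ∀ a, ρ a w = w) (e : ∀ a w, π (ρ a w) = ρ' a (π w))
    (h : NatM ρ') : NatM ρ ∨ U4M ρ := by
  obtain ⟨V, ⟨v0, n0⟩, eq, ad⟩ := h
  choose L hL using fun v => s (V v)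
  have pp : ∀ {a b : W}, π a = π b → P ρ a = P ρ b := fun {a b} c => by
    have := P_fix h2 ((k (a / b)).1 (by rw [map_div, c, div_self']))
    rwa [map_div, div_eq_one] at this
  have V0 : V 0 = 1 := by
    have := ad 0 0
    rw [add_zero] at this
    exact (left_eq_mul.1 this)
  have πU : ∀ v, π (P ρ (L v)) = V v := fun v => by
    rw [P_ap, map_mul, map_prod]
    simp only [e, hL, eq, Finset.prod_range_succ, Finset.prod_range_zero, pow_succ, pow_zero, one_mul, ac_one, ← ad]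
    rw [sum0, add_zero]
  have uad : ∀ v w, P ρ (L (v + w)) = P ρ (L v) * P ρ (L w) := fun v w => by
    rw [← map_mul]; exact pp (by rw [map_mul, hL, hL, hL, ad])
  have uf : ∀ v, ρ f0 (P ρ (L v)) = P ρ (L (ac f0 v)) := fun v => by
    rw [P_f]; exact pp (by rw [e, hL, hL, eq])
  have ux : ∀ v, ρ x1 (P ρ (L v)) = P ρ (L (ac x1 v)) := fun v => by
    rw [P_x]; exact pp (by rw [e, hL, hL, eq])
  obtain ⟨U, hU⟩ : ∃ U : Vec → W, ∀ v, U v = P ρ (L v) := ⟨_, fun _ => rfl⟩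
  simp only [← hU] at πU uad uf ux
  obtain ⟨κ, hκ⟩ : ∃ κ : Vec → W, ∀ v, κ v = ρ t0 (U v) / U (ac t0 v) := ⟨_, fun _ => rfl⟩
  have κf : ∀ v a, ρ a (κ v) = κ v := fun v => (k _).1 (by rw [hκ, map_div, e, πU, πU, eq, div_self'])
  have κad : ∀ v w, κ (v + w) = κ v * κ w := fun v w => by
    rw [hκ, hκ, hκ, uad, ac_add, uad, map_mul, mul_div_mul_comm]
  have κx : ∀ v, κ (ac x1 v) = κ v := fun v => by
    have c : x1 * (t0 * x1) = t0 := by decide +kernel
    rw [← κf _ x1, hκ, map_div, ← ux v, ux (ac t0 _), ← ac_mul, ← ac_mul, ← MulAut.mul_apply, ← MulAut.mul_apply,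
      ← map_mul, ← map_mul, mul_assoc, c, hκ]
  have κz : ∀ v, κ v = κ e0 ^ (v 0).val := fun v => by
    obtain ⟨u, ⟨a, b⟩ | ⟨a, b⟩⟩ := dec v
    · rw [a, b, κad, κx, h2]; exact (pow_zero _).symm
    · rw [a, b, κad, κad, κx, h2, mul_one]; exact (pow_one _).symm
  have ut : ∀ v, ρ t0 (U v) = U (ac t0 v) * κ e0 ^ (v 0).val := fun v => by
    rw [← κz, hκ, mul_div_cancel]
  by_cases z : κ e0 = 1
  · refine .inl ⟨U, ⟨v0, fun c => n0 (by rw [← πU, c, map_one])⟩, fun a => ?_, uad⟩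
    have ha : a ∈ Subgroup.closure ({f0, x1, t0} : Set L32) := gen ▸ mem_top a
    induction ha using closure_induction with
    | mem g hg =>
      rcases hg with rfl | rfl | rfl
      exacts [uf, ux, fun v => by rw [ut, z, one_pow, mul_one]]
    | one => intro v; rw [map_one, ac_one, MulAut.one_apply]
    | mul a b _ _ p q => intro v; rw [map_mul, MulAut.mul_apply, q, p, ac_mul]
    | inv a _ p =>
      intro v
      conv_lhs => rw [← ac_inv' a v, ← p, ← MulAut.mul_apply, ← map_mul, inv_mul_cancel, map_one, MulAut.one_apply]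
  · exact .inr ⟨U, κ e0, z, κf e0, uad, uf, ux, ut⟩

end ModB

/-- PROOF. `C = {w | ∀ a, ρ a w = w}`, `W̄ = W / C ≠ 1` has no fixed points (`a ↦ ρ a w / w` is a homomorphism of the perfect group
to `C`) and `¬ StM`; `modA` gives `Ū` (for `ρ` or `ρ ∘ σ`; `C` is the same). `P w = w ∏_{j<7} ρ (f0 ^ j) w` is additive, kills
`C`, commutes with `f0, x1`, and `P w ≡ w mod C` on lifts of `Ū v`. `U v = P (lift (Ū v))`. `κ v = ρ t0 (U v) / U (t0 v) ∈ C` is
additive and `κ (x1 v) = κ v` (`t0 x1 t0⁻¹ = x1⁻¹`), so `κ v = z0 ^ (v 0).val`, `z0 = κ e0`. If `z0 = 1`, `U` is equivariant for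
the generators `f0, x1, t0` (`gen`). -/
theorem gen : Subgroup.closure ({B7.f0, B7.x1, t0} : Set L32) = ⊤ := by
  set H := Subgroup.closure ({B7.f0, B7.x1, t0} : Set L32) with hH
  have f : B7.f0 ∈ H := subset_closure (by simp)
  have x : B7.x1 ∈ H := subset_closure (by simp)
  have t : t0 ∈ H := subset_closure (by simp)
  have u : ∀ p, B7.up p ∈ H := fun p => by
    have := ModB.words p
    simp only [List.mem_cons, List.not_mem_nil, or_false] at this
    rcases this with e | e | e | e | e | e | e | e <;> rw [e] <;>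
      first | exact one_mem _ | (repeat (first | exact f | exact x | exact t | refine mul_mem ?_ ?_))
  have d : B7.D ≤ H := fun a ha => by
    have b : Function.Bijective fun p => (⟨B7.up p, B7.up_D p⟩ : B7.D) :=
      (Nat.bijective_iff_injective_and_card _).2 ⟨fun p q e =>
        (by decide +kernel : ∀ p q, B7.up p = B7.up q → p = q) p q (congrArg Subtype.val e), by
          rw [B7.card_D]; simp⟩
    obtain ⟨p, e⟩ := b.2 ⟨a, ha⟩
    have e' : B7.up p = a := congrArg Subtype.val e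
    exact e' ▸ u p
  have c8 : 8 ∣ Nat.card H := B7.card_D ▸ card_dvd_of_le d
  have c7 := H.orderOf_dvd_natCard f
  have c3 := H.orderOf_dvd_natCard x
  rw [ordp (by norm_num) B7.f0_7.1 B7.f0_7.2.1] at c7
  rw [ordp (by norm_num) B7.x1_3.1 B7.x1_3.2.1] at c3
  have c : Nat.card L32 = 168 := CL.Rec.card_sl32
  refine eq_top_of_le_card H ?_
  rw [c]
  exact Nat.le_of_dvd Nat.card_pos (by omega)

theorem modB (h2 : ∀ w : W, w * w = 1) (nt : ∃ a w, ρ a w ≠ w) (n : ¬ StM ρ) :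
    (B7.NatM ρ ∨ U4M ρ) ∨ (B7.NatM (ρ.comp B7.σ) ∨ U4M (ρ.comp B7.σ)) := by
  have k : ∀ w, QuotientGroup.mk' (ModB.fx ρ) w = 1 ↔ ∀ a, ρ a w = w := fun w => QuotientGroup.eq_one_iff w
  have s := QuotientGroup.mk'_surjective (ModB.fx ρ)
  have e : ∀ a w, QuotientGroup.mk' (ModB.fx ρ) (ρ a w) = ModB.qt ρ a (QuotientGroup.mk' (ModB.fx ρ) w) :=
    fun _ _ => rfl
  have := modA (ρ := ModB.qt ρ) (fun w => by obtain ⟨w, rfl⟩ := s w; rw [← map_mul, h2, map_one]) (fun w hw => by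
      obtain ⟨w, rfl⟩ := s w
      refine (k w).2 (ModB.nofix gen h2 fun a => (k _).1 ?_)
      rw [map_div, e, hw, div_self'])
    (by obtain ⟨a, w, h⟩ := nt; exact ⟨_, fun c => h ((k w).1 c a)⟩)
    (fun ⟨w, h⟩ => n (by
      obtain ⟨w, rfl⟩ := s w
      refine ⟨w, fun c => h ?_⟩
      simp only [← e, ← map_prod, c, map_one]))
  refine this.imp (ModB.lift gen h2 _ s k e) (ModB.lift gen h2 _ s (fun w => (k w).trans ⟨fun c a => c _, fun c a => ?_⟩)
    fun a w => e _ w)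
  have := c (B7.σ a)
  rwa [MonoidHom.comp_apply, B7.σσ] at this

end CL.L37
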