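import Cfsg.Agent.FGS.L37.Sol1
import Cfsg.Agent.FGS.Ord8.R1b

/-!
Frobenius groups of order `21` acting on `2`-groups; facts on `Q . L₃(2)`.
-/

set_option autoImplicit false
set_option linter.unusedSectionVars false

namespace CL.L37

open Subgroup Cfsg CL.MSS CL.Ord6 CL.Ord8
open scoped commutatorElement MatrixGroups

universe u

variable {G : Type*} [Group G] [Finite G]

/-- an abelian section as an additive group -/
theorem Zp.sec {G : Type u} [Group G] {X Y : Subgroup G} (h : ∀ a ∈ Y, ∀ b ∈ Y, ⁅a, b⁆ ∈ X) :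
    ∃ (V : Type u) (_ : AddCommGroup V) (f : G → V), (∀ x ∈ Y, ∀ y ∈ Y, f (x * y) = f x + f y) ∧ ∀ x ∈ Y, f x = 0 ↔ x ∈ X := by
  classical
  have : (X.subgroupOf Y).Normal := ⟨fun x hx a => by
    simpa [mem_subgroupOf, commutatorElement_def] using mul_mem (h a a.2 x x.2) (mem_subgroupOf.1 hx)⟩
  let _ : CommGroup (Y ⧸ X.subgroupOf Y) := { (inferInstance : Group _) with
    mul_comm := by
      rintro ⟨a⟩ ⟨c⟩
      exact commutatorElement_eq_one_iff_mul_comm.1 ((QuotientGroup.eq_one_iff ⁅a, c⁆).2 (h _ a.2 _ c.2)) }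
  refine ⟨Additive (Y ⧸ X.subgroupOf Y), inferInstance,
    fun x => if k : x ∈ Y then Additive.ofMul (QuotientGroup.mk ⟨x, k⟩) else 0, fun x hx y hy => ?_, fun x hx => ?_⟩
  · simp only [dif_pos hx, dif_pos hy, dif_pos (mul_mem hx hy)]
    rfl
  · simp only [dif_pos hx]
    exact QuotientGroup.eq_one_iff _

/-- two elements of order `r` in the same coset of a normal `2`-subgroup are conjugate under it -/
theorem Zp.cj {Γ : Type*} [Group Γ] (π : G →* Γ) (p : IsPGroup 2 π.ker) {r : ℕ} (hr : r.Prime) (r2 : r ≠ 2) {x x' : G}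
    (a : x ^ r = 1) (a' : x' ^ r = 1) (e : π x' = π x) : ∃ u, π u = 1 ∧ u * x * u⁻¹ = x' := by
  have := Fact.mk hr
  have := Fintype.ofFinite π.ker
  let σ : Equiv.Perm π.ker :=
    { toFun := fun u => ⟨x' * u * x⁻¹, by simp [MonoidHom.mem_ker, e, show π u = 1 from u.2]⟩
      invFun := fun u => ⟨x'⁻¹ * u * x, by simp [MonoidHom.mem_ker, e, show π u = 1 from u.2]⟩
      left_inv := fun u => Subtype.ext (by simp [mul_assoc])
      right_inv := fun u => Subtype.ext (by simp [mul_assoc]) }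
  have k : ∀ (n : ℕ) (u : π.ker), ((σ ^ n) u).1 = x' ^ n * u * (x ^ n)⁻¹ := fun n u => by
    induction n with
    | zero => simp
    | succ n ih =>
      rw [pow_succ', Equiv.Perm.mul_apply]
      show x' * ((σ ^ n) u).1 * x⁻¹ = _
      rw [ih]
      group
  obtain ⟨m, hm⟩ := IsPGroup.iff_card.1 p
  obtain ⟨u, hu⟩ := Equiv.Perm.exists_fixed_point_of_prime (p := r) (n := 1) (σ := σ) (by
    rw [← Nat.card_eq_fintype_card, hm]
    exact fun d => r2 ((Nat.prime_dvd_prime_iff_eq hr Nat.prime_two).1 (hr.dvd_of_dvd_pow d)))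
    (Equiv.ext fun u => Subtype.ext (by rw [pow_one, k, a, a']; simp))
  refine ⟨u, u.2, ?_⟩
  have : x' * u * x⁻¹ = u := congrArg Subtype.val hu
  rw [mul_inv_eq_iff_eq_mul, ← mul_inv_eq_iff_eq_mul.1 this]

/-- an element of odd order that centralizes `Ω₁ Z(Q)` centralizes `Z(Q)` -/
theorem Zp.om {Q : Subgroup G} (p : IsPGroup 2 Q) {w z : G} {r : ℕ} (hr : r.Coprime 2) (wr : w ^ r = 1) (wn : w ∈ 𝐍 Q)
    (c : w ∈ 𝐂 (B7.Om Q)) (hz : z ∈ Q) (zc : z ∈ 𝐂 Q) : z * w = w * z := by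
  obtain ⟨k, e⟩ := isPGroup_iff_forall_mem.1 p z hz
  induction k generalizing z with
  | zero => simp [show z = 1 by simpa using e]
  | succ k ih =>
    have i := ih (mul_mem hz hz) (mul_mem zc zc) (by rwa [← sq, ← pow_mul, ← pow_succ'])
    have m := R1.cj wn hz
    have d : w * z * w⁻¹ * z⁻¹ ∈ B7.Om Q := ⟨mul_mem m (inv_mem hz), by
      rw [(show Commute z⁻¹ (w * z * w⁻¹) from (inv_mem zc _ m).symm).mul_mul_mul_comm, conj_mul, ← i, ← mul_inv_rev]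
      group, fun q hq => by
      rw [mul_assoc, ← inv_mem zc q hq, show w * z * w⁻¹ * (q * z⁻¹) = w * (z * (w⁻¹ * q * w)) * w⁻¹ * z⁻¹ by group,
        ← zc _ (R1.cj' wn hq)]
      group⟩
    have t : ∀ n : ℕ, w ^ n * z * (w ^ n)⁻¹ = (w * z * w⁻¹ * z⁻¹) ^ n * z := fun n => by
      induction n with
      | zero => simp
      | succ n ih =>
        rw [pow_succ', mul_inv_rev, show w * w ^ n * z * ((w ^ n)⁻¹ * w⁻¹) = w * (w ^ n * z * (w ^ n)⁻¹) * w⁻¹ by group, ih,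
          ← mul_assoc, ← c _ (pow_mem d n), pow_succ]
        group
    have := t r
    rw [wr, one_mul, inv_one, mul_one, eq_comm, mul_eq_right] at this
    have := one_of_cop this ((sq _).trans d.2.1) hr
    rw [← mul_inv_eq_one, ← inv_eq_one, ← this]
    group

theorem Zp.gen {K : Subgroup L32} (a : B7.x1 ∈ K) (b : B7.mk 0 0 1 0 1 0 1 0 0 * B7.x1 * B7.mk 0 0 1 0 1 0 1 0 0 ∈ K) : K = ⊤ := by
  have := CL.Rec.simple_sl32
  have c3 := ordp Nat.prime_three B7.x1_3.1 B7.x1_3.2.1 ▸ K.orderOf_dvd_natCard a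
  have c7 := K.orderOf_dvd_natCard (mul_mem a b)
  rw [ord7 (B7.p7 (by decide +kernel)) (by decide +kernel)] at c7
  have c4 := K.orderOf_dvd_natCard (mul_mem a (mul_mem b b))
  rw [orderOf_eq_prime_pow (p := 2) (n := 1) (by rw [pow_one, sq]; decide +kernel)
    (by rw [pow_succ, pow_mul, pow_one, sq, sq]; decide +kernel)] at c4
  have m := K.card_mul_index
  rw [Rec.card_sl32] at m
  obtain ⟨n, hn⟩ : 84 ∣ ♯K := by omega
  have : n * K.index = 2 := by rw [hn, mul_assoc] at m; omega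
  rcases (Nat.dvd_prime Nat.prime_two).1 (Dvd.intro_left _ this) with e | e
  · exact index_eq_one.1 e
  · exact ((normal_of_index_eq_two e).eq_bot_or_eq_top).resolve_left fun k => B7.x1_3.2.1 (mem_bot.1 (k ▸ a))

/-- **Lemma Z'.** PROOF. `D = Z(Q) ⊓ C(y) ⊓ C(c)`, `U = {u ∈ Q | ⁅u, Q⁆ ≤ D}` is a subgroup normalized by `y, c`, `Z = Z(Q) ≤ U`.
For `w = y` or a conjugate of `c`, `C_U(w) ≤ Z` (`lem1`), so `w` has no fixed point on `U / Z` (coprime, `R1b.fixq`). A group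
of order `21` acting on a `2`-group with `y` fixed point free has `C(c) ≠ 1` (S0666 / S1545 / S4119; or on an elementary
abelian section `7 = N(y) + ∑ N(c_i) - ∑ F₂₁`). So `U = Z`. -/
theorem zp (h : HD G) {Q : Subgroup G} (p : IsPGroup 2 Q) {y c b : G} (f : F21 (𝐍 Q) y c) (hb : b ∈ Q)
    (k : ∀ q ∈ Q, ⁅b, q⁆ * y = y * ⁅b, q⁆ ∧ ⁅b, q⁆ * c = c * ⁅b, q⁆ ∧ ∀ q' ∈ Q, ⁅b, q⁆ * q' = q' * ⁅b, q⁆) :
    ∀ q ∈ Q, b * q = q * b := by
  let D : Subgroup G := 𝐂 Q ⊓ 𝐜 y ⊓ 𝐜 c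
  have nD : ∀ g ∈ Q, ∀ d ∈ D, g * d * g⁻¹ = d := fun g hg d hd => mul_inv_eq_iff_eq_mul.2 (hd.1.1 g hg)
  let U : Subgroup G :=
    { carrier := {u | u ∈ Q ∧ ∀ q ∈ Q, ⁅u, q⁆ ∈ D}
      one_mem' := ⟨one_mem _, fun q _ => by simp⟩
      mul_mem' := fun {a b} ha hb => ⟨mul_mem ha.1 hb.1, fun q hq => by
        convert mul_mem (hb.2 q hq) (ha.2 q hq) using 1
        rw [← nD a ha.1 _ (hb.2 q hq)]
        simp only [commutatorElement_def]
        group⟩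
      inv_mem' := fun {a} ha => ⟨inv_mem ha.1, fun q hq => by
        convert inv_mem (ha.2 q hq) using 1
        rw [← nD _ (inv_mem ha.1) _ (inv_mem (ha.2 q hq))]
        simp only [commutatorElement_def]
        group⟩ }
  obtain ⟨V, _, φ, fm, f0⟩ := Zp.sec (X := 𝐂 Q) (Y := U) fun a ha b hb => (ha.2 b hb.1).1.1
  have cU : ∀ g ∈ 𝐍 Q ⊓ 𝐂 D, ∀ u ∈ U, g * u * g⁻¹ ∈ U := fun g hg u hu => ⟨R1.cj hg.1 hu.1, fun q hq => by
    have := hu.2 _ (R1.cj' hg.1 hq)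
    rwa [← mul_inv_eq_iff_eq_mul.2 (hg.2 _ this).symm,
      show g * ⁅u, g⁻¹ * q * g⁆ * g⁻¹ = ⁅g * u * g⁻¹, q⁆ by simp only [commutatorElement_def]; group] at this⟩
  have nm : ∀ {r : ℕ} (_ : r = 3 ∨ r = 7), ∀ w ∈ 𝐍 Q ⊓ 𝐂 D, w ^ r = 1 → w ≠ 1 → ∀ u ∈ U,
      ∑ j ∈ Finset.range r, φ (w ^ j * u * (w ^ j)⁻¹) = 0 := fun {r} hr w hw wr w1 u hu => by
    have a : ∀ i : ℕ, ∃ n ∈ U, φ n = ∑ j ∈ Finset.range i, φ (w ^ j * u * (w ^ j)⁻¹) ∧
        φ (w * n * w⁻¹) = ∑ j ∈ Finset.range i, φ (w ^ (j + 1) * u * (w ^ (j + 1))⁻¹) := fun i => by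
      induction i with
      | zero => exact ⟨1, one_mem _, by simpa using (f0 1 (one_mem _)).2 (one_mem _)⟩
      | succ i ih =>
        obtain ⟨n, hn, a, b⟩ := ih
        have := cU _ (pow_mem hw i) u hu
        refine ⟨_, mul_mem hn this, by rw [fm _ hn _ this, a, Finset.sum_range_succ], ?_⟩
        rw [← conj_mul, fm _ (cU w hw n hn) _ (cU w hw _ this), b, Finset.sum_range_succ, pow_succ' w i]
        simp only [mul_inv_rev, mul_assoc]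
    obtain ⟨n, hn, a, b⟩ := a r
    have e : φ (w * n * w⁻¹) = φ n := by
      have := Finset.sum_range_succ' (fun j => φ (w ^ j * u * (w ^ j)⁻¹)) r
      rw [Finset.sum_range_succ, ← a, ← b, wr, pow_zero] at this
      exact (add_right_cancel this).symm
    have m := mul_mem (cU w hw n hn) (inv_mem hn)
    have nz : 𝐍 Q ≤ 𝐍 (Q ⊓ 𝐂 Q) := fun g hg => mem_normalizer_fintype fun v hv => ⟨R1.cj hg hv.1, fun q hq => by
      rw [show q * (g * v * g⁻¹) = g * (g⁻¹ * q * g * v) * g⁻¹ by group, hv.2 _ (R1.cj' hg hq)]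
      group⟩
    obtain ⟨t, ht, c⟩ := R1b.fixq (p.to_le (inf_le_left : Q ⊓ 𝐂 Q ≤ Q)) (n := r) (by rcases hr with rfl | rfl <;> norm_num) wr
      (nz hw.1) (nz (le_normalizer hn.1)) ⟨m.1, (f0 _ m).1 (by
        have := fm _ m _ hn
        rwa [inv_mul_cancel_right, e, right_eq_add] at this)⟩
    have nt : n * t ∈ U := mul_mem hn ⟨ht.1, fun q hq => by
      rw [commutatorElement_eq_one_iff_mul_comm.2 (ht.2 q hq).symm]; exact one_mem _⟩
    have := lem1 h hr p wr w1 hw.1 nt.1 c fun q hq => ⟨hw.2 _ (nt.2 q hq), fun q' hq' => ((nt.2 q hq).1.1 q' hq').symm⟩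
    rw [← a, f0 n hn]
    simpa using mul_mem (show n * t ∈ 𝐂 Q from fun q hq => (this q hq).symm) (inv_mem ht.2)
  have bU : b ∈ U := ⟨hb, fun q hq => ⟨⟨fun q' hq' => ((k q hq).2.2 q' hq').symm, mem_c.2 (k q hq).1⟩, mem_c.2 (k q hq).2.1⟩⟩
  have hy : y ∈ 𝐍 Q ⊓ 𝐂 D := ⟨f.hy, fun d hd => mem_c.1 hd.1.2⟩
  have hc : c ∈ 𝐍 Q ⊓ 𝐂 D := ⟨f.hc, fun d hd => mem_c.1 hd.2⟩
  have t : ∀ n : ℕ, c * y ^ n = y ^ (2 * n) * c := fun n => by rw [← mul_inv_eq_iff_eq_mul, ← conj_pow, f.cy, pow_mul]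
  have s2 : ∀ i : ℕ, (y ^ i * c) ^ 2 = (y ^ 3) ^ i * (c * c) := fun i => by
    rw [pow_two, mul_assoc, ← mul_assoc c, t, ← pow_mul]
    group
  have a := fun i : ℕ => nm (.inl rfl) _ (mul_mem (pow_mem hy i) hc) (by
    rw [pow_succ, s2, mul_assoc, mul_assoc c, ← mul_assoc c (y ^ i), t, mul_assoc, ← mul_assoc c (y ^ _), t,
      mul_assoc (y ^ _) c, ← pow_three, f.c3, mul_one, ← pow_mul, ← pow_add, show 3 * i + 2 * (2 * i) = 7 * i by ring, pow_mul,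
      f.y7, one_pow]) (fun e => f.c1 (one_of_cop f.c3 (n := 7) (by
        rw [eq_inv_of_mul_eq_one_right e, inv_pow, ← pow_mul, mul_comm, pow_mul, f.y7, one_pow, inv_one]) (by norm_num))) b bU
  have a1 := nm (.inr rfl) y hy f.y7 f.y1 _ (cU c hc b bU)
  have a2 := nm (.inr rfl) _ (pow_mem hy 3) (by rw [← pow_mul, mul_comm, pow_mul, f.y7, one_pow])
    (fun e => f.y1 (one_of_cop e f.y7 (by norm_num))) _ (cU _ (mul_mem hc hc) b bU)
  have a3 := Finset.sum_eq_zero (s := Finset.range 7) fun i _ => a i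
  simp only [Finset.sum_range_succ _ 2, Finset.sum_range_succ _ 1, Finset.sum_range_one, pow_zero, pow_one, s2, one_mul, inv_one,
    mul_one, Finset.sum_add_distrib, Finset.sum_const, Finset.card_range] at a3
  simp only [mul_inv_rev, mul_assoc] at a1 a2 a3
  rw [a1, a2, add_zero, add_zero] at a3
  have pw : ∀ n : ℕ, φ (b ^ n) = n • φ b := fun n => by
    induction n with
    | zero => simpa using (f0 1 (one_mem _)).2 (one_mem _)
    | succ n ih => rw [pow_succ, fm _ (pow_mem bU n) _ bU, ih, succ_nsmul]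
  have := pow_mem ((f0 _ (pow_mem bU 7)).1 (by rw [pw, a3])) 7
  rw [← pow_mul, show 7 * 7 = 16 * 3 + 1 from rfl, pow_succ, pow_mul, h.p16 p hb, one_pow, one_mul] at this
  exact fun q hq => (this q hq).symm

/-- lifting a Frobenius group. PROOF as `B7.lifts`: `y = a ^ 400`, `c = b ^ 400` (`HD.lift`); `c` permutes the Sylow
`7`-subgroups of `Q⟨y⟩`, whose number divides `|Q|`, so normalizes one. -/
theorem lift21 (h : HD G) {Γ : Type*} [Group Γ] (π : G →* Γ) (p : IsPGroup 2 π.ker) {a b : G} (a7 : π a ^ 7 = 1)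
    (a1 : π a ≠ 1) (b3 : π b ^ 3 = 1) (e : π b * π a * (π b)⁻¹ = π a ^ 2) :
    ∃ y c : G, π y = π a ∧ π c = π b ∧ F21 ⊤ y c := by
  have b1 : π b ≠ 1 := fun k => a1 (by rw [k, one_mul, inv_one, mul_one, sq] at e; exact left_eq_mul.1 e)
  obtain ⟨y7, ey⟩ := h.lift π (.inr (.inl rfl)) a7 a1
  generalize a ^ 400 = y at y7 ey
  obtain ⟨u, hu, k⟩ := Zp.cj π p (r := 7) (by norm_num) (by norm_num) (x := b * y * b⁻¹) (x' := y ^ 2)
    (by rw [conj_pow, y7]; simp) (by rw [← pow_mul, mul_comm, pow_mul, y7, one_pow]) (by simp [ey, e])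
  replace k : u * b * y * (u * b)⁻¹ = y ^ 2 := by rw [← k]; group
  have hc : π (u * b) = π b := by rw [map_mul, hu, one_mul]
  generalize u * b = c at k hc
  obtain ⟨c3, ec⟩ := h.lift π (.inl rfl) (hc ▸ b3) (hc ▸ b1)
  refine ⟨y, c ^ 400, ey, ec.trans hc, trivial, trivial, y7, fun k => a1 (by rw [← ey, k, map_one]), c3,
    fun k => b1 (by rw [← hc, ← ec, k, map_one]), ?_⟩
  have t : ∀ n : ℕ, c ^ n * y * (c ^ n)⁻¹ = y ^ 2 ^ n := fun n => by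
    induction n with
    | zero => simp
    | succ n ih =>
      rw [pow_succ', mul_inv_rev, show c * c ^ n * y * ((c ^ n)⁻¹ * c⁻¹) = c * (c ^ n * y * (c ^ n)⁻¹) * c⁻¹ by group, ih,
        ← conj_pow, k, ← pow_mul, pow_succ']
  rw [t, pow_eq_pow_mod _ y7, show 2 ^ 400 % 7 = 2 by decide +kernel]

theorem Ty7.f21 {H : Subgroup G} (h : HD G) (t : Ty7 H) : ∃ y c, F21 H y c := by
  obtain ⟨π, r, k⟩ := t
  obtain ⟨a, ha⟩ := r B7.f0
  obtain ⟨b, hb⟩ := r B7.x1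
  obtain ⟨y, c, -, -, f⟩ := lift21 (h.subgroup H) π (a := a) (b := b) (by
    rw [show π.ker = (𝐎 H).comap H.subtype from Subgroup.ext k]
    exact (oP_isPGroup H).comap_subtype) (ha ▸ B7.f0_7.1) (ha ▸ B7.f0_7.2.1) (hb ▸ B7.x1_3.1)
    (by rw [ha, hb, B7.f0_7.2.2, sq, mul_inv_cancel_right])
  exact ⟨y, c, y.2, c.2, congrArg Subtype.val f.y7, fun e => f.y1 (Subtype.ext e), congrArg Subtype.val f.c3,
    fun e => f.c1 (Subtype.ext e), congrArg Subtype.val f.cy⟩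

theorem Ty7.card {H : Subgroup G} (t : Ty7 H) : ♯H = 168 * ♯(𝐎 H) := by
  obtain ⟨π, r, k⟩ := t
  rw [← π.ker.index_mul_card, index_ker, MonoidHom.range_eq_top.2 r, card_top, Rec.card_sl32,
    show π.ker = (𝐎 H).subgroupOf H from Subgroup.ext k, Nat.card_congr (subgroupOfEquivOfLe (oP_le H)).toEquiv]

/-- `L₃(2)` is generated by two conjugates of any element of order three (Sylow; one explicit pair). -/
theorem Ty7.two_gen {H : Subgroup G} (t : Ty7 H) {x : G} (hx : x ∈ H) (x3 : x ^ 3 = 1) (x1 : x ≠ 1) :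
    ∃ g ∈ H, zpowers x ⊔ zpowers (g * x * g⁻¹) ⊔ 𝐎 H = H := by
  obtain ⟨π, r, k⟩ := t
  have X3 : π ⟨x, hx⟩ ^ 3 = 1 := by rw [← map_pow, show (⟨x, hx⟩ : H) ^ 3 = 1 from Subtype.ext x3, map_one]
  have X1 : π ⟨x, hx⟩ ≠ 1 := fun e => by
    obtain ⟨n, hn⟩ := isPGroup_iff_forall_mem.1 (oP_isPGroup H) x ((k _).1 e)
    exact x1 (one_of_cop x3 hn (Nat.Coprime.pow_right n (by norm_num)))
  have := Fact.mk Nat.prime_three
  have cz : ∀ {a : L32}, a ^ 3 = 1 → a ≠ 1 → ♯(zpowers a) = 3 ^ 1 := fun a b => by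
    rw [Nat.card_zpowers, ordp Nat.prime_three a b, pow_one]
  obtain ⟨g, -, hg⟩ := (sylIn_of_not_dvd_relIndex (IsPGroup.of_card (cz X3 X1)) le_top (by
    have := (zpowers (π ⟨x, hx⟩)).card_mul_index
    rw [cz X3 X1, Rec.card_sl32] at this
    rw [relIndex_top_right]
    omega)).exists_conj_le (IsPGroup.of_card (cz B7.x1_3.1 B7.x1_3.2.1)) le_top
  obtain ⟨n, hn⟩ := hg (mem_cj'.2 ⟨_, mem_zpowers _, rfl⟩)
  obtain ⟨m, hm⟩ := r (g * B7.mk 0 0 1 0 1 0 1 0 0 * g⁻¹)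
  refine ⟨m, m.2, le_antisymm (sup_le (sup_le (zpowers_le.2 hx) (zpowers_le.2 (mul_mem (mul_mem m.2 hx) (inv_mem m.2))))
    (oP_le H)) ?_⟩
  set K := zpowers x ⊔ zpowers (m * x * m⁻¹) ⊔ 𝐎 H
  have a : π ⟨x, hx⟩ ∈ (K.subgroupOf H).map π := mem_map_of_mem π (mem_sup_left (mem_sup_left (mem_zpowers _)))
  have b : π (m * ⟨x, hx⟩ * m⁻¹) ∈ (K.subgroupOf H).map π := mem_map_of_mem π (mem_sup_left (mem_sup_right (mem_zpowers _)))
  have tp := Zp.gen (K := g⁻¹ •ᶜ (K.subgroupOf H).map π) (mem_cj'.2 ⟨_, zpow_mem a n, by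
    rw [show π ⟨x, hx⟩ ^ n = _ from hn]; group⟩) (mem_cj'.2 ⟨_, zpow_mem b n, by
    rw [map_mul, map_mul, map_inv, conj_zpow, show π ⟨x, hx⟩ ^ n = _ from hn, hm, mul_inv_rev, mul_inv_rev,
      inv_eq_of_mul_eq_one_right (show B7.mk 0 0 1 0 1 0 1 0 0 * B7.mk 0 0 1 0 1 0 1 0 0 = 1 by decide +kernel)]
    group⟩)
  intro v hv
  obtain ⟨_, ⟨w, hw, rfl⟩, e⟩ := mem_cj'.1 (tp.ge (mem_top (g⁻¹ * π ⟨v, hv⟩ * g⁻¹⁻¹)))
  have : (w⁻¹ * ⟨v, hv⟩ : H).1 ∈ K := mem_sup_right ((k (w⁻¹ * (⟨v, hv⟩ : H))).1 (by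
    rw [map_mul, map_inv, show π w = π ⟨v, hv⟩ by simpa using e, inv_mul_cancel]))
  exact (by simpa using mul_mem (mem_subgroupOf.1 hw) this : v ∈ K)

/-- `M` acts faithfully on `Ω₁Z(Q)` modulo `Q`. PROOF. `K = M ⊓ C(Y)` is normal; if `¬ K ≤ Q` then `K Q = M` (simplicity), so `M`
centralizes `Y` and `y, c` (from `lift21`) centralize `Z(Q)` (coprime action on an abelian `2`-group, trivial on `Ω₁`). `zp`
gives `Z₂(Q) = Z(Q)`, so `Q` is abelian and `y ∈ C(Q) ≤ Q`. -/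
theorem faith (h : HD G) {M Q : Subgroup G} {π : M →* L32} (l : Loc M Q π) (r : Function.Surjective π) :
    M ⊓ 𝐂 (B7.Om Q) ≤ Q := by
  have := CL.Rec.simple_sl32
  have nO : M ≤ 𝐍 (B7.Om Q) := l.nQ ▸ B7.Om_nz
  have kn : ((𝐂 (B7.Om Q)).subgroupOf M).Normal := ⟨fun a ha g v hv => by
    show v * (g.1 * a.1 * g.1⁻¹) = g.1 * a.1 * g.1⁻¹ * v
    rw [show v * (g.1 * a.1 * g.1⁻¹) = g.1 * (g.1⁻¹ * v * g.1 * a.1) * g.1⁻¹ by group, mem_subgroupOf.1 ha _ (R1.cj' (nO g.2) hv)]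
    group⟩
  rcases (kn.map π r).eq_bot_or_eq_top with e | e
  · exact fun g hg => (l.ker ⟨g, hg.1⟩).1 (mem_bot.1 (e ▸ mem_map_of_mem π (show ⟨g, hg.1⟩ ∈ (𝐂 (B7.Om Q)).subgroupOf M from hg.2)))
  exfalso
  have al : M ≤ 𝐂 (B7.Om Q) := fun v hv => by
    obtain ⟨w, hw, e⟩ : π ⟨v, hv⟩ ∈ ((𝐂 (B7.Om Q)).subgroupOf M).map π := e ▸ mem_top _
    simpa using mul_mem (mem_subgroupOf.1 hw) (show (w⁻¹ * ⟨v, hv⟩ : M).1 ∈ 𝐂 (B7.Om Q) from fun u hu =>
      hu.2.2 _ ((l.ker _).1 (by rw [map_mul, map_inv, e, inv_mul_cancel])))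
  obtain ⟨a, ha⟩ := r B7.f0
  obtain ⟨b, hb⟩ := r B7.x1
  obtain ⟨y, c, -, -, f⟩ := lift21 (h.subgroup M) π (a := a) (b := b) (B7.pker l) (ha ▸ B7.f0_7.1) (ha ▸ B7.f0_7.2.1)
    (hb ▸ B7.x1_3.1) (by rw [ha, hb, B7.f0_7.2.2, sq, mul_inv_cancel_right])
  replace f : F21 (𝐍 Q) y.1 c.1 := ⟨l.nQ.ge y.2, l.nQ.ge c.2, congrArg Subtype.val f.y7, fun e => f.y1 (Subtype.ext e),
    congrArg Subtype.val f.c3, fun e => f.c1 (Subtype.ext e), congrArg Subtype.val f.cy⟩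
  have ab : Q ≤ 𝐂 Q := by
    by_contra n
    obtain ⟨u, hu, un⟩ := SetLike.not_le_iff_exists.1 n
    have : Nontrivial (Q ⧸ center Q) := ⟨(⟨u, hu⟩ : Q), 1, fun e => un fun q hq =>
      congrArg Subtype.val (mem_center_iff.1 ((QuotientGroup.eq_one_iff _).1 e) ⟨q, hq⟩)⟩
    have := (l.pQ.to_quotient (center Q)).center_nontrivial
    obtain ⟨⟨⟨z⟩, hz⟩, z1⟩ := exists_ne (1 : center (Q ⧸ center Q))
    refine z1 (Subtype.ext ((QuotientGroup.eq_one_iff z).2 (mem_center_iff.2 fun q => Subtype.ext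
      (zp h l.pQ f z.2 (fun q hq => ?_) q q.2).symm)))
    have m : ⁅z, (⟨q, hq⟩ : Q)⁆ ∈ center Q := (QuotientGroup.eq_one_iff _).1
      (commutatorElement_eq_one_iff_mul_comm.2 (mem_center_iff.1 hz (⟨q, hq⟩ : Q)).symm :
        ⁅(z : Q ⧸ center Q), ((⟨q, hq⟩ : Q) : Q ⧸ center Q)⁆ = 1)
    have m' : ⁅z.1, q⁆ ∈ 𝐂 Q := fun v hv => congrArg Subtype.val (mem_center_iff.1 m ⟨v, hv⟩)
    exact ⟨Zp.om l.pQ (by norm_num) f.y7 f.hy (al y.2) ⁅z, (⟨q, hq⟩ : Q)⁆.2 m',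
      Zp.om l.pQ (by norm_num) f.c3 f.hc (al c.2) ⁅z, (⟨q, hq⟩ : Q)⁆.2 m', fun v hv => (m' v hv).symm⟩
  exact f.y1 (one_of_cop f.y7 (h.p16 l.pQ (l.cQ fun q hq => Zp.om l.pQ (by norm_num) f.y7 f.hy (al y.2) hq (ab hq))) (by norm_num))

end CL.L37
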