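import Cfsg.Agent.FGS.L37.R1
import Cfsg.Agent.FGS.L37.Zp
import Cfsg.Agent.FGS.L37.ModB

/-!
The natural case: port of `B7.core`.
-/

set_option autoImplicit false
set_option linter.unusedSectionVars false

namespace CL.L37

open Subgroup Cfsg CL.MSS CL.Ord6 CL.Ord8
open scoped commutatorElement MatrixGroups

universe u

variable {G : Type*} [Group G] [Finite G]
variable {M Q : Subgroup G} {π : M →* L32}

namespace BldN

open B7

theorem zp2 {w u : G} (e : w * w = 1) (h : u ∈ zpowers w) : u = 1 ∨ u = w := by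
  obtain ⟨k, rfl⟩ := h
  have e2 : w ^ (2 : ℤ) = 1 := by rw [zpow_two, e]
  rcases Int.even_or_odd' k with ⟨j, rfl | rfl⟩
  · exact .inl (by simp only [zpow_mul, e2, one_zpow])
  · exact .inr (by simp only [zpow_add, zpow_mul, e2, one_zpow, one_mul, zpow_one])

theorem dec (l : Loc M Q π) {V : Subgroup G} (nV : M ≤ 𝐍 V) (hV : V ≤ Q) {y : G} (hy : y ∈ M) (y7 : y ^ 7 = 1) {q : G}
    (hq : q ∈ Q) (c : ⁅q, y⁆ ∈ V) : ∃ u ∈ V, ∃ d ∈ Q, d * y = y * d ∧ q = u * d := by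
  have : (V.subgroupOf M).Normal := (normal_subgroupOf_iff_le_normalizer (hV.trans (QM l))).2 nV
  obtain ⟨u, hu, e⟩ := Zp.cj (QuotientGroup.mk' (V.subgroupOf M))
    (by rw [QuotientGroup.ker_mk']; exact (l.pQ.to_le hV).comap_subtype) (r := 7) (by norm_num) (by norm_num)
    (x := ⟨y, hy⟩) (x' := ⟨q, QM l hq⟩ * ⟨y, hy⟩ * ⟨q, QM l hq⟩⁻¹) (Subtype.ext y7)
    (by rw [conj_pow, show (⟨y, hy⟩ : M) ^ 7 = 1 from Subtype.ext y7]; simp) (by
      rw [← mul_inv_eq_one, ← map_inv, ← map_mul, QuotientGroup.mk'_apply, QuotientGroup.eq_one_iff]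
      exact c)
  have hu' : u.1 ∈ V := (QuotientGroup.eq_one_iff u).1 hu
  have e' : u.1 * y * u.1⁻¹ = q * y * q⁻¹ := congrArg Subtype.val e
  refine ⟨u, hu', u.1⁻¹ * q, mul_mem (inv_mem (hV hu')) hq, ?_, by group⟩
  calc u.1⁻¹ * q * y = u.1⁻¹ * (q * y * q⁻¹) * q := by group
    _ = _ := by rw [← e']; group

theorem up_of {a : L32} (h : a ∈ D) : ∃ p, up p = a := by
  obtain ⟨p, e⟩ := (Function.Injective.bijective_of_nat_card_le (f := fun p => (⟨up p, up_D p⟩ : D))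
    (fun p q e => (by decide +kernel : ∀ p q, up p = up q → p = q) p q (congrArg Subtype.val e))
    (by rw [card_D]; simp)).2 ⟨a, h⟩
  exact ⟨p, congrArg Subtype.val e⟩

theorem trv {s : L32} (h : s ∈ E) (n : s ≠ 1) : ∃ a, a * s = t0 * a ∧ ac a e0 = e1 := by
  obtain ⟨p, rfl⟩ := up_of (E_le h)
  obtain ⟨a, -, e⟩ := (by decide +kernel : ∀ p, ac (up p) e2 1 = e2 1 → up p ≠ 1 →
    ∃ a ∈ [mk 0 0 1 1 0 0 0 1 0, mk 0 1 0 1 0 0 0 0 1, mk 0 1 0 1 0 0 0 1 1], a * up p = t0 * a ∧ ac a e0 = e1) p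
    (h e2).1 n
  exact ⟨a, e⟩

end BldN

open R1 (cj cj')

open B7 in
/-- PROOF. `C_Q(k)` is elementary for the element `k` of order `7` of the normal subgroup `K` of `B7.sqL` (`HD.lift`, `HD.inv`), and
`Q = [Q, k] C_Q(k) ≤ V C_Q(k)` (coprime action). -/
theorem sqL (h : HD G) (l : Loc M Q π) (r : Function.Surjective π) {V : Subgroup G} (nV : M ≤ 𝐍 V) (hV : V ≤ Om Q) {t : G}
    (ht : t ∈ M) (n : t ∉ Q) (c : ∀ q ∈ Q, ⁅q, t⁆ ∈ V) : (∀ q ∈ Q, q * q = 1) ∧ ∀ q ∈ Q, ∀ m ∈ M, ⁅q, m⁆ ∈ V := by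
  let K : Subgroup M :=
    { carrier := {m | ∀ q ∈ Q, ⁅q, m.1⁆ ∈ V}
      one_mem' := fun q _ => by simp
      mul_mem' := fun {a b} ha hb q hq => by
        have := mul_mem (ha q hq) (cj (nV a.2) (hb q hq))
        rwa [show ⁅q, a.1⁆ * (a.1 * ⁅q, b.1⁆ * a.1⁻¹) = ⁅q, a.1 * b.1⁆ by simp only [commutatorElement_def]; group] at this
      inv_mem' := fun {a} ha q hq => by
        have := cj' (nV a.2) (inv_mem (ha q hq))
        rwa [show a.1⁻¹ * ⁅q, a.1⁆⁻¹ * a.1 = ⁅q, a.1⁻¹⁆ by simp only [commutatorElement_def]; group] at this }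
  have kn : K.Normal := ⟨fun a ha g q hq => by
    have := cj (nV g.2) (ha _ (cj' (l.nQ.ge g.2) hq))
    rwa [show g.1 * ⁅g.1⁻¹ * q * g.1, a.1⁆ * g.1⁻¹ = ⁅q, g.1 * a.1 * g.1⁻¹⁆ by
      simp only [commutatorElement_def]; group] at this⟩
  have := CL.Rec.simple_sl32
  rcases (kn.map π r).eq_bot_or_eq_top with e | e
  · exact (n ((l.ker ⟨t, ht⟩).1 (mem_bot.1 (e ▸ mem_map_of_mem π (show ⟨t, ht⟩ ∈ K from c))))).elim
  obtain ⟨k, hk, ek⟩ : f0 ∈ K.map π := e ▸ mem_top _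
  obtain ⟨k7, k1⟩ := (h.subgroup M).lift π (r := 7) (by norm_num) (g := k) (ek ▸ f0_7.1) (ek ▸ f0_7.2.1)
  have hk' := pow_mem hk 400
  generalize k ^ 400 = y at k7 k1 hk'
  have el : ∀ q ∈ Q, q * q = 1 := fun q hq => by
    obtain ⟨u, hu, d, hd, c, rfl⟩ := BldN.dec l nV (fun v a => (hV a).1) y.2 (congrArg Subtype.val k7) hq (hk' q hq)
    have d2 := h.inv (r := 7) (by norm_num) (congrArg Subtype.val k7) (fun c => f0_7.2.1 (by
      rw [← ek, ← k1, show y = 1 from Subtype.ext c, map_one])) c.symm (h.p16 l.pQ hd)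
    rw [(show Commute u d from (hV hu).2.2 d hd).symm.mul_mul_mul_comm, (hV hu).2.1, d2, mul_one]
  refine ⟨el, fun q hq m hm => ?_⟩
  obtain ⟨j, hj, ej⟩ : π ⟨m, hm⟩ ∈ K.map π := e ▸ mem_top _
  have a : j⁻¹ * ⟨m, hm⟩ ∈ K := fun q hq => by
    rw [commutatorElement_eq_one_iff_mul_comm.2 (comm_sq el hq ((l.ker _).1 (by rw [map_mul, map_inv, ej, inv_mul_cancel])))]
    exact one_mem _
  have := mul_mem hj a
  rw [mul_inv_cancel_left] at this
  exact this q hq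

open B7 in
/-- PROOF. As `B7.core` (`V = range ζ`, `T = pre π D`, `Q1 = pre π E`, `z = ζ e0`; `y, x` from `lift21` over `f0, x1`). `r1` is
`CL.L37.r1` in the group `M`. `tv`: by `sqL`, `Q` is elementary abelian, `⁅Q, M⁆ ≤ V`, `Q = V C_Q(y)`. Let `c ∈ C_Q(y)`;
`⁅c, x⁆ ∈ V ⊓ C(y) = 1`. `π t` is an involution (a transvection of `V`), so a conjugate `t'` of `t` has `π t' = t0` and
`⁅Q, t'⁆ ≤ ⟨ζ e1⟩`. `u = ⁅c, t'⁆` is centralized by `x` (`t' x t'⁻¹ ∈ x⁻¹ Q`, `Q` abelian), so `u ∈ ⟨ζ e0⟩ ⊓ ⟨ζ e1⟩ = 1`; `c` commutes with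
`Q, y, x, t'`, which generate `M` (`closure {f0, x1, t0} = ⊤`, theorem `gen` of `L37/ModB`; `F₂₁` has index `8`). -/
theorem coreN (h : HD G) (l : Loc M Q π) (r : Function.Surjective π) (ζ : Vec → G) (ne : ∃ v, ζ v ≠ 1)
    (hQ : ∀ v, ζ v ∈ Q) (eq : ∀ (m : M) v, m.1 * ζ v * m.1⁻¹ = ζ (ac (π m) v)) (ad : ∀ v w, ζ (v + w) = ζ v * ζ w) :
    ∃ V T Q1 z x, Cn M Q V T Q1 z x := by
  have vv : ∀ v : Vec, v + v = 0 := by decide
  have z0 : ζ 0 = 1 := by simpa using ad 0 0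
  have s2 : ∀ v, ζ v * ζ v = 1 := fun v => by rw [← ad, vv, z0]
  have iv : ∀ v, (ζ v)⁻¹ = ζ v := fun v => inv_eq_of_mul_eq_one_right (s2 v)
  have tr : ∀ v, v ≠ 0 → ∃ m : M, ζ v = m.1 * ζ e0 * m.1⁻¹ := fun v hv => by
    obtain ⟨a, rfl⟩ := trans v hv
    obtain ⟨m, rfl⟩ := r a
    exact ⟨m, (eq m _).symm⟩
  have z1 : ζ e0 ≠ 1 := fun c => by
    obtain ⟨v, hv⟩ := ne
    obtain ⟨m, e⟩ := tr v fun c => hv (c ▸ z0)
    exact hv (by rw [e, c]; simp)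
  have inj : Function.Injective ζ := fun v w e => by
    by_contra c
    obtain ⟨m, k⟩ := tr (v + w) fun d => c ((by decide : ∀ v w : Vec, v + w = 0 → v = w) v w d)
    rw [ad, e, s2] at k
    exact z1 (conj_eq_one_iff.1 k.symm)
  let V : Subgroup G :=
    { carrier := Set.range ζ
      one_mem' := ⟨0, z0⟩
      mul_mem' := by rintro _ _ ⟨v, rfl⟩ ⟨w, rfl⟩; exact ⟨_, ad v w⟩
      inv_mem' := by rintro _ ⟨v, rfl⟩; exact ⟨v, (iv v).symm⟩ }
  have el : ∀ v ∈ V, v * v = 1 := by rintro _ ⟨v, rfl⟩; exact s2 v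
  have MV : M ≤ 𝐍 V := fun m hm => mem_normalizer_fintype (by rintro _ ⟨v, rfl⟩; exact ⟨_, (eq ⟨m, hm⟩ v).symm⟩)
  have nV : 𝐍 V = M := l.max V (fun g => ⟨1, Subtype.ext (by simpa [pow_two] using el g g.2)⟩)
    (fun c => z1 (mem_bot.1 (c ▸ (⟨e0, rfl⟩ : ζ e0 ∈ V)))) MV
  have cm : ∀ (m : M) v, m.1 * ζ v = ζ v * m.1 ↔ ac (π m) v = v := fun m v => by
    rw [← mul_inv_eq_iff_eq_mul, eq, inj.eq_iff]
  have co : ∀ (m : M) v, ⁅ζ v, m.1⁆ = ζ (v + ac (π m) v) := fun m v => by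
    rw [ad, ← eq, commutatorElement_def, iv]; group
  have cV : 𝐂 V = Q := le_antisymm (fun g hg => (l.ker ⟨g, nV.le (centralizer_le_normalizer _ hg)⟩).1
      (ac_ext fun v => (cm _ v).1 (hg _ ⟨v, rfl⟩).symm)) fun q hq => by
    rintro _ ⟨v, rfl⟩
    exact ((cm ⟨q, QM l hq⟩ v).2 (by rw [(l.ker _).2 hq, ac_one])).symm
  have cz : ∀ v, ∀ q ∈ pre π E, ⁅ζ v, q⁆ ∈ zpowers (ζ e0) := fun v q hq => by
    rw [co ⟨q, pre_le _ hq⟩]
    rcases mem_E.1 ((mem_pre ⟨q, pre_le _ hq⟩).1 hq) v with e | e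
    · rw [e, vv, z0]; exact one_mem _
    · rw [e, ← add_assoc, vv, zero_add]; exact mem_zpowers _
  have zT : pre π D ≤ 𝐜 (ζ e0) := fun t ht =>
    mem_c.2 ((cm ⟨t, pre_le _ ht⟩ _).2 ((mem_pre ⟨t, pre_le _ ht⟩).1 ht).1)
  obtain ⟨y0, hy0⟩ := r f0
  obtain ⟨x0, hx0⟩ := r x1
  obtain ⟨y, x, hy, hx, f⟩ := lift21 (h.subgroup M) π (pker l) (a := y0) (b := x0) (hy0 ▸ f0_7.1) (hy0 ▸ f0_7.2.1)
    (hx0 ▸ x1_3.1) (by rw [hy0, hx0, f0_7.2.2, mul_inv_cancel_right, pow_two])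
  rw [hy0] at hy
  rw [hx0] at hx
  have xz : x.1 * ζ e0 = ζ e0 * x.1 := (cm x _).2 (hx ▸ x1_3.2.2)
  have x3' : x.1 ^ 3 = 1 := congrArg Subtype.val f.c3
  have x1' : x.1 ≠ 1 := fun c => f.c1 (Subtype.ext c)
  have y7 : y.1 ^ 7 = 1 := congrArg Subtype.val f.y7
  have xy : x.1 * y.1 * x.1⁻¹ = y.1 ^ 2 := congrArg Subtype.val f.cy
  have VQ : V ≤ Q := by rintro _ ⟨v, rfl⟩; exact hQ v
  have VO : V ≤ Om Q := fun v hv => ⟨VQ hv, el v hv, fun q hq => cV.ge hq v hv⟩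
  have zV : zpowers (ζ e0) ≤ V := zpowers_le.2 ⟨e0, rfl⟩
  refine ⟨V, pre π D, pre π E, ζ e0, x, l.pQ, l.nQ, l.max, syl l r, ?_, el, ?_, nV, cV, ⟨e0, rfl⟩, z1, ?_, zT, x3', x1',
    x.2, xz, pre_bot l ▸ pre_mono bot_le, pre_mono E_le, fun c => ?_, fun s hs => mem_normalizer_fintype fun a ha => ?_,
    fun B p le n d hd => ?_, ?_, ?_, ?_, fun b hb k q hq => ?_,
    fun t ht n c => (sqL h l r MV VO ht n c).1, fun t ht n c q hq => ?_, fun A le e d => ?_⟩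
  · have a := pre_card r D
    have b := pre_card r ⊥
    rw [pre_bot l, index_bot, CL.Rec.card_sl32] at b
    rw [index_D] at a
    omega
  · exact (Nat.card_range_of_injective inj).trans (by simp)
  · rintro _ ⟨v, rfl⟩ n
    obtain ⟨m, e⟩ := tr v fun c => n (c ▸ z0)
    exact ⟨m, m.2, e⟩
  · obtain ⟨m, e⟩ := r (up (0, 0, 1))
    have := (mem_pre m).1 (c ((mem_pre m).2 (e ▸ up_D _))) e2
    rw [e] at this
    exact absurd this (by decide +kernel)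
  · refine (mem_pre (⟨s, hs.1⟩ * ⟨a, pre_le _ ha⟩ * ⟨s, hs.1⟩⁻¹)).2 ?_
    rw [map_mul, map_mul, map_inv]
    exact E_cj ((cm ⟨s, hs.1⟩ _).1 (mem_c.1 hs.2)) ((mem_pre ⟨a, pre_le _ ha⟩).1 ha)
  · have bt : B ≤ pre π D := (syl l r).le_of_normalized p (le.trans inf_le_left) ((le_inf (pre_le _) zT).trans n)
    have dm := (le hd).1
    refine (mem_pre ⟨d, dm⟩).2 (E_of ((mem_pre ⟨d, dm⟩).1 (bt hd)) ?_)
    have := (mem_pre (x * ⟨d, dm⟩ * x⁻¹)).1 (bt (cj (n ⟨x.2, mem_c.2 xz⟩) hd))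
    rwa [map_mul, map_mul, map_inv, hx] at this
  · rintro _ ⟨v, rfl⟩
    exact cz v
  · rintro _ ⟨v, rfl⟩ c
    have k : ∀ p, up p ∈ E → ac (up p) v = v := fun p hp => by
      obtain ⟨m, e⟩ := r (up p)
      exact e ▸ (cm m v).1 (c _ ((mem_pre m).2 (e ▸ hp))).symm
    rcases (by decide +kernel : ∀ v, ac (up (1, 0, 0)) v = v → ac (up (0, 1, 0)) v = v → v = 0 ∨ v = e0) v
      (k _ (by decide +kernel : ∀ v, ac (up (1, 0, 0)) v 1 = v 1 ∧ ac (up (1, 0, 0)) v 2 = v 2))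
      (k _ (by decide +kernel : ∀ v, ac (up (0, 1, 0)) v 1 = v 1 ∧ ac (up (0, 1, 0)) v 2 = v 2)) with rfl | rfl
    · rw [z0]; exact one_mem _
    · exact mem_zpowers _
  · obtain ⟨d, e⟩ := r (up (1, 0, 0))
    refine ⟨d, (mem_pre d).2 (e ▸ (by decide +kernel : ∀ v, ac (up (1, 0, 0)) v 1 = v 1 ∧ ac (up (1, 0, 0)) v 2 = v 2)),
      fun c => ?_⟩
    have := (l.ker ⁅d, x⁆).2 c
    rw [map_commutatorElement, commutatorElement_eq_one_iff_mul_comm, e, hx] at this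
    exact absurd this (by decide +kernel)
  · exact congrArg Subtype.val (r1 (h.subgroup M) π (pker l) r (fun v => ⟨ζ v, QM l (hQ v)⟩) (fun v => (l.ker _).2 (hQ v))
      (fun v w e => inj (congrArg Subtype.val e)) (fun m v => Subtype.ext (eq m v)) (fun v w => Subtype.ext (ad v w))
      (b := ⟨b, QM l hb⟩) ((l.ker _).2 hb) (fun q hq => by
        obtain ⟨j, e⟩ := k q ((l.ker q).1 hq)
        exact ⟨j, Subtype.ext e⟩) ⟨q, QM l hq⟩ ((l.ker _).2 hq))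
  · obtain ⟨eQ, cQ⟩ := sqL h l r MV VO ht n fun q hq => zV (c q hq)
    obtain ⟨u, hu, d, hd, dy, rfl⟩ := BldN.dec l MV VQ y.2 y7 hq (cQ q hq _ y.2)
    refine ⟨u, hu, d, hd, ?_, rfl⟩
    have dx : d * x.1 = x.1 * d := by
      obtain ⟨v, e⟩ := cQ d hd _ x.2
      have a : Commute (x.1 * d⁻¹ * x.1⁻¹) y.1 := by
        have a : Commute (x.1 * d⁻¹ * x.1⁻¹) (y.1 ^ 2) := xy ▸ (Commute.inv_left dy).map (MulAut.conj x.1)
        have := a.pow_right 4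
        rwa [← pow_mul, pow_succ, y7, one_mul] at this
      have b : y.1 * ζ v = ζ v * y.1 := by
        rw [e, commutatorElement_def, mul_assoc d, mul_assoc d]
        exact (Commute.mul_left dy a).symm
      rw [cm, hy] at b
      rw [(by decide +kernel : ∀ v, ac f0 v = v → v = 0) v b, z0] at e
      exact commutatorElement_eq_one_iff_mul_comm.1 e.symm
    obtain ⟨a, e1', e2'⟩ := BldN.trv (s := π ⟨t, ht⟩) (mem_E.2 fun v => by
      have := c _ (hQ v)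
      rw [co ⟨t, ht⟩] at this
      rcases BldN.zp2 (s2 _) this with e | e
      · exact .inl ((by decide : ∀ v w : Vec, v + w = 0 → w = v) _ _ (inj (e.trans z0.symm)))
      · exact .inr ((by decide : ∀ v w u : Vec, v + w = u → w = v + u) _ _ _ (inj e))) fun e => n ((l.ker _).1 e)
    obtain ⟨m, rfl⟩ := r a
    obtain ⟨s, hs⟩ : ∃ s : M, s = m * ⟨t, ht⟩ * m⁻¹ := ⟨_, rfl⟩
    have ps : π s = t0 := by rw [hs, map_mul, map_mul, map_inv, e1', mul_inv_cancel_right]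
    have ds : d * s.1 = s.1 * d := by
      have a : ⁅d, s.1⁆ ∈ zpowers (ζ e1) := by
        obtain ⟨j, e⟩ := c _ (cj' (l.nQ.ge m.2) hd)
        refine ⟨j, ?_⟩
        rw [← e2', ← eq]
        simp only [conj_zpow] at e ⊢
        rw [e, hs]
        simp only [commutatorElement_def, coe_mul, coe_inv]
        group
      refine commutatorElement_eq_one_iff_mul_comm.1 ((BldN.zp2 (s2 _) a).resolve_right fun e => ?_)
      have b : s.1⁻¹ * x.1 * s.1 * x.1 ∈ Q := (l.ker (s⁻¹ * x * s * x)).1 (by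
        rw [map_mul, map_mul, map_mul, map_inv, ps, hx, mul_assoc, mul_assoc, inv_mul_eq_one]
        decide +kernel)
      have b2 : Commute d (s.1⁻¹ * x.1 * s.1) := by
        have := (show Commute d _ from comm_sq eQ hd b).mul_right (Commute.inv_right dx)
        rwa [mul_inv_cancel_right] at this
      have b3 : Commute (s.1 * d⁻¹ * s.1⁻¹) x.1 := by
        have := b2.inv_left.map (MulAut.conj s.1)
        simpa only [MulAut.conj_apply, mul_assoc, mul_inv_cancel_left, mul_inv_cancel, mul_one] using this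
      have b4 : x.1 * ζ e1 = ζ e1 * x.1 := by
        rw [← e, commutatorElement_def, mul_assoc d, mul_assoc d]
        exact (Commute.mul_left dx b3).symm
      rw [cm, hx] at b4
      exact absurd b4 (by decide +kernel)
    intro g hg
    have le : Subgroup.closure ({f0, x1, t0} : Set L32) ≤ ((𝐜 d).subgroupOf M).map π := (closure_le _).2 (by
      rintro _ (rfl | rfl | rfl)
      exacts [⟨y, mem_c.2 dy.symm, hy⟩, ⟨x, mem_c.2 dx.symm, hx⟩, ⟨s, mem_c.2 ds.symm, ps⟩])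
    obtain ⟨j, hj, ej⟩ := le (gen ▸ mem_top (π ⟨g, hg⟩))
    have a := mul_mem (show j.1 ∈ 𝐜 d from hj) (mem_c.2 (comm_sq eQ ((l.ker (j⁻¹ * ⟨g, hg⟩)).1 (by
      rw [map_mul, map_inv, ej, inv_mul_cancel])) hd))
    simp only [coe_mul, coe_inv, mul_inv_cancel_left] at a
    exact (mem_c.1 a).symm
  · have i : Function.Injective (π.comp (inclusion le)) := (injective_iff_map_eq_one _).2 fun a k =>
      Subtype.ext (mem_bot.1 (d ▸ (⟨a.2, (l.ker _).1 k⟩ : a.1 ∈ A ⊓ Q)))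
    rw [Nat.card_congr (MonoidHom.ofInjective i).toEquiv]
    refine rk4 _ ?_
    rintro _ ⟨a, rfl⟩
    rw [← map_mul, show a * a = 1 from Subtype.ext (e a a.2), map_one]

end CL.L37
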