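import Cfsg.Agent.FGS.L37.ModB
import Cfsg.Agent.FGS.L37.ModS

/-!
The non-split case: the module `V = ⟨ζ v, z0⟩` of order `16`.
-/

set_option autoImplicit false
set_option linter.unusedSectionVars false

namespace CL.L37

open Subgroup Cfsg CL.MSS CL.Ord6 CL.Ord8
open scoped commutatorElement MatrixGroups

universe u

variable {G : Type*} [Group G] [Finite G]
variable {M Q : Subgroup G} {π : M →* L32}

open B7

/-- the module -/
def Vu (ζ : Vec → G) (z0 : G) : Subgroup G := closure (Set.range ζ ∪ {z0})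

variable {ζ : Vec → G} {z0 : G}

/-- one class of involutions -/
theorem cj_t0 {a : L32} (a1 : a ≠ 1) (a2 : a * a = 1) : ∃ g, g * a * g⁻¹ = t0 := by
  have s : SylIn 2 D ⊤ := sylIn_of_not_dvd_relIndex pg_D le_top (by rw [relIndex_top_right, index_D]; decide)
  obtain ⟨x, -, hx⟩ := s.exists_conj_le (R := zpowers a) (isPGroup_zpowers (k := 1) (by rw [pow_one, sq, a2])) le_top
  obtain ⟨p, hp⟩ := MS.exists_up (hx (conj_mem_cj (mem_zpowers a)))
  obtain ⟨g, -, e⟩ := (by decide +kernel : ∀ p, up p ≠ 1 → up p * up p = 1 → ∃ g ∈ [1, up (1, 0, 0),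
      mk 0 1 0 1 0 0 0 0 1, mk 0 0 1 1 0 0 0 1 0, mk 0 0 1 1 0 0 0 1 1], g * up p = t0 * g) p
    (fun e => a1 (by rwa [hp, conj_eq_one_iff] at e)) (by rw [hp, conj_mul, a2, mul_one, mul_inv_cancel])
  exact ⟨g * x, by rw [← mul_inv_eq_iff_eq_mul.2 e, hp]; group⟩

theorem Ud.zero (u : Ud π ζ z0) : ζ 0 = 1 := by
  have := u.ad 0 0
  rwa [add_zero, left_eq_mul] at this

theorem Ud.sq (u : Ud π ζ z0) (v : Vec) : ζ v * ζ v = 1 := by
  rw [← u.ad, (by decide : ∀ v : Vec, v + v = 0), u.zero]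

theorem Ud.cz (u : Ud π ζ z0) (m : M) (x : G) : m.1 * (x * z0) * m.1⁻¹ = m.1 * x * m.1⁻¹ * z0 := by
  rw [mul_assoc _ _ z0, ← u.zM _ (inv_mem m.2)]; group

theorem Ud.flip (u : Ud π ζ z0) {x y : G} (h : x = y * z0) : y = x * z0 := by rw [h, mul_assoc, u.z2, mul_one]

/-- PROOF. The set of `m` with this property for all `v` is a subgroup containing `Q` and lifts of the generators (`gen`). -/
theorem Ud.all (l : Loc M Q π) (r : Function.Surjective π) (u : Ud π ζ z0) (hQ : ∀ v, ζ v ∈ Om Q) (m : M) (v : Vec) :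
    m.1 * ζ v * m.1⁻¹ = ζ (ac (π m) v) ∨ m.1 * ζ v * m.1⁻¹ = ζ (ac (π m) v) * z0 := by
  have key : ∀ a ∈ Subgroup.closure ({B7.f0, B7.x1, t0} : Set L32), ∀ m : M, π m = a → ∀ v,
      m.1 * ζ v * m.1⁻¹ = ζ (ac a v) ∨ m.1 * ζ v * m.1⁻¹ = ζ (ac a v) * z0 := fun a ha => by
    induction ha using closure_induction with
    | mem a ha =>
      intro m e v
      rcases ha with rfl | rfl | rfl
      · exact .inl (u.ef m e v)
      · exact .inl (u.ex m e v)
      · rw [u.et m e v]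
        rcases (by decide : ∀ a : ZMod 2, a.val = 0 ∨ a.val = 1) (v 0) with c | c <;> rw [c] <;> simp
    | one =>
      intro m e v
      rw [ac_one, ← (hQ v).2.2 _ ((l.ker m).1 e), mul_inv_cancel_right]
      exact .inl rfl
    | mul a b _ _ ha hb =>
      intro m e v
      obtain ⟨n, rfl⟩ := r a
      have e1 : m.1 * ζ v * m.1⁻¹ = n.1 * ((n⁻¹ * m).1 * ζ v * (n⁻¹ * m).1⁻¹) * n.1⁻¹ := by
        simp only [coe_mul, coe_inv]; group
      rw [e1, ac_mul]
      rcases hb (n⁻¹ * m) (by rw [map_mul, map_inv, e, inv_mul_cancel_left]) v with c | c <;> rw [c]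
      · exact ha n rfl _
      · rw [u.cz]
        rcases ha n rfl (ac b v) with d | d <;> rw [d]
        · exact .inr rfl
        · exact .inl (by rw [mul_assoc, u.z2, mul_one])
    | inv a _ ha =>
      intro m e v
      have := ha m⁻¹ (by rw [map_inv, e, inv_inv]) (ac a⁻¹ v)
      rw [ac_inv'] at this
      rcases this with c | c
      · left; rw [← c]; simp only [coe_inv]; group
      · right; rw [u.flip c, u.cz]; simp only [coe_inv]; group
  exact key _ (gen ▸ mem_top _) m rfl v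

/-- PROOF. `ζ e0 ∉ ⟨z0⟩` (`et`), `f0` is transitive on non-zero vectors. -/
theorem Ud.inj (l : Loc M Q π) (r : Function.Surjective π) (u : Ud π ζ z0) (hQ : ∀ v, ζ v ∈ Om Q) {v w : Vec} :
    (ζ v = ζ w → v = w) ∧ ζ v ≠ ζ w * z0 := by
  have c0 : ∀ m : M, m.1 * z0 * m.1⁻¹ = z0 := fun m => by rw [← u.zM _ m.2, mul_inv_cancel_right]
  have k0 : ¬ (ζ e0 = 1 ∨ ζ e0 = z0) := fun h => by
    obtain ⟨m, e⟩ := r t0
    have := u.et m e e0
    rw [show ac t0 e0 = e0 by decide +kernel, show (e0 0).val = 1 by decide, pow_one] at this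
    refine u.z1 (left_eq_mul.1 (Eq.trans ?_ this))
    rcases h with h | h <;> rw [h]
    · simp
    · exact (c0 m).symm
  have k : ∀ v, ζ v = 1 ∨ ζ v = z0 → v = 0 := fun v h => by_contra fun n => k0 (by
    obtain ⟨a, e⟩ := trans v n
    obtain ⟨m, rfl⟩ := r a
    have h1 : m.1 * ζ e0 * m.1⁻¹ = 1 ∨ m.1 * ζ e0 * m.1⁻¹ = z0 := by
      rcases u.all l r hQ m e0 with c | c <;> rw [c, e] <;> rcases h with h | h <;> rw [h] <;> simp [u.z2]
    refine h1.imp conj_eq_one_iff.1 fun c => ?_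
    rw [← c0 m] at c
    simpa using c)
  have d : ∀ v w : Vec, w + v = 0 → v = w := by decide
  refine ⟨fun e => d _ _ (k _ (.inl (by rw [u.ad, e, u.sq]))), fun e => u.z1 ?_⟩
  have e1 : ζ (w + v) = z0 := by rw [u.ad, e, ← mul_assoc, u.sq, one_mul]
  rw [← e1, k _ (.inr e1), u.zero]

theorem Ud.mem (l : Loc M Q π) (u : Ud π ζ z0) (hQ : ∀ v, ζ v ∈ Om Q) {g : G} :
    g ∈ Vu ζ z0 ↔ ∃ v, g = ζ v ∨ g = ζ v * z0 := by
  have c : ∀ v, z0 * ζ v = ζ v * z0 := fun v => u.zM _ (QM l (hQ v).1)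
  refine ⟨fun h => ?_, ?_⟩
  · induction h using closure_induction with
    | mem a ha =>
      rcases ha with ⟨v, rfl⟩ | rfl
      · exact ⟨v, .inl rfl⟩
      · exact ⟨0, .inr (by rw [u.zero, one_mul])⟩
    | one => exact ⟨0, .inl u.zero.symm⟩
    | mul a b _ _ ha hb =>
      obtain ⟨v, rfl | rfl⟩ := ha <;> obtain ⟨w, rfl | rfl⟩ := hb <;> refine ⟨v + w, ?_⟩ <;> rw [u.ad]
      · exact .inl rfl
      · exact .inr (mul_assoc _ _ _).symm
      · exact .inr (by rw [mul_assoc, c, mul_assoc])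
      · exact .inl (by rw [mul_assoc, ← mul_assoc z0, c, mul_assoc, u.z2, mul_one])
    | inv a _ ha =>
      obtain ⟨v, rfl | rfl⟩ := ha
      · exact ⟨v, .inl (inv_eq_of_mul_eq_one_right (u.sq v))⟩
      · exact ⟨v, .inr (by
          rw [mul_inv_rev, inv_eq_of_mul_eq_one_right (u.sq v), inv_eq_of_mul_eq_one_right u.z2, c])⟩
  · rintro ⟨v, rfl | rfl⟩
    · exact subset_closure (.inl ⟨v, rfl⟩)
    · exact mul_mem (subset_closure (.inl ⟨v, rfl⟩)) (subset_closure (.inr rfl))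

theorem Ud.card (l : Loc M Q π) (r : Function.Surjective π) (u : Ud π ζ z0) (hQ : ∀ v, ζ v ∈ Om Q) : ♯(Vu ζ z0) = 16 := by
  have b : Function.Bijective (Sum.elim (fun v => ⟨ζ v, (u.mem l hQ).2 ⟨v, .inl rfl⟩⟩)
      (fun v => ⟨ζ v * z0, (u.mem l hQ).2 ⟨v, .inr rfl⟩⟩) : Vec ⊕ Vec → Vu ζ z0) := by
    refine ⟨?_, fun ⟨g, hg⟩ => ?_⟩
    · rintro (v | v) (w | w) e <;> have e' := congrArg Subtype.val e
      · exact congrArg _ ((u.inj l r hQ).1 e')
      · exact absurd e' (u.inj l r hQ).2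
      · exact absurd e'.symm (u.inj l r hQ).2
      · exact congrArg _ ((u.inj l r hQ).1 (mul_right_cancel e'))
    · obtain ⟨v, rfl | rfl⟩ := (u.mem l hQ).1 hg
      exacts [⟨.inl v, rfl⟩, ⟨.inr v, rfl⟩]
  rw [← Nat.card_eq_of_bijective _ b]
  simp

/-- an involution of `M / Q` centralizes only the preimage of its centre. PROOF. Conjugate `π m` to `t0` (one class of
involutions); `t0` fixes `0, e0, e1, e0 + e1`, has centre `e1`, and `et` applies. -/
theorem Ud.cen (l : Loc M Q π) (r : Function.Surjective π) (u : Ud π ζ z0) (hQ : ∀ v, ζ v ∈ Om Q) (m : M)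
    (m1 : π m ≠ 1) (m2 : π m * π m = 1) (v : Vec) : m.1 * ζ v = ζ v * m.1 ↔ ∃ w, v = w + ac (π m) w := by
  refine ⟨fun h => ?_, ?_⟩
  · obtain ⟨g, hg⟩ := cj_t0 m1 m2
    obtain ⟨n, rfl⟩ := r g
    have e := u.et (n * m * n⁻¹) (by rw [map_mul, map_mul, map_inv, hg]) (ac (π n) v)
    have e1 : (n * m * n⁻¹).1 * (n.1 * ζ v * n.1⁻¹) * (n * m * n⁻¹).1⁻¹ = n.1 * ζ v * n.1⁻¹ := by
      simp only [coe_mul, coe_inv]
      calc _ = n.1 * (m.1 * ζ v) * m.1⁻¹ * n.1⁻¹ := by group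
        _ = _ := by rw [h]; group
    have e2 : (n * m * n⁻¹).1 * ζ (ac (π n) v) * (n * m * n⁻¹).1⁻¹ = ζ (ac (π n) v) := by
      rcases u.all l r hQ n v with c | c <;> rw [c] at e1
      · exact e1
      · rw [u.cz] at e1; exact mul_right_cancel e1
    rw [e2] at e
    obtain ⟨w, hw⟩ : ∃ w, ac (π n) v = w + ac t0 w := by
      rcases (by decide : ∀ a : ZMod 2, (a = 0 ∧ a.val = 0) ∨ a.val = 1) (ac (π n) v 0) with c | c
      · rw [c.2, pow_zero, mul_one] at e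
        exact (by decide +kernel : ∀ v : Vec, v 0 = 0 → v = ac t0 v → ∃ w, v = w + ac t0 w) _ c.1
          ((u.inj l r hQ).1 e)
      · rw [c, pow_one] at e
        exact absurd e (u.inj l r hQ).2
    refine ⟨ac (π n)⁻¹ w, ?_⟩
    rw [← ac_inv (π n) v, hw, ac_add, ← hg, ac_mul, ac_mul, ac_inv]
  · rintro ⟨w, rfl⟩
    have q : (m * m).1 ∈ Q := (l.ker _).1 (by rw [map_mul, m2])
    have e : m.1 * (m.1 * ζ w * m.1⁻¹) * m.1⁻¹ = ζ w := by
      calc _ = (m * m).1 * ζ w * (m * m).1⁻¹ := by simp only [coe_mul]; group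
        _ = _ := by rw [← (hQ w).2.2 _ q, mul_inv_cancel_right]
    have cm : ζ (ac (π m) w) * ζ w = ζ w * ζ (ac (π m) w) := (hQ _).2.2 _ (hQ w).1
    rw [← mul_inv_eq_iff_eq_mul, u.ad, ← conj_mul]
    rcases u.all l r hQ m w with c | c <;> rw [c] at e ⊢
    · rw [e, cm]
    · rw [u.cz] at e
      rw [u.flip e.symm, mul_assoc, ← mul_assoc z0, u.zM _ (QM l (hQ w).1), mul_assoc, u.z2, mul_one, cm]

end CL.L37
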