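import Cfsg.Agent.FGS.L37.BldU2

/-!
The non-split case: the structure `Cu`.
-/

set_option autoImplicit false
set_option linter.unusedSectionVars false

namespace CL.L37

open Subgroup Cfsg CL.MSS CL.Ord6 CL.Ord8
open scoped commutatorElement MatrixGroups

universe u

variable {G : Type*} [Group G] [Finite G]
variable {M Q : Subgroup G} {π : M →* L32}

open B7

variable {ζ : Vec → G} {z0 : G}

namespace BU1

open R1 (cj cj')

theorem ex_mk (a : L32) : ∃ p q r s t u v w y k, a = mk p q r s t u v w y k := by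
  have d := a.2
  rw [Matrix.det_fin_three] at d
  refine ⟨a.1 0 0, a.1 0 1, a.1 0 2, a.1 1 0, a.1 1 1, a.1 1 2, a.1 2 0, a.1 2 1, a.1 2 2, d, Subtype.ext ?_⟩
  exact Matrix.eta_fin_three a.1

/-- membership in `E`, decidable form -/
abbrev IE (a : L32) : Prop := ∀ v, ac a v 1 = v 1 ∧ ac a v 2 = v 2

theorem stab (a : L32) : ac a e0 = e0 → a ∈ E ∨ (a * a * a = 1 ∧ (a * x1 ∈ E ∨ a * x1 * x1 ∈ E)) ∨
    a * t0 ∈ E ∨ a * x1 * t0 ∈ E ∨ a * x1 * x1 * t0 ∈ E := by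
  obtain ⟨p, q, r, s, t, u, v, w, y, k, rfl⟩ := ex_mk a
  show _ → IE _ ∨ (_ ∧ (IE _ ∨ IE _)) ∨ IE _ ∨ IE _ ∨ IE _
  revert p q r s t u v w y
  decide +kernel

/-- the elements of `E` -/
def ue (p : ZMod 2 × ZMod 2) : L32 := up (p.1, p.2, 0)

theorem ue_E (p : ZMod 2 × ZMod 2) : ue p ∈ E := (by decide +kernel : ∀ p, IE (ue p)) p

theorem ex_ue {a : L32} : a ∈ E → ∃ p, a = ue p := by
  obtain ⟨p, q, r, s, t, u, v, w, y, k, rfl⟩ := ex_mk a
  show IE _ → _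
  revert p q r s t u v w y
  decide +kernel

theorem index_E : E.index = 42 := by
  have b : Function.Bijective fun p => (⟨ue p, ue_E p⟩ : E) :=
    ⟨fun p q e => (by decide +kernel : ∀ p q, ue p = ue q → p = q) p q (congrArg Subtype.val e), fun a => by
      obtain ⟨p, e⟩ := ex_ue a.2
      exact ⟨p, Subtype.ext e.symm⟩⟩
  have := E.card_mul_index
  rw [← Nat.card_eq_of_bijective _ b, CL.Rec.card_sl32] at this
  simp at this
  omega

theorem E_sq {a : L32} (h : a ∈ E) : a * a = 1 := by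
  obtain ⟨p, rfl⟩ := ex_ue h
  clear h
  revert p
  decide +kernel

theorem E_irr {a b : L32} (h : a ∈ E) (n : a ≠ 1) (k : b ∈ E) :
    b = 1 ∨ b = a ∨ b = x1 * a * x1⁻¹ ∨ b = a * (x1 * a * x1⁻¹) := by
  obtain ⟨p, rfl⟩ := ex_ue h
  obtain ⟨q, rfl⟩ := ex_ue k
  rw [inv_eq_of_mul_eq_one_right (show x1 * (x1 * x1) = 1 by decide +kernel)]
  clear h k
  revert p q
  decide +kernel

theorem E_cen {a : L32} (h : a ∈ E) (w : Vec) : w + ac a w = 0 ∨ w + ac a w = e0 := by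
  have vv : ∀ v : Vec, v + v = 0 := by decide
  rcases mem_E.1 h w with e | e
  · exact .inl (by rw [e, vv])
  · exact .inr (by rw [e, ← add_assoc, vv, zero_add])

theorem E_mv {a : L32} (h : a ∈ E) (n : a ≠ 1) : ∃ w, e0 = w + ac a w := by
  by_contra c
  push Not at c
  refine n (ac_ext fun w => ?_)
  exact (by decide : ∀ v w : Vec, v + w = 0 → w = v) _ _ ((E_cen h w).resolve_right (c w).symm)

/-- `g` lies over `v` -/
def Ov (ζ : Vec → G) (z0 : G) (g : G) (v : Vec) : Prop := g = ζ v ∨ g = ζ v * z0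

theorem zz0 (u : Ud π ζ z0) : ζ 0 = 1 := by simpa using u.ad 0 0

theorem Ov.mul (l : Loc M Q π) (u : Ud π ζ z0) (hQ : ∀ v, ζ v ∈ Om Q) {g g' : G} {v w : Vec} (a : Ov ζ z0 g v)
    (b : Ov ζ z0 g' w) : Ov ζ z0 (g * g') (v + w) := by
  have c := u.zM _ (QM l (hQ w).1)
  rcases a with rfl | rfl <;> rcases b with rfl | rfl
  · exact .inl (u.ad v w).symm
  · exact .inr (by rw [u.ad, mul_assoc])
  · exact .inr (by rw [u.ad, mul_assoc, c, mul_assoc])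
  · exact .inl (by rw [u.ad, mul_assoc, ← mul_assoc z0, c, mul_assoc, u.z2, mul_one])

theorem Ov.cj (l : Loc M Q π) (r : Function.Surjective π) (u : Ud π ζ z0) (hQ : ∀ v, ζ v ∈ Om Q) {g : G} {v : Vec}
    (a : Ov ζ z0 g v) (m : M) : Ov ζ z0 (m.1 * g * m.1⁻¹) (ac (π m) v) := by
  rcases a with rfl | rfl
  · exact u.all l r hQ m v
  · have e : m.1 * (ζ v * z0) * m.1⁻¹ = m.1 * ζ v * m.1⁻¹ * z0 := by
      rw [← mul_assoc, mul_assoc _ z0, u.zM _ (inv_mem m.2), ← mul_assoc]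
    rcases u.all l r hQ m v with c | c
    · exact .inr (by rw [e, c])
    · exact .inl (by rw [e, c, mul_assoc, u.z2, mul_one])

theorem Ov.uq (l : Loc M Q π) (r : Function.Surjective π) (u : Ud π ζ z0) (hQ : ∀ v, ζ v ∈ Om Q) {g : G} {v w : Vec}
    (a : Ov ζ z0 g v) (b : Ov ζ z0 g w) : v = w := by
  rcases a with rfl | rfl <;> rcases b with c | c
  · exact (u.inj l r hQ).1 c
  · exact ((u.inj l r hQ).2 c).elim
  · exact ((u.inj l r hQ).2 c.symm).elim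
  · exact (u.inj l r hQ).1 (mul_right_cancel c)

theorem Ov.om (hQ : ∀ v, ζ v ∈ Om Q) (h0 : z0 ∈ Om Q) {g : G} {v : Vec} (a : Ov ζ z0 g v) : g ∈ Om Q := by
  rcases a with rfl | rfl
  exacts [hQ v, mul_mem (hQ v) h0]

theorem lift (h : HD G) (l : Loc M Q π) (r : Function.Surjective π) :
    ∃ y c : M, π y = f0 ∧ π c = x1 ∧ F21 ⊤ y c := by
  obtain ⟨a, ha⟩ := r f0
  obtain ⟨b, hb⟩ := r x1
  have := lift21 (h.subgroup M) π (pker l) (a := a) (b := b) (ha ▸ f0_7.1) (ha ▸ f0_7.2.1) (hb ▸ x1_3.1)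
    (by rw [ha, hb, f0_7.2.2, mul_inv_cancel_right, pow_two])
  rwa [ha, hb] at this

end BU1

/-- PROOF. In `M / Z(M)` (`Z(M) ≤ Q`) the images of the `ζ v` form a natural module (`all`; injective as `C_V(M) = ⟨z0⟩`), so `r1` gives
`⁅b, Q⁆ ≤ Z(M)`; `zp` with `lift21`. -/
theorem Ud.r1 (h : HD G) (l : Loc M Q π) (r : Function.Surjective π) (u : Ud π ζ z0) (hQ : ∀ v, ζ v ∈ Om Q)
    (h0 : z0 ∈ Om Q) {b : G} (hb : b ∈ Q) (k : ∀ q ∈ Q, ∃ c, Zm M c ∧ (⁅b, q⁆ = c ∨ ⁅b, q⁆ = ζ e0 * c)) :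
    ∀ q ∈ Q, b * q = q * b := by
  have cQ : center M ≤ π.ker := fun m hm => (l.ker m).2 (l.cQ fun q hq =>
    congrArg Subtype.val (mem_center_iff.1 hm ⟨q, QM l hq⟩))
  have zc : ∀ {c : G} (hc : c ∈ M), Zm M c → QuotientGroup.mk' (center M) ⟨c, hc⟩ = 1 := fun hc a =>
    (QuotientGroup.eq_one_iff _).2 (mem_center_iff.2 fun m => Subtype.ext (a m.1 m.2).symm)
  let ψ := QuotientGroup.mk' (center M)
  have s : Function.Surjective ψ := QuotientGroup.mk'_surjective _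
  let π' : M ⧸ center M →* L32 := QuotientGroup.lift _ π cQ
  have e : ∀ m, π' (ψ m) = π m := fun _ => rfl
  let ξ : Vec → M := fun v => ⟨ζ v, QM l (hQ v).1⟩
  have ad : ∀ v w, ξ (v + w) = ξ v * ξ w := fun v w => Subtype.ext (u.ad v w)
  obtain ⟨y, c, hy, -, f⟩ := BU1.lift h l r
  have key := CL.L37.r1 ((h.subgroup M).quot (center M)) π' (fun g => by
      obtain ⟨g, hg⟩ := g
      obtain ⟨m, rfl⟩ := s g
      obtain ⟨n, hn⟩ := pker l ⟨m, hg⟩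
      exact ⟨n, Subtype.ext (by
        have := congrArg (fun x : π.ker => ψ x.1) hn
        simpa using this)⟩)
    (fun a => by obtain ⟨m, rfl⟩ := r a; exact ⟨ψ m, rfl⟩) (fun v => ψ (ξ v))
    (fun v => (l.ker (ξ v)).2 (hQ v).1) (fun v w c => by
      have c1 : ψ (ξ (v + w)) = 1 := by
        have c' : ψ (ξ v) = ψ (ξ w) := c
        rw [ad, map_mul, c', ← map_mul, show ξ w * ξ w = 1 from Subtype.ext (hQ w).2.1, map_one]
      have c2 : y.1 * ζ (v + w) = ζ (v + w) * y.1 :=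
        congrArg Subtype.val (mem_center_iff.1 ((QuotientGroup.eq_one_iff _).1 c1) y)
      have c3 := u.ef y hy (v + w)
      rw [c2, mul_inv_cancel_right] at c3
      exact (by decide +kernel : ∀ v w : Vec, v + w = ac f0 (v + w) → v = w) v w ((u.inj l r hQ).1 c3))
    (fun m v => by
      obtain ⟨m, rfl⟩ := s m
      rw [e, ← map_inv, ← map_mul, ← map_mul]
      rcases u.all l r hQ m v with c | c
      · exact congrArg ψ (Subtype.ext c)
      · rw [show m * ξ v * m⁻¹ = ξ (ac (π m) v) * ⟨z0, QM l h0.1⟩ from Subtype.ext c, map_mul, zc _ u.zM, mul_one])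
    (fun v w => by rw [ad, map_mul]) (b := ψ ⟨b, QM l hb⟩) ((l.ker _).2 hb) fun q hq => by
      obtain ⟨q, rfl⟩ := s q
      have hq' : q.1 ∈ Q := (l.ker q).1 hq
      have cm : ⁅b, q.1⁆ ∈ M := (⁅(⟨b, QM l hb⟩ : M), q⁆).2
      rw [← map_commutatorElement]
      obtain ⟨c, a, d | d⟩ := k q.1 hq'
      · rw [show ⁅(⟨b, QM l hb⟩ : M), q⁆ = ⟨c, d ▸ cm⟩ from Subtype.ext d, zc _ a]
        exact one_mem _
      · have hc : c ∈ M := (mul_mem_cancel_left (ξ e0).2).1 (d ▸ cm)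
        rw [show ⁅(⟨b, QM l hb⟩ : M), q⁆ = ξ e0 * ⟨c, hc⟩ from Subtype.ext d, map_mul, zc _ a, mul_one]
        exact mem_zpowers _
  have cz : ∀ q ∈ Q, ∀ m ∈ M, ⁅b, q⁆ * m = m * ⁅b, q⁆ := fun q hq m hm => by
    have := key (ψ ⟨q, QM l hq⟩) ((l.ker _).2 hq)
    rw [← commutatorElement_eq_one_iff_mul_comm, ← map_commutatorElement] at this
    exact (congrArg Subtype.val (mem_center_iff.1 ((QuotientGroup.eq_one_iff _).1 this) ⟨m, hm⟩)).symm
  exact zp h l.pQ (y := y.1) (c := c.1) ⟨l.nQ.ge y.2, l.nQ.ge c.2, congrArg Subtype.val f.y7,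
    fun a => f.y1 (Subtype.ext a), congrArg Subtype.val f.c3, fun a => f.c1 (Subtype.ext a), congrArg Subtype.val f.cy⟩ hb
    fun q hq => ⟨cz q hq _ y.2, cz q hq _ c.2, fun q' hq' => cz q hq _ (QM l hq')⟩

/-- PROOF. `V = Vu ζ z0`, `T = pre π D`, `Q1 = pre π E`, `z = ζ e0`, `Z1 = {1, z0, z, z z0}`, `x` a lift of order `3` of `x1`. `C(V) ≤ C(z0)
= N(⟨z0⟩) = M` (`max`). `st`: the stabilizer of `e0` is `E⟨x1, t0⟩`, `t0` does not centralize `z`. `o2` is `E_of`. `sq` is `sqL`. -/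
theorem coreU (h : HD G) (l : Loc M Q π) (r : Function.Surjective π) (u : Ud π ζ z0) (hQ : ∀ v, ζ v ∈ Om Q)
    (h0 : z0 ∈ Om Q) : ∃ V T Q1 Z1 z x, Cu M Q V T Q1 Z1 z0 z x := by
  have mem : ∀ {g : G}, g ∈ Vu ζ z0 ↔ ∃ v, BU1.Ov ζ z0 g v := u.mem l hQ
  have VO : Vu ζ z0 ≤ Om Q := fun g hg => let ⟨_, a⟩ := mem.1 hg; a.om hQ h0
  have zv : ∀ v, BU1.Ov ζ z0 (ζ v) v := fun _ => .inl rfl
  have MV : M ≤ 𝐍 (Vu ζ z0) := fun m hm => mem_normalizer_fintype fun g hg =>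
    let ⟨_, a⟩ := mem.1 hg; mem.2 ⟨_, a.cj l r u hQ ⟨m, hm⟩⟩
  have zz : ζ e0 ≠ 1 ∧ ζ e0 ≠ z0 := ⟨fun c => absurd ((u.inj l r hQ).1 (c.trans (BU1.zz0 u).symm)) (by decide),
    fun c => (u.inj l r hQ (v := e0) (w := 0)).2 (by rw [BU1.zz0 u, one_mul]; exact c)⟩
  have nV : 𝐍 (Vu ζ z0) = M := l.max _ (l.pQ.to_le fun g hg => (VO hg).1)
    (fun c => zz.1 (mem_bot.1 (c ▸ mem.2 ⟨_, zv e0⟩))) MV
  have fx : ∀ (m : M) v, m.1 * ζ v = ζ v * m.1 → ac (π m) v = v := fun m v c => by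
    have := (zv v).cj l r u hQ m
    rw [c, mul_inv_cancel_right] at this
    exact this.uq l r u hQ (zv v)
  have co : ∀ {g : G} {v : Vec}, BU1.Ov ζ z0 g v → ∀ m : M, BU1.Ov ζ z0 ⁅g, m.1⁆ (v + ac (π m) v) := fun {g v} a m => by
    have := a.mul l u hQ (a.cj l r u hQ m)
    rwa [show g * (m.1 * g * m.1⁻¹) = ⁅g, m.1⁆ by
      rw [commutatorElement_def, inv_eq_of_mul_eq_one_right (a.om hQ h0).2.1]; group] at this
  let Z1 : Subgroup G :=
    { carrier := {g | ∃ v, (v = 0 ∨ v = e0) ∧ BU1.Ov ζ z0 g v}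
      one_mem' := ⟨0, .inl rfl, .inl (BU1.zz0 u).symm⟩
      mul_mem' := fun ⟨v, a, b⟩ ⟨w, c, d⟩ => ⟨v + w, (by decide : ∀ v w : Vec, (v = 0 ∨ v = e0) → (w = 0 ∨ w = e0) →
        (v + w = 0 ∨ v + w = e0)) v w a c, b.mul l u hQ d⟩
      inv_mem' := fun ⟨v, a, b⟩ => ⟨v, a, by rwa [inv_eq_of_mul_eq_one_right (b.om hQ h0).2.1]⟩ }
  have mZ : ∀ w, w ∈ Z1 ↔ w = 1 ∨ w = z0 ∨ w = ζ e0 ∨ w = ζ e0 * z0 := fun w => by
    refine ⟨?_, ?_⟩
    · rintro ⟨v, rfl | rfl, a | a⟩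
      exacts [.inl (a.trans (BU1.zz0 u)), .inr (.inl (by rw [a, BU1.zz0 u, one_mul])), .inr (.inr (.inl a)),
        .inr (.inr (.inr a))]
    · rintro (a | a | a | a)
      exacts [a ▸ one_mem _, ⟨0, .inl rfl, .inr (by rw [a, BU1.zz0 u, one_mul])⟩, ⟨e0, .inr rfl, .inl a⟩,
        ⟨e0, .inr rfl, .inr a⟩]
  obtain ⟨y, x, -, hx, f⟩ := BU1.lift h l r
  obtain ⟨t, ht⟩ := r t0
  have mE : ∀ {g : G} (hg : g ∈ pre π E), π ⟨g, pre_le _ hg⟩ ∈ E := fun hg => (mem_pre ⟨_, pre_le _ hg⟩).1 hg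
  have mD : ∀ {g : G} (hg : g ∈ pre π D), π ⟨g, pre_le _ hg⟩ ∈ D := fun hg => (mem_pre ⟨_, pre_le _ hg⟩).1 hg
  have nE : ∀ s : M, ac (π s) e0 = e0 → s.1 ∈ 𝐍 (pre π E) := fun s hs => mem_normalizer_fintype fun a ha => by
    refine (mem_pre (s * ⟨a, pre_le _ ha⟩ * s⁻¹)).2 ?_
    rw [map_mul, map_mul, map_inv]
    exact E_cj hs (mE ha)
  have xz : x.1 ∈ 𝐜 (ζ e0) := mem_c.2 (by rw [← mul_inv_eq_iff_eq_mul, u.ex x hx, x1_3.2.2])
  have tz : t.1 ∉ 𝐜 (ζ e0) := fun c => by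
    have := u.et t ht e0
    rw [mem_c.1 c, mul_inv_cancel_right, show ac t0 e0 = e0 by decide +kernel, show (e0 0).val = 1 from rfl,
      pow_one] at this
    exact u.z1 (left_eq_mul.1 this)
  have Ez : ∀ m : M, π m ∈ E → m.1 ∈ 𝐜 (ζ e0) := fun m hm => mem_c.2 (by
    by_cases c : π m = 1
    · exact ((hQ e0).2.2 _ ((l.ker m).1 c)).symm
    · exact (u.cen l r hQ m c (BU1.E_sq hm) e0).2 (BU1.E_mv hm c))
  have st : ∀ m : M, m.1 ∈ 𝐜 (ζ e0) → π m ∈ E ∨ (π m * π m * π m = 1 ∧ (π (m * x) ∈ E ∨ π (m * x * x) ∈ E)) :=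
    fun m hm => by
    simp only [map_mul, hx]
    rcases BU1.stab _ (fx m e0 (mem_c.1 hm)) with a | a | a | a | a
    · exact .inl a
    · exact .inr a
    · exact (tz ((mul_mem_cancel_left hm).1 (Ez (m * t) (by rwa [map_mul, ht])))).elim
    · exact (tz ((mul_mem_cancel_left (mul_mem hm xz)).1 (Ez (m * x * t) (by rwa [map_mul, map_mul, ht, hx])))).elim
    · exact (tz ((mul_mem_cancel_left (mul_mem (mul_mem hm xz) xz)).1 (Ez (m * x * x * t)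
        (by rwa [map_mul, map_mul, map_mul, ht, hx])))).elim
  have q1 : Q ≤ pre π E := pre_bot l ▸ pre_mono bot_le
  have ct : ∀ t ∈ pre π E, t ∉ Q → ∀ v ∈ Vu ζ z0, v * t = t * v → v ∈ Z1 := fun s hs n g hg c => by
    obtain ⟨v, a⟩ := mem.1 hg
    have c' : s * ζ v = ζ v * s := by
      rcases a with rfl | rfl
      · exact c.symm
      · rw [mul_assoc, u.zM _ (pre_le _ hs), ← mul_assoc, ← mul_assoc] at c
        exact (mul_right_cancel c).symm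
    obtain ⟨w, rfl⟩ := (u.cen l r hQ ⟨s, pre_le _ hs⟩ (fun d => n ((l.ker _).1 d)) (BU1.E_sq (mE hs)) v).1 c'
    exact ⟨_, BU1.E_cen (mE hs) w, a⟩
  obtain ⟨a, ha, k⟩ := bdL
  obtain ⟨d, rfl⟩ := r a
  have xq : ⁅d.1, x.1⁆ ∉ Q := fun c => k (by
    have := (l.ker (d * x * d⁻¹ * x⁻¹)).2 c
    rw [map_mul, map_mul, map_mul, map_inv, map_inv, hx] at this
    rw [this, ac_one])
  have b := pre_card r ⊥
  rw [pre_bot l, index_bot, CL.Rec.card_sl32] at b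
  refine ⟨Vu ζ z0, pre π D, pre π E, Z1, ζ e0, x, l.pQ, l.nQ, l.cQ, l.max, syl l r, ?_, ?_, fun v hv => (VO hv).2.1,
    u.card l r hQ, nV, le_antisymm (fun g hg => (l.ker ⟨g, nV.le (centralizer_le_normalizer _ hg)⟩).1
      (ac_ext fun v => fx _ v (hg _ (mem.2 ⟨_, zv v⟩)).symm)) fun q hq g hg => (VO hg).2.2 q hq, u.z1, u.zM, zz, mZ, ?_,
    fun g ⟨v, _, a⟩ => mem.2 ⟨v, a⟩, congrArg Subtype.val f.c3, fun a => f.c1 (Subtype.ext a), x.2, q1, pre_mono E_le,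
    fun s hs => nE ⟨s, pre_le _ hs⟩ (mD hs).1, nE x (hx ▸ x1_3.2.2),
    fun s hs => mem_normalizer_fintype fun g ⟨v, a, b⟩ => ⟨_, ?_, b.cj l r u hQ ⟨s, pre_le _ hs⟩⟩,
    le_antisymm (fun g hg => ?_) (sup_le (fun g hg => ⟨pre_le _ hg, Ez ⟨g, pre_le _ hg⟩ (mE hg)⟩)
      (zpowers_le.2 ⟨x.2, xz⟩)), fun g hg e => (mem_pre ⟨g, hg.1⟩).2 ?_, fun B le n g hg => ?_, fun B le n => ?_,
    fun g hg q hq => ?_, ct, fun g hg c => ?_, ⟨d, (mem_pre d).2 ha, xq⟩, ⟨ζ e1, mem.2 ⟨_, zv e1⟩, ?_⟩,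
    fun b hb k => u.r1 h l r hQ h0 hb k, fun t ht n c => (sqL h l r MV VO ht n c).1, u.jj h l r hQ h0, u.sr l r hQ⟩
  · have a := pre_card r D
    rw [index_D] at a
    omega
  · have a := pre_card r E
    rw [BU1.index_E] at a
    omega
  · have e : (Z1 : Set G) = {1, z0, ζ e0, ζ e0 * z0} := Set.ext mZ
    have n : ζ e0 * z0 ≠ 1 := fun c => zz.2 (by rw [eq_inv_of_mul_eq_one_left c, inv_eq_of_mul_eq_one_right u.z2])
    rw [← SetLike.coe_sort_coe, Nat.card_coe_set_eq, e, Set.ncard_insert_of_notMem, Set.ncard_insert_of_notMem,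
      Set.ncard_pair fun c => u.z1 (left_eq_mul.1 c)]
    · rintro (c | c)
      exacts [zz.2 c.symm, zz.1 (right_eq_mul.1 c)]
    · rintro (c | c | c)
      exacts [u.z1 c.symm, zz.1 c.symm, n c.symm]
  · rcases a with rfl | rfl
    exacts [.inl (ac_zero _), .inr (mD hs).1]
  · have xm : x.1 ∈ pre π E ⊔ zpowers x.1 := mem_sup_right (mem_zpowers _)
    rcases st ⟨g, hg.1⟩ hg.2 with a | ⟨-, a | a⟩
    · exact mem_sup_left ((mem_pre _).2 a)
    · exact (mul_mem_cancel_right xm).1 (mem_sup_left ((mem_pre _).2 a))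
    · exact (mul_mem_cancel_right xm).1 ((mul_mem_cancel_right xm).1 (mem_sup_left ((mem_pre _).2 a)))
  · rcases st ⟨g, hg.1⟩ hg.2 with a | ⟨a, -⟩
    · exact a
    · rw [one_of_cop (g := π ⟨g, hg.1⟩) (m := 3) (n := 16) (by rw [pow_three']; exact a)
        (by rw [← map_pow, show (⟨g, hg.1⟩ : M) ^ 16 = 1 from Subtype.ext e, map_one]) (by norm_num)]
      exact one_mem _
  · have dm := pre_le _ (le hg)
    refine (mem_pre ⟨g, dm⟩).2 (E_of (mD (le hg)) ?_)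
    have := (mem_pre (x * ⟨g, dm⟩ * x⁻¹)).1 (le (R1.cj n hg))
    rwa [map_mul, map_mul, map_inv, hx] at this
  · refine (em _).imp_right fun c => le_antisymm (sup_le le q1) fun s hs => ?_
    obtain ⟨g, hg, n'⟩ := SetLike.not_le_iff_exists.1 c
    have dm := pre_le _ (le hg)
    have fin : ∀ m : M, m.1 ∈ B → π ⟨s, pre_le _ hs⟩ = π m → s ∈ B ⊔ Q := fun m hm e => by
      have := (l.ker (m⁻¹ * ⟨s, pre_le _ hs⟩)).1 (by rw [map_mul, map_inv, e, inv_mul_cancel])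
      exact (mul_mem_cancel_left (inv_mem (mem_sup_left hm))).1 (mem_sup_right this)
    rcases BU1.E_irr (mE (le hg)) (fun d => n' ((l.ker _).1 d)) (mE hs) with e | e | e | e
    · exact fin 1 (one_mem _) (by rw [e, map_one])
    · exact fin ⟨g, dm⟩ hg e
    · exact fin (x * ⟨g, dm⟩ * x⁻¹) (R1.cj n hg) (by rw [e, map_mul, map_mul, map_inv, hx])
    · exact fin (⟨g, dm⟩ * (x * ⟨g, dm⟩ * x⁻¹)) (mul_mem hg (R1.cj n hg))
        (by rw [e, map_mul, map_mul, map_mul, map_inv, hx])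
  · obtain ⟨v, a⟩ := mem.1 hg
    exact ⟨_, BU1.E_cen (mE hq) v, co a ⟨q, pre_le _ hq⟩⟩
  · have dE : d.1 ∈ pre π E := (mem_pre d).2 ha
    have tD : t.1 ∈ pre π D := (mem_pre t).2 (ht ▸ up_D _)
    have dn : d.1 ∉ Q := fun e => xq (by
      rw [commutatorElement_def, mul_assoc, mul_assoc, ← mul_assoc x.1]
      exact mul_mem e (R1.cj (l.nQ.ge x.2) (inv_mem e)))
    rcases (mZ g).1 (ct _ dE dn g hg (c _ (pre_mono E_le dE))) with e | e | e | e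
    · exact .inl e
    · exact .inr e
    · exact (tz (mem_c.2 (e ▸ (c _ tD).symm))).elim
    · have := c _ tD
      rw [e, mul_assoc, u.zM _ t.2, ← mul_assoc, ← mul_assoc] at this
      exact (tz (mem_c.2 (mul_right_cancel this).symm)).elim
  · rintro ⟨v, a, b⟩
    have := b.uq l r u hQ (co (zv e1) x)
    rw [this, hx] at a
    exact absurd a (by decide +kernel)

end CL.L37
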