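import Cfsg.Agent.FGS.L37.BldU0
import Cfsg.Agent.INV.SecRk16

/-!
The non-split case: the sectional rank.
-/

set_option autoImplicit false
set_option linter.unusedSectionVars false

namespace CL.L37.BldU2s

open Subgroup Cfsg CL.MSS CL.Ord6 CL.Ord8
open scoped commutatorElement MatrixGroups

variable {G : Type*} [Group G] [Finite G]
variable {M Q : Subgroup G} {π : M →* L32}

open B7

variable {ζ : Vec → G} {z0 : G}

theorem D_up {a : L32} (ha : a ∈ D) : ∃ p, up p = a := by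
  have i : Function.Injective fun p => (⟨up p, up_D p⟩ : D) := fun p q e =>
    (by decide +kernel : ∀ p q, up p = up q → p = q) p q (congrArg Subtype.val e)
  obtain ⟨p, e⟩ := (i.bijective_of_nat_card_le (by rw [card_D]; simp)).2 ⟨a, ha⟩
  exact ⟨p, congrArg Subtype.val e⟩

theorem crd (l : Loc M Q π) {X : Subgroup G} (hX : X ≤ M) : ♯X = ♯(X ⊓ Q) * ♯((X.subgroupOf M).map π) := by
  have k : π.ker = Q.subgroupOf M := Subgroup.ext fun m => l.ker m
  rw [← relIndex_ker, k, relIndex_subgroupOf hX, inf_comm, CL.card_inf_mul_relIndex]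

theorem key (l : Loc M Q π) (r : Function.Surjective π) (u : Ud π ζ z0) (hQ : ∀ v, ζ v ∈ Om Q) (e : Q = Vu ζ z0) {A B : Subgroup G}
    (hA : A ≤ pre π D) (hB : B ≤ A) (sq : ∀ a ∈ A, a * a ∈ B) : ♯A ≤ 16 * ♯B := by
  have AM : A ≤ M := hA.trans (pre_le D)
  by_cases h0 : A ≤ Q
  · exact (card_le_of_le h0).trans (by rw [e, u.card l r hQ]; exact Nat.le_mul_of_pos_right _ Nat.card_pos)
  have cz : ∀ q ∈ Q, z0 * q = q * z0 := fun q hq => u.zM q (QM l hq)
  have ab : ∀ a ∈ Q, ∀ b ∈ Q, a * b = b * a := fun a ha b hb => by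
    obtain ⟨v, rfl | rfl⟩ := (u.mem l hQ).1 (e.le ha)
    · exact (hQ v).2.2 b hb
    · exact Commute.mul_left ((hQ v).2.2 b hb) (cz b hb)
  obtain ⟨t, ht, t1, t2⟩ : ∃ t : M, t.1 ∈ A ∧ π t ≠ 1 ∧ π t * π t = 1 := by
    obtain ⟨a, ha, na⟩ := SetLike.not_le_iff_exists.1 h0
    by_cases c : π ⟨a, AM ha⟩ * π ⟨a, AM ha⟩ = 1
    · exact ⟨⟨a, AM ha⟩, ha, fun e => na ((l.ker _).1 e), c⟩
    refine ⟨⟨a, AM ha⟩ * ⟨a, AM ha⟩, mul_mem ha ha, by rwa [map_mul], ?_⟩
    obtain ⟨p, hp⟩ := D_up ((mem_pre ⟨a, AM ha⟩).1 (hA ha))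
    rw [map_mul, ← hp]
    exact (by decide +kernel : ∀ p, up p * up p * (up p * up p) = 1) p
  have tQ : ∀ q ∈ Q, t * q * (t : G)⁻¹ ∈ Q := fun q => (mem_normalizer_iff.1 (l.nQ.ge t.2) q).1
  obtain ⟨c, hc⟩ : ∃ c, ∀ w, w + ac (π t) w = 0 ∨ w + ac (π t) w = c := by
    obtain ⟨p, hp⟩ := D_up ((mem_pre t).1 (hA ht))
    rw [← hp] at t2 ⊢
    exact (by decide +kernel : ∀ p, up p * up p = 1 → ∃ c, ∀ w, w + ac (up p) w = 0 ∨ w + ac (up p) w = c) p t2
  let φ : (A ⊓ Q : Subgroup G) →* G := MonoidHom.mk' (fun w => w * (t * (w : G)⁻¹ * (t : G)⁻¹)) fun a b => by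
    have := ab _ (mul_mem b.2.2 (tQ _ (inv_mem b.2.2))) _ (tQ _ (inv_mem a.2.2))
    rw [mul_assoc (a : G), ← this]
    simp [mul_assoc]
  have k1 : Nat.card φ.ker ≤ 4 := by
    refine (Nat.card_le_card_of_injective (β := ({ζ 0, ζ 0 * z0, ζ c, ζ c * z0} : Set G)) (fun x => ⟨x.1.1, ?_⟩)
      fun x y e => Subtype.ext (Subtype.ext (Subtype.mk.inj e))).trans ?_
    · have a : (x.1 : G) * (t * (x.1 : G)⁻¹ * (t : G)⁻¹) = 1 := x.2
      have b : t * (x.1 : G) = x.1 * t := by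
        calc t * (x.1 : G) = x.1 * (t * (x.1 : G)⁻¹ * (t : G)⁻¹) * (t * x.1) := by rw [a, one_mul]
          _ = _ := by group
      obtain ⟨v, h | h⟩ := (u.mem l hQ).1 (e.le x.1.2.2)
      · obtain ⟨w, hw⟩ := (u.cen l r hQ t t1 t2 v).1 (h ▸ b)
        rcases hc w with k | k <;> simp [h, hw, k]
      · rw [h, ← mul_assoc, mul_assoc (ζ v), u.zM _ t.2, ← mul_assoc, mul_left_inj] at b
        obtain ⟨w, hw⟩ := (u.cen l r hQ t t1 t2 v).1 b
        rcases hc w with k | k <;> simp [h, hw, k]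
    · rw [Nat.card_coe_set_eq]
      exact (Set.ncard_insert_le _ _).trans (Nat.succ_le_succ ((Set.ncard_insert_le _ _).trans (Nat.succ_le_succ
        ((Set.ncard_insert_le _ _).trans (by simp)))))
  have k2 : φ.range ≤ B ⊓ Q := by
    rintro _ ⟨w, rfl⟩
    refine mem_inf.2 ⟨?_, mul_mem w.2.2 (tQ _ (inv_mem w.2.2))⟩
    have := mul_mem (mul_mem (sq _ w.2.1) (sq _ (mul_mem (inv_mem w.2.1) ht))) (inv_mem (sq _ ht))
    simpa [φ, mul_assoc] using this
  have k3 : ♯(A ⊓ Q) ≤ 4 * ♯(B ⊓ Q) := by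
    rw [← φ.ker.card_mul_index, index_ker]
    exact Nat.mul_le_mul k1 (card_le_of_le k2)
  have k4 : ♯((A.subgroupOf M).map π) ≤ 4 * ♯((B.subgroupOf M).map π) := by
    have le : (A.subgroupOf M).map π ≤ D := by
      rintro _ ⟨a, ha, rfl⟩
      exact (mem_pre a).1 (hA ha)
    have d := card_dvd_of_le le
    have p : 0 < ♯((B.subgroupOf M).map π) := Nat.card_pos
    rw [card_D] at d
    by_cases c4 : ♯((A.subgroupOf M).map π) ≤ 4
    · omega
    have d8 := Nat.le_of_dvd (by norm_num) d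
    have eq : (A.subgroupOf M).map π = D := eq_of_le_of_card_ge le (by
      rw [card_D]
      generalize ♯((A.subgroupOf M).map π) = n at *
      interval_cases n <;> omega)
    obtain ⟨a, ha, h⟩ : up (1, 0, 1) ∈ (A.subgroupOf M).map π := eq ▸ up_D _
    have : 1 < ♯((B.subgroupOf M).map π) := (one_lt_card_iff_ne_bot _).2 fun b => by
      have m := mem_map_of_mem π (show a * a ∈ B.subgroupOf M from sq _ ha)
      rw [b, mem_bot, map_mul, h] at m
      exact absurd m (by decide +kernel)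
    omega
  rw [crd l AM, crd l (hB.trans AM)]
  calc _ ≤ 4 * ♯(B ⊓ Q) * (4 * ♯((B.subgroupOf M).map π)) := Nat.mul_le_mul k3 k4
    _ = _ := by ring

theorem sr (l : Loc M Q π) (r : Function.Surjective π) (u : Ud π ζ z0) (hQ : ∀ v, ζ v ∈ Om Q)
    (e : Q = Vu ζ z0) : SectionalPRankLE 2 4 (pre π D) :=
  SR16.R.sectional (k := 4) fun A B h sq => by
    have := key l r u hQ e (A := A.map (pre π D).subtype) (B := B.map (pre π D).subtype) (map_subtype_le _) (map_mono h) (by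
      rintro _ ⟨a, ha, rfl⟩
      exact ⟨a * a, sq a ha, rfl⟩)
    rwa [card_map_of_injective (subtype_injective _), card_map_of_injective (subtype_injective _)] at this

end CL.L37.BldU2s
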