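import Cfsg.Agent.FGS.L37.BldU0
import Cfsg.Agent.FGS.L37.BldN
import Cfsg.Agent.FGS.L37.ModS
import Cfsg.Agent.FGS.L37.BldU2s

/-!
The non-split case: Thompson subgroup and sectional rank.
-/

set_option autoImplicit false
set_option linter.unusedSectionVars false

namespace CL.L37

open Subgroup Cfsg CL.MSS CL.Ord6 CL.Ord8
open scoped commutatorElement MatrixGroups

universe u

variable {G : Type*} [Group G] [Finite G]
variable {M Q : Subgroup G} {π : M →* L32}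

open B7

variable {ζ : Vec → G} {z0 : G}

namespace U2

theorem three {W : Type*} [CommGroup W] {ρ : L32 →* MulAut W} (h2 : ∀ w : W, w * w = 1) {g : L32} (g3 : g * (g * g) = 1)
    {c : W} (hu : ∀ a, ρ a (ρ g c * c) = ρ g c * c) : ρ g c = c := by
  generalize e : ρ g c * c = u at hu
  have e1 : ρ g c = u * c := by rw [← e, mul_assoc, h2, mul_one]
  have k : ρ (g * (g * g)) c = u * c := by
    simp only [map_mul, MulAut.mul_apply, e1, hu]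
    rw [← mul_assoc, h2, one_mul]
  rw [g3, map_one, MulAut.one_apply] at k
  exact e1.trans k.symm

theorem mod {W : Type*} [CommGroup W] {ρ : L32 →* MulAut W} (h2 : ∀ w : W, w * w = 1) (V : Subgroup W)
    (hV : ∀ a w, ρ a w * w ∈ V) (ff : ∀ v ∈ V, ρ f0 (ρ f0 v) = v → ∀ a, ρ a v = v)
    (ft : ∀ v ∈ V, ρ x1 v = v → ρ t0 v = v → ∀ a, ρ a v = v) (w : W) : ∃ v ∈ V, ∃ c, (∀ a, ρ a c = c) ∧ w = v * c := by
  have m : ∀ a b w, ρ a (ρ b w) = ρ (a * b) w := fun a b w => by rw [map_mul, MulAut.mul_apply]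
  have cV : (∏ j ∈ Finset.range 7, ρ (f0 ^ j) w) * w ∈ V := by
    have := V.prod_mem (t := Finset.range 7) (f := fun j => ρ (f0 ^ j) w * w) fun j _ => hV _ w
    rwa [Finset.prod_mul_distrib, Finset.prod_const, Finset.card_range,
      show w ^ 7 = (w * w) ^ 3 * w by rw [← pow_two, ← pow_mul, ← pow_succ], h2, one_pow, one_mul] at this
  have cf : ρ f0 (∏ j ∈ Finset.range 7, ρ (f0 ^ j) w) = ∏ j ∈ Finset.range 7, ρ (f0 ^ j) w := by
    simp only [map_prod, m, ← pow_succ']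
    rw [Finset.prod_range_succ, Finset.prod_range_succ' (fun j => ρ (f0 ^ j) w), f0_7.1, pow_zero]
  generalize ∏ j ∈ Finset.range 7, ρ (f0 ^ j) w = c at cV cf
  have cx : ρ x1 c = c := three h2 (by decide +kernel) (ff _ (hV _ _) (by
    rw [map_mul, map_mul, cf, cf, m, m, ← f0_7.2.2, ← m, cf]))
  have tu := ft _ (hV t0 c) (by
    rw [map_mul, cx, m, show x1 * t0 = t0 * (x1 * x1) by decide +kernel, ← m, ← m, cx, cx]) (by
    rw [map_mul, m, show t0 * t0 = 1 by decide +kernel, map_one, MulAut.one_apply, mul_comm])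
  have e : ρ (t0 * (f0 * (f0 * f0))) c = ρ t0 c := by rw [← m, ← m, ← m, cf, cf, cf]
  have ct : ρ t0 c = c := e ▸ three h2 (by decide +kernel) (e ▸ tu)
  refine ⟨_, cV, c, fun a => ?_, by rw [mul_right_comm, h2, one_mul]⟩
  refine closure_induction (p := fun a _ => ρ a c = c) ?_ (by simp) (fun a b _ _ p q => by rw [← m, q, p])
    (fun a _ p => by rw [← p, m, inv_mul_cancel, map_one, MulAut.one_apply, p]) (gen ▸ mem_top a)
  rintro _ (rfl | rfl | rfl)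
  exacts [cf, cx, ct]

theorem pair {X : Type*} (a b : X) : ({a, b} : Set X).ncard ≤ 2 :=
  (Set.ncard_insert_le _ _).trans (by rw [Set.ncard_singleton])

theorem le4 {X : Type*} [Group X] [Finite X] {S : Subgroup X} {a b c : X}
    (h : ∀ g ∈ S, g = 1 ∨ g = a ∨ g = b ∨ g = c) : ♯S ≤ 4 :=
  (Set.ncard_le_ncard (s := (S : Set X)) (t := {1, a, b, c}) h).trans ((Set.ncard_insert_le _ _).trans
    (Nat.succ_le_succ ((Set.ncard_insert_le _ _).trans (Nat.succ_le_succ (pair _ _)))))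

theorem le2 {X : Type*} [Group X] [Finite X] {S : Subgroup X} {a : X} (h : ∀ g ∈ S, g = 1 ∨ g = a) : ♯S ≤ 2 :=
  (Set.ncard_le_ncard (s := (S : Set X)) (t := {1, a}) h).trans (pair _ _)

theorem d1 : ∀ p, up p * up p = 1 → ∃ c, ∀ w, w + ac (up p) w = 0 ∨ w + ac (up p) w = c := by decide +kernel

set_option synthInstance.maxSize 1024 in
theorem d2 : ∀ p q, up p * up p = 1 → up q * up q = 1 → up p ≠ up q → ∀ v w, v + ac (up p) v ≠ 0 →
    v + ac (up p) v = w + ac (up q) w → ∀ v, ac (up p) v 1 = v 1 ∧ ac (up p) v 2 = v 2 := by decide +kernel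

theorem d3 : ∀ p, (∀ v, ac (up p) v 1 = v 1 ∧ ac (up p) v 2 = v 2) → up p ≠ 1 →
    up p * up p = 1 ∧ ∃ w, e0 = w + ac (up p) w := by decide +kernel

theorem d4 : ∀ p : ZMod 2 × ZMod 2 × ZMod 2, (∀ v, ac (up (p.1, 0, 0)) v 1 = v 1 ∧ ac (up (p.1, 0, 0)) v 2 = v 2) ∧
    up (p.1, 0, 0) * up p * (up (p.1, 0, 0) * up p) = 1 ∧
    ((up (p.1, 0, 0) * up p = 1 ∨ ∃ w, e0 = w + ac (up (p.1, 0, 0) * up p) w) →
      ∀ v, ac (up p) v 1 = v 1 ∧ ac (up p) v 2 = v 2) := by decide +kernel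

theorem z_0 (u : Ud π ζ z0) : ζ 0 = 1 := by simpa using u.ad 0 0

theorem VY (hQ : ∀ v, ζ v ∈ Om Q) (h0 : z0 ∈ Om Q) : Vu ζ z0 ≤ Om Q := (closure_le _).2 (by
  rintro _ (⟨v, rfl⟩ | rfl)
  exacts [hQ v, h0])

theorem nV (l : Loc M Q π) (r : Function.Surjective π) (u : Ud π ζ z0) (hQ : ∀ v, ζ v ∈ Om Q) : M ≤ 𝐍 (Vu ζ z0) :=
  fun m hm => mem_normalizer_fintype fun v hv => by
    have z : z0 ∈ Vu ζ z0 := subset_closure (.inr rfl)
    have k : ∀ w, m * ζ w * m⁻¹ ∈ Vu ζ z0 := fun w => (u.mem l hQ).2 ⟨_, u.all l r hQ ⟨m, hm⟩ w⟩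
    obtain ⟨w, rfl | rfl⟩ := (u.mem l hQ).1 hv
    · exact k w
    · rw [← conj_mul, ← u.zM m hm, mul_inv_cancel_right]
      exact mul_mem (k w) z

theorem all (l : Loc M Q π) (r : Function.Surjective π) {V : Subgroup G} (nV : M ≤ 𝐍 V) {t : G} (ht : t ∈ M) (n : t ∉ Q)
    (c : ∀ q ∈ Om Q, ⁅q, t⁆ ∈ V) : ∀ q ∈ Om Q, ∀ m ∈ M, ⁅q, m⁆ ∈ V := by
  let K : Subgroup M :=
    { carrier := {m | ∀ q ∈ Om Q, ⁅q, m.1⁆ ∈ V}
      one_mem' := fun q _ => by simp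
      mul_mem' := fun {a b} ha hb q hq => by
        have := mul_mem (ha q hq) (R1.cj (nV a.2) (hb q hq))
        rwa [show ⁅q, a.1⁆ * (a.1 * ⁅q, b.1⁆ * a.1⁻¹) = ⁅q, a.1 * b.1⁆ by simp only [commutatorElement_def]; group] at this
      inv_mem' := fun {a} ha q hq => by
        have := R1.cj' (nV a.2) (inv_mem (ha q hq))
        rwa [show a.1⁻¹ * ⁅q, a.1⁆⁻¹ * a.1 = ⁅q, a.1⁻¹⁆ by simp only [commutatorElement_def]; group] at this }
  have kn : K.Normal := ⟨fun a ha g q hq => by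
    have := R1.cj (nV g.2) (ha _ (R1.cj' (Om_nz (l.nQ.ge g.2)) hq))
    rwa [show g.1 * ⁅g.1⁻¹ * q * g.1, a.1⁆ * g.1⁻¹ = ⁅q, g.1 * a.1 * g.1⁻¹⁆ by
      simp only [commutatorElement_def]; group] at this⟩
  have := CL.Rec.simple_sl32
  rcases (kn.map π r).eq_bot_or_eq_top with e | e
  · exact (n ((l.ker ⟨t, ht⟩).1 (mem_bot.1 (e ▸ mem_map_of_mem π (show ⟨t, ht⟩ ∈ K from c))))).elim
  have kk : π.ker ≤ K := fun k hk q hq => by
    rw [commutatorElement_eq_one_iff_mul_comm.2 (hq.2.2 _ ((l.ker k).1 hk))]; exact one_mem _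
  have := comap_map_eq_self kk
  rw [e, comap_top] at this
  exact fun q hq m hm => (show (⟨m, hm⟩ : M) ∈ K from this ▸ mem_top _) q hq

theorem key (l : Loc M Q π) (r : Function.Surjective π) (u : Ud π ζ z0) (hQ : ∀ v, ζ v ∈ Om Q) (h0 : z0 ∈ Om Q)
    {A : Subgroup G} (hA : A ∈ Th.maxElemAbIn 2 (pre π D)) {t : G} (ht : t ∈ A) (n : t ∉ Q) :
    t ∈ pre π E ∧ ∀ q ∈ Om Q, ⁅q, t⁆ ∈ Vu ζ z0 := by
  have le : A ≤ M := hA.1.trans (pre_le _)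
  have cm := fun a b => Th.elemAb_comm hA.2.1 (a := a) (b := b)
  have YQ : Om Q ≤ Q := fun y hy => hy.1
  have eY : IsElementaryAbelian 2 (Om Q) :=
    Th.elemAb_iff.2 ⟨fun a ha b hb => ha.2.2 b hb.1, fun a ha => (pow_two a).trans ha.2.1⟩
  let φ := π.comp (inclusion le)
  have sq : ∀ a : A, φ a * φ a = 1 := fun a => by
    rw [← map_mul, show a * a = 1 from Subtype.ext ((pow_two _).symm.trans (hA.2.1.2 a a.2)), map_one]
  have c1 : ♯(Q ⊓ A) * ♯φ.range = ♯A := by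
    rw [← index_ker, ← card_mul_index φ.ker, ← subgroupOf_map_subtype, card_subtype,
      show Q.subgroupOf A = φ.ker from Subgroup.ext fun a => (l.ker (inclusion le a)).symm]
  have c2 : ♯φ.range ≤ 4 := rk4 _ (by rintro _ ⟨a, rfl⟩; exact sq a)
  have c3 := hA.2.2 _ (sup_le (inf_le_right.trans hA.1) (YQ.trans (pre_bot l ▸ pre_mono bot_le)))
    (Th.elemAb_sup (Th.elemAb_inf_right hA.2.1 Q) eY fun a ha y hy => hy.2.2 a ha.1)
  have c4 := Th.card_mul_card_le (Q ⊓ A) (Om Q)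
  rw [inf_right_comm, inf_eq_right.2 YQ] at c4
  have c5 := Th.card_mul_card_le (Vu ζ z0) (Om Q ⊓ A)
  rw [u.card l r hQ, ← inf_assoc, inf_eq_left.2 (VY hQ h0)] at c5
  have s6 : Vu ζ z0 ⊔ Om Q ⊓ A ≤ Om Q := sup_le (VY hQ h0) inf_le_left
  have c6 := card_le_of_le s6
  have up' : ∀ a : A, ∃ p, up p = φ a := fun a => MS.exists_up ((mem_pre (inclusion le a)).1 (hA.1 a.2))
  have cen : ∀ a : A, φ a ≠ 1 → ∀ g ∈ Vu ζ z0 ⊓ A, ∃ w, g = ζ (w + ac (φ a) w) ∨ g = ζ (w + ac (φ a) w) * z0 :=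
    fun a a1 g hg => by
      have k := cm _ _ a.2 hg.2
      obtain ⟨v, rfl | rfl⟩ := (u.mem l hQ).1 hg.1
      · obtain ⟨w, e⟩ := (u.cen l r hQ (inclusion le a) a1 (sq a) v).1 k
        exact ⟨w, .inl (congrArg ζ e)⟩
      · rw [mul_assoc, u.zM _ (le a.2), ← mul_assoc, ← mul_assoc, mul_left_inj] at k
        obtain ⟨w, e⟩ := (u.cen l r hQ (inclusion le a) a1 (sq a) v).1 k
        exact ⟨w, .inr (by rw [e]; rfl)⟩
  have t1 : φ ⟨t, ht⟩ ≠ 1 := fun e => n ((l.ker _).1 e)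
  obtain ⟨p, hp⟩ := up' ⟨t, ht⟩
  have c7 : ♯(Vu ζ z0 ⊓ A) ≤ 4 := by
    obtain ⟨c, hc⟩ := d1 p (hp ▸ sq _)
    refine le4 (a := z0) (b := ζ c) (c := ζ c * z0) fun g hg => ?_
    obtain ⟨w, e⟩ := cen _ t1 g hg
    rw [← hp] at e
    rcases hc w with k | k <;> rw [k] at e
    · rw [z_0 u, one_mul] at e; tauto
    · tauto
  have p0 : 0 < ♯(Q ⊓ A) := Nat.card_pos
  have p1 : 0 < ♯(Om Q ⊓ A) := Nat.card_pos
  have c8 : ♯(Om Q) ≤ ♯(Om Q ⊓ A) * ♯φ.range := Nat.le_of_mul_le_mul_left (by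
    calc _ ≤ _ := c4
      _ ≤ ♯(Om Q ⊓ A) * ♯A := Nat.mul_le_mul_left _ c3
      _ = _ := by rw [← c1]; ring) p0
  have n1 : ¬ ♯φ.range ≤ 2 := fun k => by nlinarith
  have n2 : ¬ ♯(Vu ζ z0 ⊓ A) ≤ 2 := fun k => by nlinarith
  have e6 := eq_of_le_of_card_ge s6 (by nlinarith)
  refine ⟨(mem_pre ⟨t, le ht⟩).2 ?_, fun y hy => ?_⟩
  · obtain ⟨_, ⟨s, rfl⟩, k⟩ : ∃ g ∈ φ.range, ¬ (g = 1 ∨ g = φ ⟨t, ht⟩) := by
      by_contra k; push Not at k; exact n1 (le2 k)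
    obtain ⟨g, hg, k'⟩ : ∃ g ∈ Vu ζ z0 ⊓ A, ¬ (g = 1 ∨ g = z0) := by
      by_contra k; push Not at k; exact n2 (le2 k)
    obtain ⟨q, hq⟩ := up' s
    obtain ⟨v, ev⟩ := cen _ t1 g hg
    obtain ⟨w, ew⟩ := cen _ (fun e => k (.inl e)) g hg
    rw [show π ⟨t, le ht⟩ = up p from hp.symm]
    rw [← hp] at ev k
    rw [← hq] at ew k
    refine d2 p q (hp ▸ sq _) (hq ▸ sq _) (fun e => k (.inr e.symm)) v w (fun e => k' ?_) ?_
    · rwa [e, z_0 u, one_mul] at ev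
    · rcases ev with rfl | rfl <;> rcases ew with e | e
      exacts [(u.inj l r hQ).1 e, ((u.inj l r hQ).2 e).elim, ((u.inj l r hQ).2 e.symm).elim,
        (u.inj l r hQ).1 (mul_right_cancel e)]
  · rw [← e6] at hy
    let K : Subgroup G :=
      { carrier := {y | y ∈ Om Q ∧ ⁅y, t⁆ ∈ Vu ζ z0}
        one_mem' := ⟨one_mem _, by simp⟩
        mul_mem' := fun {a b} ha hb => ⟨mul_mem ha.1 hb.1, by
          have := mul_mem (R1.cj (nV l r u hQ (QM l ha.1.1)) hb.2) ha.2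
          rwa [show a * ⁅b, t⁆ * a⁻¹ * ⁅a, t⁆ = ⁅a * b, t⁆ by simp only [commutatorElement_def]; group] at this⟩
        inv_mem' := fun {a} ha => by rwa [inv_eq_of_mul_eq_one_left ha.1.2.1] }
    refine ((show Vu ζ z0 ⊔ Om Q ⊓ A ≤ K from sup_le (fun v hv => ⟨VY hQ h0 hv, ?_⟩) fun a ha => ⟨ha.1, ?_⟩) hy).2
    · have := mul_mem hv (R1.cj (nV l r u hQ (le ht)) (inv_mem hv))
      rwa [show v * (t * v⁻¹ * t⁻¹) = ⁅v, t⁆ by simp only [commutatorElement_def]; group] at this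
    · rw [commutatorElement_eq_one_iff_mul_comm.2 (cm _ _ ha.2 ht)]; exact one_mem _

theorem cE (l : Loc M Q π) (r : Function.Surjective π) (u : Ud π ζ z0) (hQ : ∀ v, ζ v ∈ Om Q) (m : M) (hm : π m ∈ E) :
    m.1 * ζ e0 = ζ e0 * m.1 := by
  by_cases k : π m = 1
  · exact ((hQ e0).2.2 _ ((l.ker m).1 k)).symm
  obtain ⟨p, hp⟩ := MS.exists_up (E_le hm)
  have := d3 p (hp ▸ hm) (hp ▸ k)
  rw [hp] at this
  exact (u.cen l r hQ m k this.1 e0).2 this.2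

end U2

/-- PROOF. Let `c ∈ Y = Om Q`. `y, x` from `lift21` over `f0, x1`. `c' = ∏ y^j c y^-j ≡ c mod V` is centralized by `y`, and `⁅c', x⁆ ∈
C_V(y) = ⟨z0⟩`, so by `x` (order `3`). For `π t = t0`, `u = ⁅c', t⁆ ∈ V` is centralized by `x` (`t x t⁻¹ ∈ x⁻¹ Q`) and by `t`, so
`u ∈ ⟨z0, ζ e0⟩ ⊓ ⟨z0, ζ e1⟩ = ⟨z0⟩` (`Ud.cen`). So `m ↦ ⁅c', m⁆` is a homomorphism of `M / Q` (perfect; `gen`) to `⟨z0⟩`. -/
theorem Ud.split (h : HD G) (l : Loc M Q π) (r : Function.Surjective π) (u : Ud π ζ z0) (hQ : ∀ v, ζ v ∈ Om Q)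
    (h0 : z0 ∈ Om Q) (c : ∀ y ∈ Om Q, ∀ m ∈ M, ⁅y, m⁆ ∈ Vu ζ z0) :
    ∀ y ∈ Om Q, ∃ v ∈ Vu ζ z0, ∃ c ∈ Om Q, Zm M c ∧ y = v * c := by
  let _ : CommGroup (Om Q) :=
    { (inferInstance : Group (Om Q)) with mul_comm := fun a b => Subtype.ext (a.2.2.2 b b.2.1) }
  let g : M →* MulAut (Om Q) := (Om Q).normalizerMonoidHom.comp (inclusion (l.nQ.ge.trans Om_nz))
  have hg : ∀ (m : M) w, (g m w).1 = m.1 * w.1 * m.1⁻¹ := fun _ _ => rfl
  obtain ⟨ρ, hρ⟩ : ∃ ρ : L32 →* MulAut (Om Q), ∀ m, ρ (π m) = g m :=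
    ⟨π.liftOfSurjective r ⟨g, fun m hm => MulEquiv.ext fun w => Subtype.ext (by
      rw [hg, ← w.2.2.2 _ ((l.ker m).1 hm)]; simp)⟩, π.liftOfRightInverse_comp_apply _ _ _⟩
  have ap : ∀ (m : M) w, (ρ (π m) w).1 = m.1 * w.1 * m.1⁻¹ := fun m w => by rw [hρ, hg]
  have dec : ∀ v ∈ (Vu ζ z0).subgroupOf (Om Q), ∃ w c, (∀ a, ρ a c = c) ∧ v = ⟨ζ w, hQ w⟩ * c := fun v hv => by
    obtain ⟨w, e | e⟩ := (u.mem l hQ).1 hv
    · exact ⟨w, 1, fun a => map_one _, Subtype.ext (e.trans (mul_one _).symm)⟩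
    · refine ⟨w, ⟨z0, h0⟩, fun a => ?_, Subtype.ext e⟩
      obtain ⟨m, rfl⟩ := r a
      exact Subtype.ext ((ap m _).trans (mul_inv_eq_iff_eq_mul.2 (u.zM _ m.2).symm))
  have z : (⟨ζ 0, hQ 0⟩ : Om Q) = 1 := Subtype.ext (U2.z_0 u)
  obtain ⟨f, hf⟩ := r f0
  obtain ⟨x, hx⟩ := r x1
  obtain ⟨t, ht⟩ := r t0
  intro y hy
  obtain ⟨v, hv, c, hc, e⟩ := U2.mod (ρ := ρ) (fun w => Subtype.ext w.2.2.1) ((Vu ζ z0).subgroupOf (Om Q))
    (fun a w => by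
      obtain ⟨m, rfl⟩ := r a
      have := inv_mem (c w w.2 m m.2)
      rw [commutatorElement_inv, commutatorElement_def, inv_eq_of_mul_eq_one_left w.2.2.1, ← ap] at this
      exact this)
    (fun v hv e => by
      obtain ⟨w, c, hc, rfl⟩ := dec v hv
      rw [map_mul, map_mul, hc, hc, mul_left_inj] at e
      have := congrArg Subtype.val e
      rw [← hf, ap, ap, u.ef f hf, u.ef f hf] at this
      rwa [(by decide +kernel : ∀ w, ac f0 (ac f0 w) = w → w = 0) w ((u.inj l r hQ).1 this), z, one_mul])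
    (fun v hv e e' => by
      obtain ⟨w, c, hc, rfl⟩ := dec v hv
      rw [map_mul, hc, mul_left_inj] at e e'
      have k := congrArg Subtype.val e
      have k' := congrArg Subtype.val e'
      rw [← hx, ap, u.ex x hx] at k
      rw [← ht, ap, u.et t ht] at k'
      rcases (by decide +kernel : ∀ w, ac x1 w = w → w = 0 ∨ w = e0) w ((u.inj l r hQ).1 k) with rfl | rfl
      · rwa [z, one_mul]
      · exact ((u.inj l r hQ).2 (k'.symm.trans (congrArg _ (pow_one z0)))).elim) ⟨y, hy⟩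
  exact ⟨v, hv, c, c.2, fun m hm => (mul_inv_eq_iff_eq_mul.1 ((ap ⟨m, hm⟩ c).symm.trans
    (congrArg Subtype.val (hc _)))).symm, congrArg Subtype.val e⟩

/-- PROOF. Let `A ∈ 𝒜(T)`, `¬ A ≤ Q`, `A₀ = A ⊓ Q`. `|A| ≥ |A₀ Y|` gives `|A : A₀| ≥ |Y : Y ⊓ A| ≥ |V : C_V(t)| = 4` for `t ∈ A - Q`
(`Ud.cen`); `|A : A₀| ≤ 4` (`rk4`). So `C_V(A) = C_V(t)` for all such `t`: the three involutions of `π A ≤ D` have the same
centre, `π A = E` (decide), and `Y = V (Y ⊓ A)`, `⁅Y, A⁆ ≤ V`; `{m | ⁅Y, m⁆ ≤ V}` is normal, contains `Q`, so is `M`; `split`. All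
`A ∈ 𝒜(T)` lie in `pre π E`, which centralizes `z = ζ e0`; so `z ∈ A`, `z ∈ Ω₁Z(J(T))`, `B(T) ≤ C_T(z) ≤ pre π E`. -/
theorem Ud.jj (h : HD G) (l : Loc M Q π) (r : Function.Surjective π) (u : Ud π ζ z0) (hQ : ∀ v, ζ v ∈ Om Q)
    (h0 : z0 ∈ Om Q) : 𝐉 (pre π D) ≤ Q ∨ (𝐁 (pre π D) ≤ pre π E ∧
      ∀ y ∈ Om Q, ∃ v ∈ Vu ζ z0, ∃ c ∈ Om Q, Zm M c ∧ y = v * c) := by
  refine (em _).imp_right fun n => ⟨fun m hm => ?_, ?_⟩
  · have QE : Q ≤ pre π E := pre_bot l ▸ pre_mono bot_le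
    have c : 𝐉 (pre π D) ≤ 𝐜 (ζ e0) := Th.thompsonSubgroupOf_le_iff.2 fun A hA a ha => by
      have k : a ∈ pre π E := (em _).elim (QE ·) fun k => (U2.key l r u hQ h0 hA ha k).1
      exact mem_c.2 (U2.cE l r u hQ ⟨a, pre_le _ k⟩ ((mem_pre _).1 k))
    have zc : ζ e0 ∈ 𝐂 (𝐉 (pre π D)) := fun a ha => mem_c.1 (c ha)
    have z2 : ζ e0 ^ 2 = 1 := (pow_two _).trans (hQ e0).2.1
    have k := hm.2 _ (Th.mem_omegaOne_of (H := centerThompsonOf 2 (pre π D))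
      ⟨Th.mem_thompsonSubgroupOf_of_centralizes (pre_mono E_le (QE (hQ e0).1)) z2 zc, zc⟩ z2)
    have mM := pre_le _ hm.1
    obtain ⟨p, hp⟩ := MS.exists_up ((mem_pre ⟨m, mM⟩).1 hm.1)
    obtain ⟨s, hs⟩ := r (up (p.1, 0, 0))
    obtain ⟨a, b, d⟩ := U2.d4 p
    have e : π (s * ⟨m, mM⟩) = up (p.1, 0, 0) * up p := by rw [map_mul, hs, hp]
    refine (mem_pre ⟨m, mM⟩).2 (hp ▸ d ((em _).imp_right fun k1 => ?_))
    rw [← e] at b k1 ⊢
    refine (u.cen l r hQ _ k1 b e0).1 ?_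
    change s.1 * m * _ = _ * (s.1 * m)
    rw [mul_assoc, ← k, ← mul_assoc, U2.cE l r u hQ s (hs ▸ a), mul_assoc]
  · rw [Th.thompsonSubgroupOf_le_iff] at n
    push Not at n
    obtain ⟨A, hA, n⟩ := n
    obtain ⟨t, ht, n⟩ := SetLike.not_le_iff_exists.1 n
    exact u.split h l r hQ h0 (U2.all l r (U2.nV l r u hQ) (pre_le _ (hA.1 ht)) n (U2.key l r u hQ h0 hA ht n).2)

/-- PROOF. Let `S / N` be an elementary abelian section, `W = S ⊓ V`. If `S ≤ V`, `|S| ≤ 16`. Otherwise `π S ≤ D₈` contains an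
involution `π t`; `⁅W, t⁆ ≤ N`, `|W : ⁅W, t⁆| = |C_W(t)| ≤ 4` (`Ud.cen`), and `S / W N` is an elementary abelian quotient of
`π S ≤ D`, of order `≤ 4` (`D` is not elementary: it has order `8` and an element of order `4`; if `π S = D` the square lies in the kernel). -/
theorem Ud.sr (l : Loc M Q π) (r : Function.Surjective π) (u : Ud π ζ z0) (hQ : ∀ v, ζ v ∈ Om Q)
    (e : Q = Vu ζ z0) : SectionalPRankLE 2 4 (pre π D) :=
  BldU2s.sr l r u hQ e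

end CL.L37
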