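import Cfsg.Agent.FGS.L37.Defs
import Cfsg.Agent.FGS.Ord8.CfA
import Cfsg.Agent.FGS.Ord8.R1b

/-!
The natural case, step 1 (b).
-/

set_option autoImplicit false
set_option linter.unusedSectionVars false

namespace CL.L37.CfA2

open Subgroup Cfsg CL.MSS CL.Ord6 CL.Ord8
open scoped commutatorElement MatrixGroups

variable {G : Type*} [Group G] [Finite G]
variable {M Q V T Q1 H : Subgroup G} {z x : G}

theorem zc (k : Cn M Q V T Q1 z x) : ¬ Zm M z := fun c => by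
  have l : V ≤ zpowers z := fun a ha => by
    by_cases a1 : a = 1
    · exact a1 ▸ one_mem _
    obtain ⟨m, hm, rfl⟩ := k.tr a ha a1
    rw [← c m hm, mul_inv_cancel_right]
    exact mem_zpowers z
  have := card_le_of_le l
  rw [k.c8, Nat.card_zpowers] at this
  have := Nat.le_of_dvd (by norm_num) (orderOf_dvd_of_pow_eq_one (x := z) (n := 2) (by rw [pow_two, k.el z k.zV]))
  omega

theorem czb (h : HD G) (k : Cn M Q V T Q1 z x) (c : ¬ 𝐎 (𝐜 z) ≤ M) : Q = V := by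
  have z2 := k.el z k.zV
  have pO : IsPGroup 2 (𝐎 (𝐜 z)) := oP_isPGroup _
  have p1 : IsPGroup 2 Q1 := k.syl.pgroup.to_le k.q2
  have QH : Q1 ≤ 𝐜 z := k.q2.trans k.zT
  have QM : Q1 ≤ M := k.q2.trans k.syl.le
  have VQ : V ≤ Q := k.cV ▸ fun a ha b hb => comm_sq k.el hb ha
  have OM : 𝐎 (𝐜 z) ⊓ M ≤ Q1 := k.o2 _ (pO.to_le inf_le_left) (le_inf inf_le_right (inf_le_left.trans (oP_le _)))
    (CL.MSS.le_normalizer_inf (inf_le_right.trans (oP_normal _)) (inf_le_left.trans le_normalizer))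
  have xH : x ∈ 𝐜 z := mem_c.2 k.xz
  have nO : Q1 ≤ 𝐍 (𝐎 (𝐜 z)) := QH.trans (oP_normal _)
  have pS := isPGroup_sup_of_normalizes' pO p1 nO
  obtain ⟨R, hR⟩ : ∃ R, R = (𝐎 (𝐜 z) ⊔ Q1) ⊓ 𝐍 Q1 := ⟨_, rfl⟩
  have lt : Q1 < R := hR ▸ lt_inf_normalizer_of_lt pS
    (lt_of_le_not_ge le_sup_right fun e => c (le_sup_left.trans (e.trans QM)))
  have pR : IsPGroup 2 R := hR ▸ pS.to_le inf_le_left
  have RN : R ≤ 𝐍 Q1 := hR ▸ inf_le_right
  have Rz : ∀ g ∈ R, g * z * g⁻¹ = z := fun g hg =>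
    mul_inv_eq_iff_eq_mul.2 (mem_c.1 (sup_le (oP_le _) QH (hR ▸ hg).1))
  have RM : ∀ g ∈ R, g ∈ M → g ∈ Q1 := fun g hg m => by
    obtain ⟨o, ho, q, hq, rfl⟩ := (mem_sup_of_normalizes_left nO).1 (hR ▸ hg).1
    exact mul_mem (OM ⟨ho, (mul_mem_cancel_right (QM hq)).1 m⟩) hq
  have xQ : x ∈ 𝐍 Q1 := k.nQ1 ⟨k.xM, xH⟩
  have xR : ∀ g ∈ R, x * g * x⁻¹ ∈ R := fun g hg => by
    refine (mem_normalizer_iff.1 (mem_normalizer_iff_cj.2 ?_ : x ∈ 𝐍 R) g).1 hg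
    rw [hR, cj_inf, cj_sup, cj_normalizer, cj_eq_of_mem_normalizer xQ, cj_eq_of_mem_normalizer (oP_normal _ xH)]
  have cj1 : ∀ g ∈ R, ∀ q ∈ Q1, g * q * g⁻¹ ∈ Q1 := fun g hg q hq => (mem_normalizer_iff.1 (RN hg) q).1 hq
  have cj2 : ∀ g ∈ R, ∀ q ∈ Q1, g⁻¹ * q * g ∈ Q1 := fun g hg q hq => by simpa using cj1 _ (inv_mem hg) q hq
  obtain ⟨g, hg, h3⟩ := SetLike.exists_of_lt lt
  have gM : g ∉ M := fun e => h3 (RM g hg e)
  have k1 : ∀ b ∈ V, ∀ q ∈ Q1, ⁅g * b * g⁻¹, q⁆ ∈ zpowers z := fun b hb q hq => by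
    rw [CfA.cm_cj, ← Rz g hg, ← cj_zpowers]
    exact conj_mem_cj (k.vq b hb _ (cj2 g hg q hq))
  obtain ⟨b, hb, hn⟩ : ∃ b ∈ V, g * b * g⁻¹ ∉ Q := by
    by_contra c'
    push Not at c'
    refine gM (k.nQ ▸ inv_mem_iff.1 (mem_normalizer_of_cj_le (cj_le_iff_forall.2 fun q hq => ?_)))
    rw [inv_inv, ← k.cV]
    intro b hb
    have := k.r1 _ (c' b hb) (fun q hq => k1 b hb q (k.q1 hq)) q hq
    calc _ = g⁻¹ * (g * b * g⁻¹ * q) * g := by group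
      _ = _ := by rw [this]; group
  have bM := QM (cj1 g hg b (k.q1 (VQ hb)))
  have e' : ∀ q ∈ Q, ⁅q, g * b * g⁻¹⁆ ∈ zpowers z := fun q hq => by
    rw [← commutatorElement_inv]
    exact inv_mem (k1 b hb q (k.q1 hq))
  have sq := k.sq _ bM hn fun q hq => zpowers_le.2 k.zV (e' q hq)
  have tv := k.tv _ bM hn e'
  have f1 : ∀ c ∈ Q, Zm M c → c ≠ 1 → 𝐜 c = M := fun c hc zc c1 => by
    rw [← norm_zpowers (sq c hc)]
    refine k.max _ (pg_zpowers (sq c hc)) (by simpa using c1) ?_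
    rw [norm_zpowers (sq c hc)]
    exact fun m hm => mem_c.2 (zc m hm).symm
  have f2 : ∀ c ∈ Q, Zm M c → c ≠ 1 → ∀ y ∈ R, y ∉ M → ∀ c' ∈ Q, Zm M c' → y * c * y⁻¹ ≠ c' :=
    fun c hc zc c1 y hy yM c' hc' zc' e => by
      have e1 : y •ᶜ M = M := by
        conv_lhs => rw [← f1 c hc zc c1, cj_centralizer_singleton, e]
        exact f1 c' hc' zc' fun q => c1 (by simpa [q] using e)
      refine yM (k.max (Q1 ⊓ 𝐂 M) (p1.to_le inf_le_left) (fun q => c1 (mem_bot.1 (q ▸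
        mem_inf.2 ⟨k.q1 hc, fun m hm => (zc m hm).symm⟩))) ((le_centralizer_iff.1 inf_le_right).trans
        (centralizer_le_normalizer _)) ▸ mem_normalizer_iff_cj.2 ?_)
      rw [cj_inf, cj_centralizer, e1, cj_eq_of_mem_normalizer (RN hy)]
  have f3 : ∀ c ∈ Q, Zm M c → c ≠ 1 → ∀ y ∈ R, y ∉ M → ∃ c' ∈ Q, Zm M c' ∧ y * c * y⁻¹ = z * c' :=
    fun c hc zc c1 y hy yM => by
      have cm : ∀ q ∈ Q1, y * c * y⁻¹ * q = q * (y * c * y⁻¹) := fun q hq => by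
        calc _ = y * (c * (y⁻¹ * q * y)) * y⁻¹ := by group
          _ = _ := by rw [zc _ (QM (cj2 y hy q hq))]; group
      obtain ⟨v, hv, c', hc', zc', e⟩ := tv (y * c * y⁻¹) (k.cV ▸ fun a ha => (cm a (k.q1 (VQ ha))).symm)
      rcases Sol1.zp2 z2 (k.zq v hv fun q hq => by
        have := cm q hq
        rwa [e, mul_assoc, zc' q (QM hq), ← mul_assoc, ← mul_assoc, mul_left_inj] at this) with rfl | rfl
      · exact (f2 c hc zc c1 y hy yM c' hc' zc' (by rw [e, one_mul])).elim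
      · exact ⟨c', hc', zc', e⟩
  have zm : ∀ {a b : G}, Zm M a → Zm M b → Zm M (a * b) := fun p q m hm => by
    rw [mul_assoc, q m hm, ← mul_assoc, p m hm, mul_assoc]
  have f4 : ∀ c ∈ Q, Zm M c → c ≠ 1 → ∀ y ∈ R, y ∉ M → y * c * y⁻¹ = z * c := fun c hc zc c1 y hy yM => by
    obtain ⟨c', hc', zc', e⟩ := f3 c hc zc c1 y hy yM
    have n1 : c' ≠ 1 := fun q => CfA2.zc k (by
      rw [q, mul_one, ← Rz y hy, mul_left_inj, mul_right_inj] at e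
      exact e ▸ zc)
    by_contra n
    obtain ⟨c'', hc'', zc'', e'⟩ := f3 c' hc' zc' n1 y hy yM
    refine f2 (c * c') (mul_mem hc hc') (zm zc zc') (fun q => n ?_) y hy yM (c' * c'') (mul_mem hc' hc'') (zm zc' zc'') ?_
    · rw [e, ← inv_eq_of_mul_eq_one_right q, inv_eq_of_mul_eq_one_right (sq c hc)]
    · rw [← conj_mul, e, e', mul_assoc, ← mul_assoc c', zc' z (QM (k.q1 (VQ k.zV))), mul_assoc, ← mul_assoc, z2, one_mul]
  refine le_antisymm (fun q hq => ?_) VQ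
  obtain ⟨v, hv, c, hc, zc, rfl⟩ := tv q hq
  by_cases c1 : c = 1
  · rwa [c1, mul_one]
  exfalso
  obtain ⟨s, hs, e⟩ := R1b.fixq p1 (n := 3) (by norm_num) k.x3 xQ (RN hg) (RM _ (mul_mem (xR g hg) (inv_mem hg)) (by
    rw [← f1 c hc zc c1, mem_c, ← mul_inv_eq_iff_eq_mul]
    have a1 := f4 c hc zc c1 _ (inv_mem hg) fun m => gM (inv_mem_iff.1 m)
    have a2 := f4 c hc zc c1 _ (xR g hg) fun m => gM (by
      simpa [mul_assoc] using mul_mem (mul_mem (inv_mem k.xM) m) k.xM)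
    calc _ = (x * g * x⁻¹) * (g⁻¹ * c * g⁻¹⁻¹) * (x * g * x⁻¹)⁻¹ := by group
      _ = _ := by rw [a1, ← conj_mul, a2, Rz _ (xR g hg), ← mul_assoc, z2, one_mul]))
  have := h.comm (.inl rfl) k.x3 k.x1 pR (mul_mem hg (lt.le hs)) (lt.le (k.q1 hc)) e (zc x k.xM)
  exact gM ((mul_mem_cancel_right (QM hs)).1 (f1 c hc zc c1 ▸ mem_c.2 this))

end CL.L37.CfA2
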