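import Cfsg.Agent.FGS.L37.Sol2
import Cfsg.Agent.FGS.L37.Zp
import Cfsg.Agent.FGS.Ord8.Sol4

/-!
Port of `FGS/Ord8/Sol4` (`Qd` with a prime `p`).
-/

set_option autoImplicit false
set_option linter.unusedSectionVars false

namespace CL.L37

open Subgroup Cfsg CL.MSS CL.Ord6 CL.Ord8
open scoped commutatorElement MatrixGroups

universe u

namespace Sol4

open CL.Ord8.Sol4 (π π_one π_comm π_surj card_range)

variable {X : Type*} [Group X] [Finite X] {p : ℕ}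

/-- the facts on `H / O₂(H)` -/
structure Qd (p : ℕ) (R : Subgroup X) : Prop where
  hd : HD X
  hp : p = 3 ∨ p = 7 ∨ p = 19
  nm : R.Normal
  cub : ∀ r ∈ R, r ^ p = 1
  cen : ∀ s, (∀ r ∈ R, Commute s r) → s ∈ R
  cy : ∀ s a b : X, s ^ 16 = 1 → a ^ p = 1 → b ^ p = 1 → Commute a b → a ≠ 1 → b ∉ zpowers a → Commute s a →
    Commute s b → s = 1

theorem pr (hp : p = 3 ∨ p = 7 ∨ p = 19) : p.Prime := by rcases hp with rfl | rfl | rfl <;> norm_num

theorem nz (hp : p.Prime) {P : Subgroup X} (cub : ∀ r ∈ P, r ^ p = 1) {c : X} (hc : c ∈ P) (n : ¬ P ≤ zpowers c) :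
    ∃ u ∈ P, u ∉ zpowers c ∧ Commute c u := by
  have := Fact.mk hp
  obtain ⟨u, hu, nu⟩ := SetLike.not_le_iff_exists.1 n
  have : Nontrivial P := ⟨⟨⟨u, hu⟩, 1, fun e => nu (by rw [show u = 1 from congrArg Subtype.val e]; exact one_mem _)⟩⟩
  have hP : IsPGroup p P := fun g => ⟨1, Subtype.ext ((congrArg _ (pow_one p)).trans (cub g g.2))⟩
  have := hP.center_nontrivial
  obtain ⟨⟨z, hz⟩, z1⟩ := exists_ne (1 : center P)
  have zc : ∀ g ∈ P, Commute g z := fun g hg => congrArg Subtype.val (mem_center_iff.1 hz ⟨g, hg⟩)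
  by_cases k : (z : X) ∈ zpowers c
  · have z1' : (z : X) ≠ 1 := fun e => z1 (Subtype.ext (Subtype.ext e))
    have c1 : c ≠ 1 := fun e => z1' (by simpa [e] using k)
    have e : zpowers (z : X) = zpowers c := eq_of_le_of_card_ge (zpowers_le_of_mem k) (by
      rw [Nat.card_zpowers, Nat.card_zpowers, ordp hp (cub _ hc) c1, ordp hp (cub _ z.2) z1'])
    obtain ⟨i, rfl⟩ := e.ge (mem_zpowers c)
    exact ⟨u, hu, nu, ((zc u hu).zpow_right i).symm⟩
  · exact ⟨z, z.2, k, zc c hc⟩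

namespace Qd

variable {R : Subgroup X} (Q : Qd p R)
include Q

theorem one_of {s : X} (h8 : s ^ 16 = 1) (h3 : s ^ p = 1) : s = 1 :=
  one_of_cop h8 h3 (by rcases Q.hp with rfl | rfl | rfl <;> norm_num)

theorem cyc {s c : X} (s8 : s ^ 16 = 1) (s1 : s ≠ 1) (hc : c ∈ R) (c1 : c ≠ 1) (e : Commute s c) :
    R ⊓ 𝐜 s ≤ zpowers c := by
  by_contra n
  obtain ⟨u, hu, nu, k⟩ := nz (pr Q.hp) (P := R ⊓ 𝐜 s) (fun r hr => Q.cub r hr.1) ⟨hc, mem_c.2 e.symm⟩ n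
  exact s1 (Q.cy s c u s8 (Q.cub c hc) (Q.cub u hu.1) k c1 nu e (mem_c.1 hu.2).symm)

theorem not_le {s c : X} (s8 : s ^ 16 = 1) (s1 : s ≠ 1) (e : Commute s c) : ¬ R ≤ zpowers c := fun h =>
  s1 (Q.one_of s8 (Q.cub s (Q.cen s fun _ hr => let ⟨i, k⟩ := h hr; k ▸ e.zpow_right i)))

theorem cop {A : Subgroup X} (el : ∀ a ∈ A, a * a = 1) : (♯A).Coprime (♯R) :=
  have := Fact.mk (pr Q.hp)
  IsPGroup.coprime_card_of_ne 2 p (by have := Q.hp; omega) A R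
    (fun g => ⟨1, Subtype.ext ((pow_two _).trans (el g g.2))⟩)
    fun g => ⟨1, Subtype.ext ((congrArg _ (pow_one p)).trans (Q.cub g g.2))⟩

theorem two {B : Subgroup X} (pB : IsPGroup 2 B) {c : X} (hc : c ∈ R) (c1 : c ≠ 1) (e : ∀ b ∈ B, Commute b c) :
    ♯B ≤ 2 := by
  by_contra! n
  have c3 := Q.cub c hc
  have el : ∀ b ∈ B, b * b = 1 := fun b hb => by
    rcases or_assoc.2 Q.hp with k | rfl
    · exact Q.hd.inv k c3 c1 (e b hb).symm (Q.hd.p16 pB hb)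
    · rw [Q.hd.fpf c3 c1 pB hb (e b hb).symm, mul_one]
  have : IsMulCommutative B := ⟨⟨fun a b => Subtype.ext (comm_sq el a.2 b.2)⟩⟩
  have := Q.nm
  obtain ⟨b, hb, b1⟩ := (bot_or_exists_ne_one B).resolve_left fun k => by simp [k] at n
  refine Q.not_le (Q.hd.p16 pB hb) b1 (e b hb) (coprime_le_of_forall_centralizer_le B R _ (fun k => ?_)
    le_normalizer_of_normal (Q.cop el) fun a ha a1 => Q.cyc (Q.hd.p16 pB ha) a1 hc c1 (e a ha))
  obtain ⟨g, hg⟩ := k.exists_ofOrder_eq_natCard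
  exact absurd (hg ▸ orderOf_le_of_pow_eq_one two_pos (Subtype.ext ((pow_two _).trans (el g g.2)))) n.not_ge

theorem four {A : Subgroup X} (el : ∀ a ∈ A, a * a = 1) : ♯A ≤ 4 := by
  by_contra! n
  have : IsMulCommutative A := ⟨⟨fun a b => Subtype.ext (comm_sq el a.2 b.2)⟩⟩
  have := Q.nm
  have pA : IsPGroup 2 A := fun g => ⟨1, Subtype.ext ((pow_two _).trans (el g g.2))⟩
  have n0 : A ≠ ⊥ := fun k => by simp [k] at n
  obtain ⟨b, hb, b1⟩ := (bot_or_exists_ne_one A).resolve_left n0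
  refine Q.not_le (Q.hd.p16 pA hb) b1 (Commute.one_right b) (coprime_le_of_forall_hyperplane A R _ Nat.prime_two
    (fun a ha => (pow_two a).trans (el a ha)) n0 le_normalizer_of_normal (Q.cop el) fun B hB i c hc => ?_)
  by_contra c1
  have h1 := Q.two (pA.to_le hB) hc.1 (fun e => c1 (by rw [e]; exact one_mem _)) fun b hb => hc.2 b hb
  have h2 := card_mul_index (B.subgroupOf A)
  rw [Nat.card_congr (subgroupOfEquivOfLe hB).toEquiv, show (B.subgroupOf A).index = 2 from i] at h2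
  omega

theorem gen (k : ∀ a b : X, a ^ p = 1 → b ^ p = 1 → Commute a b → a ≠ 1 → b ∈ zpowers a) {x : X} (x1 : x ≠ 1) :
    ∃ c, c ≠ 1 ∧ R = zpowers c := by
  rcases bot_or_exists_ne_one R with e | ⟨c, hc, c1⟩
  · refine absurd (mem_bot.1 (e ▸ Q.cen x fun r hr => ?_)) x1
    rw [e, mem_bot] at hr
    exact hr ▸ Commute.one_right x
  exact ⟨c, c1, le_antisymm (by_contra fun n =>
    let ⟨u, hu, nu, h⟩ := nz (pr Q.hp) Q.cub hc n
    nu (k c u (Q.cub c hc) (Q.cub u hu) h c1)) (zpowers_le_of_mem hc)⟩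

theorem six {c : X} (c1 : c ≠ 1) (e : R = zpowers c) : Nat.card X ∣ p * p.totient := by
  have := Q.nm
  have h3 : ♯R = p := by rw [e, Nat.card_zpowers, ordp (pr Q.hp) (Q.cub c (e.ge (mem_zpowers c))) c1]
  have : IsCyclic R := e ▸ inferInstance
  have h1 : (MulAut.conjNormal : X →* MulAut R).ker ≤ R := fun s hs => Q.cen s fun r hr => by
    have := congrArg Subtype.val (DFunLike.congr_fun (MonoidHom.mem_ker.1 hs) (⟨r, hr⟩ : R))
    exact mul_inv_eq_iff_eq_mul.1 (by simpa using this)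
  rw [← card_mul_index (MulAut.conjNormal : X →* MulAut R).ker, index_ker]
  refine mul_dvd_mul (h3 ▸ card_dvd_of_le h1) ?_
  have := card_subgroup_dvd_card (MulAut.conjNormal : X →* MulAut R).range
  rwa [IsCyclic.card_mulAut, h3] at this

end Qd

theorem sev {R : Subgroup X} (Q : Qd 7 R) {c x : X} (c1 : c ≠ 1) (e : R = zpowers c) (x3 : x ^ 3 = 1) (x1 : x ≠ 1) :
    x * c * x⁻¹ = c ^ 2 ∨ x ^ 2 * c * (x ^ 2)⁻¹ = c ^ 2 := by
  have hc : c ∈ R := e.ge (mem_zpowers c)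
  have o7 := ordp (by norm_num) (Q.cub c hc) c1
  obtain ⟨k, hk⟩ := (isOfFinOrder_of_finite c).mem_powers_iff_mem_zpowers.2 (e.le (Q.nm.conj_mem c hc x))
  change c ^ k = _ at hk
  rw [← pow_mod_orderOf, o7] at hk
  have lt : k % 7 < 7 := Nat.mod_lt _ (by norm_num)
  generalize k % 7 = j at hk lt
  have h2 : x ^ 2 * c * (x ^ 2)⁻¹ = c ^ (j * j) := by
    rw [show x ^ 2 * c * (x ^ 2)⁻¹ = x * (x * c * x⁻¹) * x⁻¹ by rw [pow_two]; group, ← hk, ← conj_pow, ← hk, ← pow_mul]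
  have h3 : c ^ (j * (j * j)) = c ^ 1 := by
    rw [pow_mul, hk, conj_pow, ← h2, show x * (x ^ 2 * c * (x ^ 2)⁻¹) * x⁻¹ = x ^ 3 * c * (x ^ 3)⁻¹ by group, x3]
    simp
  rw [pow_eq_pow_iff_modEq, o7] at h3
  have hj : j = 1 ∨ j = 2 ∨ j = 4 := by
    interval_cases j <;> first | omega | (exfalso; revert h3; decide)
  rcases hj with rfl | rfl | rfl
  · refine absurd (one_of_cop x3 (Q.cub x (Q.cen x fun r hr => ?_)) (by norm_num)) x1
    obtain ⟨i, rfl⟩ := e.le hr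
    exact Commute.zpow_right (mul_inv_eq_iff_eq_mul.1 (hk.symm.trans (pow_one c))) i
  · exact .inl hk.symm
  · refine .inr (h2.trans ?_)
    rw [pow_eq_pow_iff_modEq, o7]
    decide

variable {G : Type*} [Group G] [Finite G] {H : Subgroup G}

theorem liftp (hp : p = 3 ∨ p = 7 ∨ p = 19) {a b : H} (a3 : π H a ^ p = 1) (b3 : π H b ^ p = 1)
    (c : Commute (π H a) (π H b)) (a1 : π H a ≠ 1) (n : π H b ∉ zpowers (π H a)) :
    ∃ e f : H, e.1 ^ p = 1 ∧ f.1 ^ p = 1 ∧ e.1 * f = f * e ∧ e.1 ≠ 1 ∧ f.1 ∉ zpowers e.1 ∧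
      π H e = π H a ∧ π H f = π H b := by
  obtain ⟨e, f, he, hf, e1, e2, e3, e4, e5, h1, h2⟩ := ep_lift hp a.2 b.2 (π_one.1 ((map_pow _ a p).trans a3))
    (π_one.1 ((map_pow _ b p).trans b3)) (π_comm.1 c) (fun k => a1 (π_one.2 k)) fun i k => n (by
      have := (π_one (g := a ^ i * b)).2 k
      rw [map_mul, map_pow, mul_eq_one_iff_inv_eq] at this
      exact this ▸ inv_mem (pow_mem (mem_zpowers _) i))
  refine ⟨⟨e, he⟩, ⟨f, hf⟩, e1, e2, e3, e4, e5, inv_mul_eq_one.1 ?_, inv_mul_eq_one.1 ?_⟩ <;>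
    rw [← map_inv, ← map_mul, π_one]
  exacts [h1, h2]

theorem qd (h : HD G) (ch : Ch H) {R : Subgroup G} (T : Ft p H R) : Qd p ((R.subgroupOf H).map (π H)) := by
  have : (R.subgroupOf H).Normal := (normal_subgroupOf_iff_le_normalizer T.le).2 T.nm
  refine ⟨(h.subgroup H).quot _, T.hp, this.map _ π_surj, ?_, fun s hs => ?_, fun s a b s8 a3 b3 c a1 k sa sb => ?_⟩
  · rintro _ ⟨r, hr, rfl⟩
    rw [← map_pow, π_one]
    exact T.pw r hr
  · obtain ⟨s, rfl⟩ := π_surj s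
    exact mem_map_of_mem _ (T.cen s s.2 fun r hr => (π_comm (b := ⟨r, T.le hr⟩)).1 (hs _ (mem_map_of_mem _ hr)))
  · obtain ⟨s, rfl⟩ := π_surj s
    obtain ⟨a, rfl⟩ := π_surj a
    obtain ⟨b, rfl⟩ := π_surj b
    obtain ⟨e, f, e1, e2, e3, e4, e5, h1, h2⟩ := liftp T.hp a3 b3 c a1 k
    rcases or_assoc.2 T.hp with hp | rfl
    · have h3 := h.p16 (oP_isPGroup H) (π_one.1 ((map_pow _ s 16).trans s8))
      exact π_one.2 (cy h ch ⟨hp, e.2, f.2, e1, e2, e3, e4, e5⟩ s.2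
        (h.pow_of ((pow_mul s.1 16 16).trans h3) (by norm_num) (by norm_num) (by norm_num) (by norm_num))
        (π_comm.1 (h1 ▸ sa)) (π_comm.1 (h2 ▸ sb)))
    · exact absurd (no19 h ch e.2 f.2 e1 e2 e3 e4) e5

end Sol4

open Sol4
open CL.Ord8.Sol4 (π π_one π_comm π_surj card_range)

variable {G : Type*} [Group G] [Finite G]
variable {H : Subgroup G}

theorem sm (h : HD G) (ch : Ch H) (sol : Group.IsSolvable H) {x : G} (hx : x ∈ H) (x3 : x ^ 3 = 1) (x1 : x ≠ 1)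
    (n19 : ∀ g ∈ H, g ^ 19 = 1 → g = 1) (ne : ∀ p e f, ¬ Ep p H e f) (nf : ∀ y c, ¬ F21 H y c) : ♯H ∣ 6 * ♯(𝐎 H) := by
  obtain ⟨p, R, T⟩ := exists_ft h sol
  have Q := qd h ch T
  have x3' : π H ⟨x, hx⟩ ^ 3 = 1 := by rw [← map_pow, show (⟨x, hx⟩ : H) ^ 3 = 1 from Subtype.ext x3, map_one]
  have x1' : π H ⟨x, hx⟩ ≠ 1 := fun k => x1 (one_of_cop (h.p16 (oP_isPGroup H) (π_one.1 k)) x3 (by norm_num))
  obtain ⟨c, c1, e⟩ := Q.gen (fun a b a3 b3 k a1 => by_contra fun m => by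
    obtain ⟨a, rfl⟩ := π_surj a
    obtain ⟨b, rfl⟩ := π_surj b
    obtain ⟨e, f, e1, e2, e3, e4, e5, -⟩ := liftp T.hp a3 b3 k a1 m
    rcases or_assoc.2 T.hp with hp | rfl
    · exact ne p e f ⟨hp, e.2, f.2, e1, e2, e3, e4, e5⟩
    · exact e4 (n19 e e.2 e1)) x1'
  have cp := Q.cub c (e.ge (mem_zpowers c))
  obtain ⟨c, rfl⟩ := π_surj c
  rcases T.hp with rfl | rfl | rfl
  · rw [card_range le_rfl, inf_of_le_right (oP_le H), mul_comm]
    exact mul_dvd_mul_right ((card_subgroup_dvd_card _).trans (Q.six c1 e)) _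
  · have key : ∀ b : H, π H b ^ 3 = 1 → π H b * π H c * (π H b)⁻¹ = π H c ^ 2 → False := fun b b3 k => by
      obtain ⟨y, d, -, -, F⟩ := lift21 (h.subgroup H) (π H)
        (by rw [QuotientGroup.ker_mk']; exact oP_pCore_isPGroup) cp c1 b3 k
      exact nf y d ⟨y.2, d.2, congrArg Subtype.val F.y7, fun k => F.y1 (Subtype.ext k), congrArg Subtype.val F.c3,
        fun k => F.c1 (Subtype.ext k), congrArg Subtype.val F.cy⟩
    rcases sev Q c1 e x3' x1' with k | k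
    · exact (key _ x3' k).elim
    · exact (key (⟨x, hx⟩ ^ 2) (by rw [map_pow, ← pow_mul, mul_comm, pow_mul, x3', one_pow])
        (by rwa [map_pow])).elim
  · obtain ⟨k1, k2⟩ := (h.subgroup H).lift (π H) (.inr (.inr rfl)) cp c1
    rw [show c ^ 400 = 1 from Subtype.ext (n19 _ (c ^ 400).2 (congrArg Subtype.val k1)), map_one] at k2
    exact absurd k2.symm c1

theorem ci2 (h : HD G) (ch : Ch H) {R : Subgroup G} (f : Ft 3 H R) {c : G} (hc : c ∈ R) (c1 : c ∉ 𝐎 H)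
    {B : Subgroup G} (hB : B ≤ H) (p : IsPGroup 2 B) (e : ∀ b ∈ B, ⁅b, c⁆ ∈ 𝐎 H) : ♯B ≤ 2 * ♯(B ⊓ 𝐎 H) := by
  have Q := qd h ch f
  rw [card_range hB, mul_comm]
  refine Nat.mul_le_mul_right _ (Q.two (p.of_surjective _ (MonoidHom.rangeRestrict_surjective _))
    (c := π H ⟨c, f.le hc⟩) (mem_map_of_mem _ hc) (fun k => c1 (π_one.1 k)) ?_)
  rintro _ ⟨b, rfl⟩
  exact π_comm.2 (e b b.2)

theorem rk3 (h : HD G) (ch : Ch H) (sol : Group.IsSolvable H) {A : Subgroup G} (hA : A ≤ H) (el : ∀ a ∈ A, a * a = 1)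
    (c : A ⊓ 𝐎 H = ⊥) : ♯A ≤ 4 := by
  obtain ⟨p, R, T⟩ := exists_ft h sol
  have Q := qd h ch T
  rw [card_range hA, c, card_bot, one_mul]
  refine Q.four ?_
  rintro _ ⟨b, rfl⟩
  rw [← map_mul, show b * b = 1 from Subtype.ext (el b b.2), map_one]

end CL.L37
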