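import Cfsg.Agent.FGS.L37.Tc
import Cfsg.Agent.FGS.L37.Sol4
import Cfsg.Agent.FGS.L37.Zp
import Cfsg.Agent.FGS.L37.CfA2
import Cfsg.Agent.FGS.Ord8.CfA

/-!
The natural case, step 1 (cf. `FGS/Ord8/CfA`).
-/

set_option autoImplicit false
set_option linter.unusedSectionVars false

namespace CL.L37

open Subgroup Cfsg CL.MSS CL.Ord6 CL.Ord8
open scoped commutatorElement MatrixGroups

universe u

variable {G : Type*} [Group G] [Finite G]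
variable {M Q V T Q1 H : Subgroup G} {z x : G}

namespace CfAx

theorem cw {g w : G} (hg : g ∈ 𝐜 z) (hw : w ∈ zpowers z) : g * w * g⁻¹ = w := by
  obtain ⟨n, rfl⟩ := hw
  exact mul_inv_eq_iff_eq_mul.2 ((show Commute g z from mem_c.1 hg).zpow_right n).eq

theorem mem_O (ch : Ch (𝐜 z)) (z2 : z * z = 1) {b : G} (hb : b ∈ 𝐜 z) (e : ∀ q ∈ 𝐎 (𝐜 z), ⁅b, q⁆ ∈ zpowers z) :
    b ∈ 𝐎 (𝐜 z) := by
  let K : Subgroup G := ⟨⟨⟨{g | g ∈ 𝐜 z ∧ ∀ q ∈ 𝐎 (𝐜 z), ⁅g, q⁆ ∈ zpowers z}, fun {a b} ha hb => ⟨mul_mem ha.1 hb.1,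
    fun q hq => by
      rw [show ⁅a * b, q⁆ = a * ⁅b, q⁆ * a⁻¹ * ⁅a, q⁆ by simp only [commutatorElement_def]; group, cw ha.1 (hb.2 q hq)]
      exact mul_mem (hb.2 q hq) (ha.2 q hq)⟩⟩, one_mem _, fun q _ => by simp⟩, fun {a} ha => ⟨inv_mem ha.1, fun q hq => by
      rw [show ⁅a⁻¹, q⁆ = a⁻¹ * ⁅a, q⁆⁻¹ * a⁻¹⁻¹ by simp only [commutatorElement_def]; group,
        cw (inv_mem ha.1) (inv_mem (ha.2 q hq))]
      exact inv_mem (ha.2 q hq)⟩⟩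
  refine le_oP (R := K) (isPGroup_iff_forall_mem.2 fun g hg => ?_) (fun g hg => hg.1)
    (fun n hn => mem_normalizer_of_cj_le (cj_le_iff_forall.2 fun g hg => ⟨mul_mem (mul_mem hn hg.1) (inv_mem hn),
      fun q hq => ?_⟩)) ⟨hb, e⟩
  · have h2 : g * g ∈ 𝐎 (𝐜 z) := ch ⟨mul_mem hg.1 hg.1, fun q hq => by
      have h1 := hg.2 q hq
      have h3 : ⁅g, q⁆ * ⁅g, q⁆ = 1 := by rcases Ord8.Sol1.zp2 z2 h1 with c | c <;> simp [c, z2]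
      refine (commutatorElement_eq_one_iff_mul_comm.1 ?_).symm
      rw [show ⁅g * g, q⁆ = g * ⁅g, q⁆ * g⁻¹ * ⁅g, q⁆ by simp only [commutatorElement_def]; group, cw hg.1 h1, h3]⟩
    obtain ⟨j, hj⟩ := isPGroup_iff_forall_mem.1 (oP_isPGroup (p := 2) (𝐜 z)) _ h2
    exact ⟨j + 1, by rw [pow_succ', pow_mul, pow_two, hj]⟩
  · have := hg.2 _ (conj_mem_of_normalizes' (oP_normal (p := 2) (𝐜 z)) hn hq)
    rwa [CfA.cm_cj, cw hn this]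

end CfAx

/-- **(a)** PROOF. `H = 𝐜 z`, `O = 𝐎 H ≤ Q1` (`o2`). `K = {g ∈ H | ⁅O, g⁆ ≤ ⟨z⟩}` is normal in `H`; an element of odd order of `K`
centralizes `O` (`z ∈ O`), so `K` is a `2`-group, `K ≤ O`; `V ≤ K` (`vq`). If `H` has `Ep` or `F21`, then `V ≤ Z(O)` (`lemE`, `zp`),
`O ≤ Q`. Solvable `H`: `tc` gives `⁅Q1, x⁆ ≤ O ≤ Q`, against `xq`; so `sm` (no element of order `19` centralizes `z`) and
counting as in `Cf.cz`. Non-solvable: `Ty7.f21`, `Ty7.card`: `8 |Q| = |T| ≤ 8 |O|`, so `O = Q`, `H ≤ 𝐍 Q = M`. -/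
theorem Cn.cza (h : HD G) (c2 : C2 G) (k : Cn M Q V T Q1 z x) (t : Group.IsSolvable (𝐜 z) ∨ Ty7 (𝐜 z))
    (c : 𝐎 (𝐜 z) ≤ M) : 𝐜 z ≤ M := by
  have z2 := k.el z k.zV
  have ch := c2.cen z2 k.z1
  have pO : IsPGroup 2 (𝐎 (𝐜 z)) := oP_isPGroup _
  have p1 : IsPGroup 2 Q1 := k.syl.pgroup.to_le k.q2
  have QH : Q1 ≤ 𝐜 z := k.q2.trans k.zT
  have OQ : 𝐎 (𝐜 z) ≤ Q1 := k.o2 _ pO (le_inf c (oP_le _)) (inf_le_right.trans (oP_normal _))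
  have xH : x ∈ 𝐜 z := mem_c.2 k.xz
  have VO : V ≤ 𝐎 (𝐜 z) := fun b hb => CfAx.mem_O ch z2 (mem_c.2 (comm_sq k.el hb k.zV)) fun q hq => k.vq b hb q (OQ hq)
  have kE : ∀ p e f, Ep p (𝐜 z) e f → 𝐎 (𝐜 z) ≤ Q := fun p e f E q hq => k.cV ▸ fun b hb =>
    lemE h ch E (mem_c.2 rfl) z2 (mem_c.1 E.he).symm (mem_c.1 E.hf).symm (VO hb) (fun q hq => k.vq b hb q (OQ hq)) q hq
  have kF : ∀ y c, F21 (𝐜 z) y c → 𝐎 (𝐜 z) ≤ Q := fun y c f q hq => k.cV ▸ fun b hb =>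
    zp h pO (⟨oP_normal _ f.hy, oP_normal _ f.hc, f.y7, f.y1, f.c3, f.c1, f.cy⟩ : F21 _ y c) (VO hb) (fun q hq =>
      have w := fun g hg => (mul_inv_eq_iff_eq_mul.1 (CfAx.cw (g := g) hg (k.vq b hb q (OQ hq)))).symm
      ⟨w y f.hy, w c f.hc, fun q' hq' => w q' (oP_le _ hq')⟩) q hq
  obtain ⟨a, ha⟩ := k.syl.pgroup.exists_card_eq
  rcases t with sol | t
  · obtain ⟨d, hd, e⟩ := k.xq
    have n : ¬ 𝐎 (𝐜 z) ≤ Q := fun c => e (c (tc h ch sol QH p1 xH k.x3 (k.nQ1 ⟨k.xM, xH⟩) hd))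
    have d6 := sm h ch sol xH k.x3 k.x1 (fun g hg g19 => by_contra fun g1 =>
      k.z1 (h.fpf g19 g1 (pg_zpowers z2) (mem_zpowers z) (mem_c.1 hg))) (fun p e f E => n (kE p e f E))
      fun y c f => n (kF y c f)
    have d1 : ♯T ∣ ♯(M ⊓ 𝐜 z) := card_dvd_of_le (le_inf k.syl.le k.zT)
    have d2 : 3 ∣ ♯(M ⊓ 𝐜 z) := ordp Nat.prime_three k.x3 k.x1 ▸ (M ⊓ 𝐜 z).orderOf_dvd_natCard ⟨k.xM, xH⟩
    have d3 := Nat.le_of_dvd Nat.card_pos (Nat.Coprime.mul_dvd_of_dvd_of_dvd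
      (ha ▸ Nat.Coprime.pow_right a (by norm_num)) d2 d1)
    obtain ⟨m, hm⟩ : ♯(𝐎 (𝐜 z)) ∣ ♯T := card_dvd_of_le (OQ.trans k.q2)
    have d4 : 2 * ♯(𝐎 (𝐜 z)) ≤ ♯T := by
      have : ♯(𝐎 (𝐜 z)) < ♯T := lt_of_le_of_ne (card_le_of_le (OQ.trans k.q2)) fun e =>
        k.q3 ((eq_of_le_of_card_ge (OQ.trans k.q2) e.ge).ge.trans OQ)
      rcases m with _ | _ | m
      · have := Nat.card_pos (α := T); omega
      · omega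
      · nlinarith
    have d5 := Nat.le_of_dvd (Nat.mul_pos (by norm_num) Nat.card_pos) d6
    exact (eq_of_le_of_card_ge (inf_le_right : M ⊓ 𝐜 z ≤ _) (by omega)).ge.trans inf_le_left
  · obtain ⟨y, c, f⟩ := t.f21 h
    have d1 : ♯T ∣ 21 * (8 * ♯(𝐎 (𝐜 z))) := by
      rw [← mul_assoc]; exact (t.card : _ = 21 * 8 * _) ▸ card_dvd_of_le k.zT
    have d2 := Nat.le_of_dvd (Nat.mul_pos (by norm_num) Nat.card_pos)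
      (Nat.Coprime.dvd_of_dvd_mul_left (ha ▸ Nat.Coprime.pow_left a (by norm_num)) d1)
    have d3 := k.cT
    rw [← k.nQ, ← eq_of_le_of_card_ge (kF y c f) (by omega)]
    exact oP_normal _

/-- **(b)** PROOF. `R = N_{O Q1}(Q1) > Q1`, `R ⊓ M = Q1`; `g ∈ R - M`, `g z = z g`. `V^g ≤ Q1`, `⁅V^g, Q1⁆ ≤ ⟨z⟩`. If `V^g ≤ Q`, `r1`
gives `Q ≤ C(V^g) = Q^g`, `g ∈ M`. So `tv`, `sq` apply: `Q = V C`, `C = {c ∈ Q | Zm M c}`, `Q` elementary. Suppose `1 ≠ c ∈ C`;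
`𝐜 c = M = 𝐍 C` (`max`). For `g ∈ R - M`, `c^g ∈ Z(Q1) ≤ C(V) = Q`, `c^g = v c'` with `v ∈ ⟨z⟩` (`zq`), and `c^g ∉ C` (else
`M^g = M`, `g ∈ 𝐍 C`). So `|C| = 2`, `c^g = z c` (`c^g = z` is impossible: `c ≠ z` by `tr`, `c8`), `|R : Q1| = 2`. `x` normalizes `R`
and `Q1`, so centralizes some `g' ∈ R - Q1` (`R1b.fixq`); `HD.comm` gives `g' ∈ 𝐜 c = M`. So `C = 1`. -/
theorem Cn.czb (h : HD G) (k : Cn M Q V T Q1 z x) (c : ¬ 𝐎 (𝐜 z) ≤ M) : Q = V :=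
  CfA2.czb h k c

end CL.L37
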