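import Cfsg.Agent.FGS.L37.Sol4
import Cfsg.Agent.FGS.Ord8.Sol5

/-!
Port of `FGS/Ord8/Sol5` (`Sol5.core`, `core2` are generic: cite them).
-/

set_option autoImplicit false
set_option linter.unusedSectionVars false

namespace CL.L37

open Subgroup Cfsg CL.MSS CL.Ord6 CL.Ord8
open scoped commutatorElement MatrixGroups

universe u

variable {G : Type*} [Group G] [Finite G]
variable {H : Subgroup G}

/-- as `CL.Ord8.sr`, with `Ft 3 H R`, `cy`, `ci2` -/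
theorem sr (h : HD G) (ch : Ch H) {R : Subgroup G} (f : Ft 3 H R) {T : Subgroup G} (hT : T ≤ H) (p : IsPGroup 2 T) {a : G}
    (ha : a ∈ T) (a1 : a ∉ 𝐎 H) (a2 : a * a ∈ 𝐎 H) (c : ∀ t ∈ T, ⁅a, t⁆ ∈ 𝐎 H) :
    ∃ D : Subgroup G, 𝐎 H ≤ D ∧ D ≤ H ∧ ¬ D ≤ 𝐎 H ∧ T ≤ 𝐍 D ∧
      ∀ d ∈ D, d ^ 3 ∈ 𝐎 H ∧ a * d * a⁻¹ * d ∈ 𝐎 H := by
  have tR := f
  clear f
  have nO : ((𝐎 H).subgroupOf H).Normal := (normal_subgroupOf_iff_le_normalizer (oP_le H)).2 (oP_normal H)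
  set φ := QuotientGroup.mk' ((𝐎 H).subgroupOf H) with hφ
  have ker : ∀ m : H, φ m = 1 ↔ m.1 ∈ 𝐎 H := fun m => QuotientGroup.eq_one_iff m
  have sur : Function.Surjective φ := QuotientGroup.mk'_surjective _
  have cmm : ∀ u v : H, φ u * φ v = φ v * φ u ↔ ⁅u.1, v.1⁆ ∈ 𝐎 H := fun u v => by
    rw [← commutatorElement_eq_one_iff_mul_comm, ← map_commutatorElement, ker]; rfl
  have nR : (R.subgroupOf H).Normal := (normal_subgroupOf_iff_le_normalizer tR.le).2 tR.nm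
  have nR' : ((R.subgroupOf H).map φ).Normal := nR.map φ sur
  have hc : ∀ t ∈ (T.subgroupOf H).map φ, φ ⟨a, hT ha⟩ * t = t * φ ⟨a, hT ha⟩ := by
    rintro _ ⟨t, ht, rfl⟩
    exact (cmm _ _).2 (c t ht)
  have cub : ∀ r ∈ (R.subgroupOf H).map φ, r ^ 3 = 1 := by
    rintro _ ⟨r, hr, rfl⟩
    rw [← map_pow, ker]
    exact tR.pw r hr
  obtain ⟨x, hx, x1, ix, k⟩ := Sol5.core ((R.subgroupOf H).map φ) ((T.subgroupOf H).map φ) cub (a := φ ⟨a, hT ha⟩)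
    (fun s hs => by
      obtain ⟨s, rfl⟩ := sur s
      exact ⟨s, tR.cen s s.2 fun r hr => (cmm s ⟨r, tR.le hr⟩).1 (hs _ ⟨⟨r, tR.le hr⟩, hr, rfl⟩), rfl⟩)
    (fun e => a1 ((ker _).1 e)) (by rw [← map_mul, ker]; exact a2) hc
    (by
      rintro _ ⟨e, he, rfl⟩ _ ⟨f, hf, rfl⟩ e1 ef ae af
      by_contra ne
      obtain ⟨e', f', E1, E2, E3, E4, E5, E6, E7, ke, kf⟩ := ep_lift (.inl rfl) e.2 f.2 (tR.pw e he) (tR.pw f hf) ((cmm e f).1 ef)
        (fun z => e1 ((ker e).2 z)) (fun i z => ne (by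
          have z' := (ker (e ^ i * f)).2 z
          rw [map_mul, map_pow] at z'
          rw [← inv_eq_of_mul_eq_one_right z']
          exact inv_mem (npow_mem_zpowers _ _)))
      have E : Ep 3 H e' f' := ⟨.inl rfl, E1, E2, E3, E4, E5, E6, E7⟩
      have ke' : φ ⟨e', E.he⟩ = φ e := by
        have z := (ker ((⟨e', E.he⟩ : H)⁻¹ * e)).2 ke
        rwa [map_mul, map_inv, inv_mul_eq_one] at z
      have kf' : φ ⟨f', E.hf⟩ = φ f := by
        have z := (ker ((⟨f', E.hf⟩ : H)⁻¹ * f)).2 kf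
        rwa [map_mul, map_inv, inv_mul_eq_one] at z
      exact a1 (cy h ch E (hT ha) (h.p16 p ha) ((cmm ⟨a, hT ha⟩ ⟨e', E.he⟩).1 (by rw [ke', ae]))
        ((cmm ⟨a, hT ha⟩ ⟨f', E.hf⟩).1 (by rw [kf', af]))))
    (by
      rintro _ ⟨e, he, rfl⟩ e1 ae _ ⟨t, ht, rfl⟩ te
      set B : Subgroup G := T ⊓ ((centralizer {φ e}).comap φ).map H.subtype with hB
      have mB : ∀ u : H, u.1 ∈ T → φ u * φ e = φ e * φ u → u.1 ∈ B := fun u hu k =>
        ⟨hu, u, mem_centralizer_singleton_iff.2 k, rfl⟩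
      have k := ci2 h ch tR he (fun z => e1 ((ker e).2 z)) (B := B) (inf_le_left.trans hT)
        (p.to_le inf_le_left) (by
          rintro _ ⟨-, u, hu, rfl⟩
          exact (cmm u e).1 (mem_centralizer_singleton_iff.1 hu))
      have aB := mB ⟨a, hT ha⟩ ha ae
      have tB := mB t ht te
      have i2 : ((𝐎 H).subgroupOf B).index = 2 := by
        have k1 := ((𝐎 H).subgroupOf B).index_mul_card
        have k2 : Nat.card ((𝐎 H).subgroupOf B) = ♯(B ⊓ 𝐎 H) := by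
          rw [← inf_subgroupOf_left]
          exact Nat.card_congr (subgroupOfEquivOfLe inf_le_left).toEquiv
        have k3 : ((𝐎 H).subgroupOf B).index ≠ 1 := fun z => a1 (by
          have : (⟨a, aB⟩ : B) ∈ (𝐎 H).subgroupOf B := by rw [index_eq_one.1 z]; trivial
          exact this)
        have k4 : ((𝐎 H).subgroupOf B).index ≠ 0 := index_ne_zero_of_finite
        have k5 : 0 < ♯(B ⊓ 𝐎 H) := Nat.card_pos
        rw [k2] at k1
        have : ((𝐎 H).subgroupOf B).index ≤ 2 := Nat.le_of_mul_le_mul_right (k1 ▸ k) k5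
        omega
      by_cases t1 : t.1 ∈ 𝐎 H
      · exact .inl ((ker t).2 t1)
      have z : (⟨t, tB⟩ * ⟨a, aB⟩ : B) ∈ (𝐎 H).subgroupOf B := (mul_mem_iff_of_index_two i2).2 (iff_of_false t1 a1)
      have z1 := (ker (t * (⟨a, hT ha⟩ : H))).2 (show t.1 * a ∈ 𝐎 H from z)
      have z2 := (ker (⟨a, hT ha⟩ * ⟨a, hT ha⟩)).2 a2
      rw [map_mul] at z1 z2
      exact .inr (mul_right_cancel (z1.trans z2.symm)))
  obtain ⟨D, xD, nD, pD⟩ := Sol5.core2 _ hc (cub x hx) ix k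
  obtain ⟨x, rfl⟩ := sur x
  have cjD : ∀ t ∈ T, ∀ d ∈ (D.comap φ).map H.subtype, t * d * t⁻¹ ∈ (D.comap φ).map H.subtype := by
    rintro t ht _ ⟨d, hd, rfl⟩
    refine ⟨⟨t, hT ht⟩ * d * (⟨t, hT ht⟩ : H)⁻¹, ?_, rfl⟩
    show φ _ ∈ D
    rw [map_mul, map_mul, map_inv]
    exact nD _ ⟨⟨t, hT ht⟩, ht, rfl⟩ _ hd
  refine ⟨(D.comap φ).map H.subtype, fun q hq => ⟨⟨q, oP_le H hq⟩, ?_, rfl⟩, map_subtype_le _,
    fun le => x1 ((ker x).2 (le ⟨x, xD, rfl⟩)), fun t ht => mem_normalizer_iff.2 fun d => ⟨cjD t ht d, fun hd => ?_⟩, ?_⟩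
  · show φ _ ∈ D
    rw [(ker ⟨q, oP_le H hq⟩).2 hq]
    exact one_mem _
  · have z := cjD t⁻¹ (inv_mem ht) _ hd
    rwa [show t⁻¹ * (t * d * t⁻¹) * t⁻¹⁻¹ = d by group] at z
  · rintro _ ⟨d, hd, rfl⟩
    refine ⟨(ker (d ^ 3)).1 (by rw [map_pow]; exact (pD _ hd).1),
      (ker (⟨a, hT ha⟩ * d * (⟨a, hT ha⟩ : H)⁻¹ * d)).1 ?_⟩
    rw [map_mul, map_mul, map_mul, map_inv]
    exact (pD _ hd).2

end CL.L37
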