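import Cfsg.Agent.FGS.Ord8.Bld7
import Cfsg.Agent.TECH.QPush4

/-!
Groups all of whose element orders divide `6`, `14`, `16` or `19`: definitions and basic facts.
The notation and the structures `Ch, C2, Loc, TI, Mn, Pr` are those of `FGS/Ord8`.
-/

set_option autoImplicit false
set_option linter.unusedSectionVars false

namespace CL.L37

open Subgroup Cfsg CL.MSS CL.Ord6 CL.Ord8
open scoped commutatorElement

universe u

scoped notation "𝐉" A:max => Cfsg.thompsonSubgroupOf 2 A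
scoped notation "𝐁" A:max => Cfsg.baumannSubgroupOf 2 A

variable {G Γ : Type*} [Group G] [Group Γ]

/-- all element orders divide `6`, `14`, `16` or `19` -/
def HD (G : Type*) [Group G] : Prop := ∀ g : G, g ^ 6 = 1 ∨ g ^ 14 = 1 ∨ g ^ 16 = 1 ∨ g ^ 19 = 1

/-- `G ≅ L₃(7)` -/
def I37 (G : Type*) [Group G] : Prop := ∃ (F : Type) (_ : Field F) (_ : Fintype F), Fintype.card F = 7 ∧
  Nonempty (G ≃* Matrix.ProjectiveSpecialLinearGroup (Fin 3) F)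

/-- the two simple groups -/
def L7 (G : Type*) [Group G] : Prop := Nonempty (G ≃* L32) ∨ I37 G

/-- the classification below order `n` -/
def IH7 (n : ℕ) : Prop := ∀ (X : Type u) [Group X] [Finite X] [IsSimpleGroup X],
  Nat.card X < n → HD X → ¬ IsMulCommutative X → L7 X

/-- `H / O₂(H) ≅ L₃(2)` -/
def Ty7 (H : Subgroup G) : Prop :=
  ∃ π : H →* L32, Function.Surjective π ∧ ∀ m : H, π m = 1 ↔ m.1 ∈ 𝐎 H

/-- the proper non-solvable subgroups of characteristic two -/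
def St7 (G : Type*) [Group G] : Prop :=
  ∀ H : Subgroup G, H ≠ ⊤ → Ch H → ¬ Group.IsSolvable H → Ty7 H

/-- `⟨e, f⟩` is an elementary abelian subgroup of order `9` or `49` of `H` -/
structure Ep (p : ℕ) (H : Subgroup G) (e f : G) : Prop where
  hp : p = 3 ∨ p = 7
  he : e ∈ H
  hf : f ∈ H
  ep : e ^ p = 1
  fp : f ^ p = 1
  cm : e * f = f * e
  e1 : e ≠ 1
  ne : f ∉ zpowers e

/-- `⟨y, c⟩` is a Frobenius subgroup of order `21` of `H` -/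
structure F21 (H : Subgroup G) (y c : G) : Prop where
  hy : y ∈ H
  hc : c ∈ H
  y7 : y ^ 7 = 1
  y1 : y ≠ 1
  c3 : c ^ 3 = 1
  c1 : c ≠ 1
  cy : c * y * c⁻¹ = y ^ 2

/-- `R / O₂(H)` is a normal, self-centralizing subgroup of exponent `p` of `H / O₂(H)` -/
structure Ft (p : ℕ) (H R : Subgroup G) : Prop where
  hp : p = 3 ∨ p = 7 ∨ p = 19
  lo : 𝐎 H ≤ R
  le : R ≤ H
  nm : H ≤ 𝐍 R
  pw : ∀ r ∈ R, r ^ p ∈ 𝐎 H
  cen : ∀ s ∈ H, (∀ r ∈ R, ⁅s, r⁆ ∈ 𝐎 H) → s ∈ R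

/-- `c` is central in `M` -/
def Zm (M : Subgroup G) (c : G) : Prop := ∀ m ∈ M, c * m = m * c

/-- `M` has no `2F`-offender on `Y` -/
def No2F (M Y : Subgroup G) : Prop := ∀ B : Subgroup G, B ≤ M → InducesElemAbelianTwoGroupOn B Y →
  ((𝐂 Y).relIndex B) ^ 2 < (Y ⊓ 𝐂 B).relIndex Y

/-- a maximal `2`-local subgroup with `M / Q = L₃(2)` and a natural module `V ≤ Z(Q)`; `z` is the point fixed by `T`,
`Q1 / Q` the group of transvections with centre `z` -/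
structure Cn (M Q V T Q1 : Subgroup G) (z x : G) : Prop where
  pQ : IsPGroup 2 Q
  nQ : 𝐍 Q = M
  max : ∀ X : Subgroup G, IsPGroup 2 X → X ≠ ⊥ → M ≤ 𝐍 X → 𝐍 X = M
  syl : SylIn 2 T M
  cT : ♯T = 8 * ♯Q
  el : ∀ v ∈ V, v * v = 1
  c8 : ♯V = 8
  nV : 𝐍 V = M
  cV : 𝐂 V = Q
  zV : z ∈ V
  z1 : z ≠ 1
  tr : ∀ a ∈ V, a ≠ 1 → ∃ m ∈ M, a = m * z * m⁻¹
  zT : T ≤ 𝐜 z
  x3 : x ^ 3 = 1
  x1 : x ≠ 1
  xM : x ∈ M
  xz : x * z = z * x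
  q1 : Q ≤ Q1
  q2 : Q1 ≤ T
  q3 : ¬ T ≤ Q1
  nQ1 : M ⊓ 𝐜 z ≤ 𝐍 Q1
  o2 : ∀ D : Subgroup G, IsPGroup 2 D → D ≤ M ⊓ 𝐜 z → M ⊓ 𝐜 z ≤ 𝐍 D → D ≤ Q1
  vq : ∀ b ∈ V, ∀ q ∈ Q1, ⁅b, q⁆ ∈ zpowers z
  zq : ∀ v ∈ V, (∀ q ∈ Q1, v * q = q * v) → v ∈ zpowers z
  xq : ∃ d ∈ Q1, ⁅d, x⁆ ∉ Q
  r1 : ∀ b ∈ Q, (∀ q ∈ Q, ⁅b, q⁆ ∈ zpowers z) → ∀ q ∈ Q, b * q = q * b
  sq : ∀ t ∈ M, t ∉ Q → (∀ q ∈ Q, ⁅q, t⁆ ∈ V) → ∀ q ∈ Q, q * q = 1
  tv : ∀ t ∈ M, t ∉ Q → (∀ q ∈ Q, ⁅q, t⁆ ∈ zpowers z) → ∀ q ∈ Q, ∃ v ∈ V, ∃ c ∈ Q, Zm M c ∧ q = v * c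
  rk : ∀ A : Subgroup G, A ≤ M → (∀ a ∈ A, a * a = 1) → A ⊓ Q = ⊥ → ♯A ≤ 4

/-- a maximal `2`-local subgroup with `M / Q = L₃(2)` and `V ≤ Z(Q)` the non-split extension of `⟨z0⟩ ≤ Z(M)` by the
natural module; `Z1 = ⟨z0, z⟩` is the point fixed by `T`, `Q1 / Q` the group of transvections with that centre -/
structure Cu (M Q V T Q1 Z1 : Subgroup G) (z0 z x : G) : Prop where
  pQ : IsPGroup 2 Q
  nQ : 𝐍 Q = M
  cQ : 𝐂 Q ≤ Q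
  max : ∀ X : Subgroup G, IsPGroup 2 X → X ≠ ⊥ → M ≤ 𝐍 X → 𝐍 X = M
  syl : SylIn 2 T M
  cT : ♯T = 8 * ♯Q
  c1 : ♯Q1 = 4 * ♯Q
  el : ∀ v ∈ V, v * v = 1
  c16 : ♯V = 16
  nV : 𝐍 V = M
  cV : 𝐂 V = Q
  z01 : z0 ≠ 1
  z0M : Zm M z0
  zz : z ≠ 1 ∧ z ≠ z0
  mem : ∀ w, w ∈ Z1 ↔ w = 1 ∨ w = z0 ∨ w = z ∨ w = z * z0
  c4 : ♯Z1 = 4
  le : Z1 ≤ V
  x3 : x ^ 3 = 1
  x1 : x ≠ 1
  xM : x ∈ M
  q1 : Q ≤ Q1
  q2 : Q1 ≤ T
  nT : T ≤ 𝐍 Q1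
  nx : x ∈ 𝐍 Q1
  nZ : T ≤ 𝐍 Z1
  st : M ⊓ 𝐜 z = Q1 ⊔ zpowers x
  two : ∀ g ∈ M ⊓ 𝐜 z, g ^ 16 = 1 → g ∈ Q1
  o2 : ∀ D : Subgroup G, D ≤ T → x ∈ 𝐍 D → D ≤ Q1
  irr : ∀ D : Subgroup G, D ≤ Q1 → x ∈ 𝐍 D → D ≤ Q ∨ D ⊔ Q = Q1
  vq : ∀ b ∈ V, ∀ q ∈ Q1, ⁅b, q⁆ ∈ Z1
  ct : ∀ t ∈ Q1, t ∉ Q → ∀ v ∈ V, v * t = t * v → v ∈ Z1
  ft : ∀ v ∈ V, (∀ t ∈ T, v * t = t * v) → v = 1 ∨ v = z0
  xq : ∃ d ∈ Q1, ⁅d, x⁆ ∉ Q
  xv : ∃ v ∈ V, ⁅v, x⁆ ∉ Z1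
  r1 : ∀ b ∈ Q, (∀ q ∈ Q, ∃ c, Zm M c ∧ (⁅b, q⁆ = c ∨ ⁅b, q⁆ = z * c)) → ∀ q ∈ Q, b * q = q * b
  sq : ∀ t ∈ M, t ∉ Q → (∀ q ∈ Q, ⁅q, t⁆ ∈ V) → ∀ q ∈ Q, q * q = 1
  jj : 𝐉 T ≤ Q ∨ (𝐁 T ≤ Q1 ∧ ∀ y ∈ B7.Om Q, ∃ v ∈ V, ∃ c ∈ B7.Om Q, Zm M c ∧ y = v * c)
  sr : Q = V → SectionalPRankLE 2 4 T

/-- the involution of the Borel subgroup that inverts `x1` -/
def t0 : L32 := B7.up (0, 0, 1)

/-- the module data of the non-split case, inside a group -/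
structure Ud {M : Subgroup G} (π : M →* L32) (ζ : B7.Vec → G) (z0 : G) : Prop where
  z1 : z0 ≠ 1
  z2 : z0 * z0 = 1
  zM : Zm M z0
  ad : ∀ v w, ζ (v + w) = ζ v * ζ w
  ef : ∀ m : M, π m = B7.f0 → ∀ v, m.1 * ζ v * m.1⁻¹ = ζ (B7.ac B7.f0 v)
  ex : ∀ m : M, π m = B7.x1 → ∀ v, m.1 * ζ v * m.1⁻¹ = ζ (B7.ac B7.x1 v)
  et : ∀ m : M, π m = t0 → ∀ v, m.1 * ζ v * m.1⁻¹ = ζ (B7.ac t0 v) * z0 ^ (v 0).val

/-- the norm of the Borel subgroup `D₈` does not vanish (a Steinberg summand) -/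
def StM {W : Type*} [CommGroup W] (ρ : L32 →* MulAut W) : Prop :=
  ∃ w : W, ∏ p : ZMod 2 × ZMod 2 × ZMod 2, ρ (B7.up p) w ≠ 1

/-- `W` contains the non-split extension of the trivial module by the natural module -/
def U4M {W : Type*} [CommGroup W] (ρ : L32 →* MulAut W) : Prop :=
  ∃ (U : B7.Vec → W) (z0 : W), z0 ≠ 1 ∧ (∀ a, ρ a z0 = z0) ∧ (∀ v w, U (v + w) = U v * U w) ∧
    (∀ v, ρ B7.f0 (U v) = U (B7.ac B7.f0 v)) ∧ (∀ v, ρ B7.x1 (U v) = U (B7.ac B7.x1 v)) ∧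
    ∀ v, ρ t0 (U v) = U (B7.ac t0 v) * z0 ^ (v 0).val

/-- `K` is a normal component of the centralizer of the involution `s`, isomorphic to `L₃(2)` (if `s ∉ K`) or
to `SL₂(7)` with centre `⟨s⟩` -/
structure Kp (s : G) (K : Subgroup G) (ψ : K →* L32) : Prop where
  s2 : s * s = 1
  s1 : s ≠ 1
  le : K ≤ 𝐜 s
  nm : 𝐜 s ≤ 𝐍 K
  pf : ⁅K, K⁆ = K
  sj : Function.Surjective ψ
  ker : ∀ k : K, ψ k = 1 ↔ k.1 = 1 ∨ k.1 = s

theorem HD.sub (h : HD G) {f : Γ →* G} (hf : Function.Injective f) : HD Γ := fun g => by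
  simpa only [← map_pow, map_eq_one_iff f hf] using h (f g)

theorem HD.subgroup (h : HD G) (K : Subgroup G) : HD K := h.sub K.subtype_injective

theorem HD.equiv (h : HD G) (e : G ≃* Γ) : HD Γ := h.sub (f := e.symm.toMonoidHom) e.symm.injective

theorem HD.map (h : HD G) {f : G →* Γ} (hf : Function.Surjective f) : HD Γ := fun y => by
  obtain ⟨g, rfl⟩ := hf y
  rcases h g with e | e | e | e
  · exact .inl (by rw [← map_pow, e, map_one])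
  · exact .inr (.inl (by rw [← map_pow, e, map_one]))
  · exact .inr (.inr (.inl (by rw [← map_pow, e, map_one])))
  · exact .inr (.inr (.inr (by rw [← map_pow, e, map_one])))

theorem HD.quot (h : HD G) (N : Subgroup G) [N.Normal] : HD (G ⧸ N) := h.map (QuotientGroup.mk'_surjective N)

theorem I37.equiv (h : I37 Γ) (e : G ≃* Γ) : I37 G :=
  let ⟨F, _, _, a, h⟩ := h; ⟨F, _, _, a, h.map e.trans⟩

theorem L7.equiv (h : L7 Γ) (e : G ≃* Γ) : L7 G := h.imp (fun h => h.map e.trans) fun h => h.equiv e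

theorem IH7.mono {m n : ℕ} (h : IH7.{u} n) (c : m ≤ n) : IH7.{u} m := fun X _ _ _ a => h X (a.trans_le c)

theorem HD.ord (h : HD G) (g : G) : orderOf g ∣ 6 ∨ orderOf g ∣ 14 ∨ orderOf g ∣ 16 ∨ orderOf g ∣ 19 := by
  simpa only [orderOf_dvd_iff_pow_eq_one] using h g

/-- the basic tool: `g ^ n = 1` can be improved to `g ^ m = 1` when the gcds allow it -/
theorem HD.pow_of (h : HD G) {g : G} {n m : ℕ} (e : g ^ n = 1) (c6 : n.gcd 6 ∣ m) (c14 : n.gcd 14 ∣ m)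
    (c16 : n.gcd 16 ∣ m) (c19 : n.gcd 19 ∣ m) : g ^ m = 1 := by
  have d := orderOf_dvd_of_pow_eq_one e
  rw [← orderOf_dvd_iff_pow_eq_one]
  rcases h.ord g with a | a | a | a
  exacts [(Nat.dvd_gcd d a).trans c6, (Nat.dvd_gcd d a).trans c14, (Nat.dvd_gcd d a).trans c16,
    (Nat.dvd_gcd d a).trans c19]

/-- no element has order `n` unless `n` divides `6`, `14`, `16` or `19` -/
theorem HD.no (h : HD G) {g : G} {n : ℕ} (e : n ∣ orderOf g) (c : ¬ n ∣ 6 ∧ ¬ n ∣ 14 ∧ ¬ n ∣ 16 ∧ ¬ n ∣ 19) :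
    False := by
  rcases h.ord g with a | a | a | a
  exacts [c.1 (e.trans a), c.2.1 (e.trans a), c.2.2.1 (e.trans a), c.2.2.2 (e.trans a)]

theorem ordp {p : ℕ} (hp : p.Prime) {f : G} (e : f ^ p = 1) (h1 : f ≠ 1) : orderOf f = p :=
  haveI := Fact.mk hp; orderOf_eq_prime e h1

theorem pow_gcd {g : G} {m n k : ℕ} (a : g ^ m = 1) (b : g ^ n = 1) (c : m.gcd n ∣ k) : g ^ k = 1 :=
  orderOf_dvd_iff_pow_eq_one.1 ((Nat.dvd_gcd (orderOf_dvd_of_pow_eq_one a) (orderOf_dvd_of_pow_eq_one b)).trans c)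

theorem one_of_cop {g : G} {m n : ℕ} (a : g ^ m = 1) (b : g ^ n = 1) (c : m.Coprime n) : g = 1 := by
  simpa using pow_gcd (k := 1) a b (by rw [c])

/-- the centralizer of an element of order `r = 3, 7` has exponent `2 r`, that of an element of order `19` exponent `19` -/
theorem HD.cp (h : HD G) {r m : ℕ} (hr : (r = 3 ∧ m = 6) ∨ (r = 7 ∧ m = 14) ∨ (r = 19 ∧ m = 19)) {f c : G}
    (fr : f ^ r = 1) (f1 : f ≠ 1) (e : f * c = c * f) : c ^ m = 1 := by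
  have cm : Commute f c := e
  have k : ∀ {a b : ℕ}, c ^ a = 1 → (f * c) ^ b = 1 → r.Coprime b → (c ^ b) ^ r = 1 ∧ c ^ b ≠ 1 := fun {a b} _ e2 cp => by
    rw [cm.mul_pow] at e2
    have e3 : c ^ b = (f ^ b)⁻¹ := eq_inv_of_mul_eq_one_right e2
    refine ⟨by rw [e3, inv_pow, ← pow_mul, mul_comm, pow_mul, fr, one_pow, inv_one], fun q => f1 ?_⟩
    rw [q, mul_one] at e2
    exact one_of_cop fr e2 cp
  have k2 : ∀ {b : ℕ}, (f * c) ^ b = 1 → r ∣ b → c ^ b = 1 := fun {b} e2 ⟨d, hd⟩ => by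
    rwa [cm.mul_pow, show f ^ b = 1 by rw [hd, pow_mul, fr, one_pow], one_mul] at e2
  have z : ∀ {a b : ℕ}, c ^ a = 1 → (f * c) ^ b = 1 → r.Coprime b → a.gcd (b * r) ∣ b → False := fun {a b} e1 e2 cp d =>
    (k e1 e2 cp).2 (pow_gcd e1 (by rw [pow_mul]; exact (k e1 e2 cp).1) d)
  rcases hr with ⟨rfl, rfl⟩ | ⟨rfl, rfl⟩ | ⟨rfl, rfl⟩ <;> rcases h c with e1 | e1 | e1 | e1 <;>
    rcases h (f * c) with e2 | e2 | e2 | e2 <;>
    first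
    | exact e1
    | (refine k2 e2 ?_; decide)
    | (refine (z e1 e2 ?_ ?_).elim <;> decide)

theorem HD.c3 (h : HD G) {f c : G} (fr : f ^ 3 = 1) (f1 : f ≠ 1) (e : f * c = c * f) : c ^ 6 = 1 :=
  h.cp (.inl ⟨rfl, rfl⟩) fr f1 e

theorem HD.c7 (h : HD G) {f c : G} (fr : f ^ 7 = 1) (f1 : f ≠ 1) (e : f * c = c * f) : c ^ 14 = 1 :=
  h.cp (.inr (.inl ⟨rfl, rfl⟩)) fr f1 e

theorem HD.c19 (h : HD G) {f c : G} (fr : f ^ 19 = 1) (f1 : f ≠ 1) (e : f * c = c * f) : c ^ 19 = 1 :=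
  h.cp (.inr (.inr ⟨rfl, rfl⟩)) fr f1 e

/-- no elements of order `12`, `28` -/
theorem HD.inv (h : HD G) {r : ℕ} (hr : r = 3 ∨ r = 7) {c y : G} (cr : c ^ r = 1) (c1 : c ≠ 1) (e : c * y = y * c)
    (hy : y ^ 16 = 1) : y * y = 1 := by
  rw [← pow_two]
  rcases hr with rfl | rfl
  exacts [pow_gcd (h.c3 cr c1 e) hy (by norm_num), pow_gcd (h.c7 cr c1 e) hy (by norm_num)]

/-- a lift of an element of order `r = 3, 7, 19`: the power `g ^ 400` (`400 ≡ 1` modulo `3 · 7 · 19`) -/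
theorem HD.lift (h : HD G) (φ : G →* Γ) {r : ℕ} (hr : r = 3 ∨ r = 7 ∨ r = 19) {g : G} (e : φ g ^ r = 1)
    (h1 : φ g ≠ 1) : (g ^ 400) ^ r = 1 ∧ φ (g ^ 400) = φ g := by
  have k : ∀ {n : ℕ}, g ^ n = 1 → r.Coprime n → False := fun {n} a c =>
    h1 (one_of_cop e (by rw [← map_pow, a, map_one]) c)
  refine ⟨?_, ?_⟩
  · rw [← pow_mul, ← orderOf_dvd_iff_pow_eq_one]
    rcases hr with rfl | rfl | rfl <;> rcases h g with a | a | a | a <;>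
      first
      | (refine (orderOf_dvd_of_pow_eq_one a).trans ?_; decide)
      | (refine (k a ?_).elim; decide)
  · rw [map_pow, show 400 = 399 + 1 from rfl, pow_succ]
    rcases hr with rfl | rfl | rfl
    · rw [show 399 = 3 * 133 from rfl, pow_mul, e, one_pow, one_mul]
    · rw [show 399 = 7 * 57 from rfl, pow_mul, e, one_pow, one_mul]
    · rw [show 399 = 19 * 21 from rfl, pow_mul, e, one_pow, one_mul]

variable [Finite G]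

theorem HD.p16 (h : HD G) {P : Subgroup G} (hP : IsPGroup 2 P) {g : G} (hg : g ∈ P) : g ^ 16 = 1 := by
  obtain ⟨k, e⟩ := isPGroup_iff_forall_mem.1 hP g hg
  have c : ∀ {n : ℕ}, Odd n → ∀ {j : ℕ}, g ^ (2 ^ j * n) = 1 → j ≤ 4 → g ^ 16 = 1 := fun {n} o {j} a b => by
    have d : orderOf g ∣ 2 ^ j := Nat.Coprime.dvd_of_dvd_mul_right
      (Nat.Coprime.coprime_dvd_left (orderOf_dvd_of_pow_eq_one e) (Nat.Coprime.pow_left k (Nat.coprime_two_left.2 o)))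
      (orderOf_dvd_of_pow_eq_one a)
    exact orderOf_dvd_iff_pow_eq_one.1 (d.trans (pow_dvd_pow 2 b))
  rcases h g with a | a | a | a
  exacts [c (n := 3) (by decide) (j := 1) a (by norm_num), c (n := 7) (by decide) (j := 1) a (by norm_num), a,
    c (n := 19) (by decide) (j := 0) a (by norm_num)]

theorem HD.prime (h : HD G) {p : ℕ} (hp : p.Prime) (c : p ∣ Nat.card G) : p = 2 ∨ p = 3 ∨ p = 7 ∨ p = 19 := by
  have := Fact.mk hp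
  obtain ⟨g, hg⟩ := exists_prime_orderOf_dvd_card' p c
  have h1 := hg ▸ h.ord g
  have : p ≤ 19 := by rcases h1 with a | a | a | a <;> exact (Nat.le_of_dvd (by norm_num) a).trans (by norm_num)
  interval_cases p <;> simp_all (config := {decide := true})

theorem HD.card (h : HD G) {n p : ℕ} (e : Nat.card G = n) (hp : p.Prime) (c : p ∣ n)
    (k : p ≠ 2 ∧ p ≠ 3 ∧ p ≠ 7 ∧ p ≠ 19) : False := by
  have := h.prime hp (e ▸ c); omega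

theorem HD.pp (h : HD G) {p : ℕ} (hp : p.Prime) (h2 : p ≠ 2) {P : Subgroup G} (hP : IsPGroup p P) {g : G}
    (hg : g ∈ P) : g ^ p = 1 := by
  obtain ⟨k, e⟩ := isPGroup_iff_forall_mem.1 hP g hg
  obtain ⟨j, -, hj⟩ := (Nat.dvd_prime_pow hp).1 (orderOf_dvd_of_pow_eq_one e)
  rw [← orderOf_dvd_iff_pow_eq_one, hj]
  rcases j with _ | _ | j
  · simp
  · simp
  refine (h.no (n := p ^ 2) (g := g) (by rw [hj]; exact pow_dvd_pow p (by omega)) ?_).elim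
  have c : ∀ {n : ℕ}, p ^ 2 ∣ n → 0 < n → n ≤ 19 → p = 3 := fun {n} a b c => by
    have := Nat.le_of_dvd b a
    have : p ≤ 4 := by nlinarith
    have := hp.two_le
    interval_cases p <;> simp_all (config := {decide := true})
  refine ⟨fun a => ?_, fun a => ?_, fun a => ?_, fun a => ?_⟩ <;>
    (have := c a (by norm_num) (by norm_num); subst this; revert a; decide)

/-- two elements of a `2`-group that commute with an element of order `3` or `7` commute -/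
theorem HD.comm (h : HD G) {r : ℕ} (hr : r = 3 ∨ r = 7) {c a b : G} (cr : c ^ r = 1) (c1 : c ≠ 1) {P : Subgroup G}
    (hP : IsPGroup 2 P) (ha : a ∈ P) (hb : b ∈ P) (ea : a * c = c * a) (eb : b * c = c * b) : a * b = b * a :=
  comm_sq (A := P ⊓ 𝐜 c) (fun _ hy => h.inv hr cr c1 (mem_c.1 hy.2).symm (h.p16 hP hy.1)) ⟨ha, mem_c.2 ea⟩
    ⟨hb, mem_c.2 eb⟩

/-- elements of order `19` act without fixed points on `2`-groups -/
theorem HD.fpf (h : HD G) {f c : G} (f19 : f ^ 19 = 1) (f1 : f ≠ 1) {Q : Subgroup G} (hQ : IsPGroup 2 Q) (hc : c ∈ Q)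
    (e : f * c = c * f) : c = 1 :=
  one_of_cop (h.c19 f19 f1 e) (h.p16 hQ hc) (by norm_num)

end CL.L37
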