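import Cfsg.Agent.FGS.L37.Defs
import Cfsg.Agent.FGS.Ord8.OutA

/-!
Frobenius groups of order `42` acting on `2`-groups.
-/

set_option autoImplicit false
set_option linter.unusedSectionVars false

namespace CL.L37

open Subgroup Cfsg CL.MSS CL.Ord6 CL.Ord8
open scoped commutatorElement MatrixGroups

universe u

variable {G : Type*} [Group G] [Finite G]

namespace Fr42

theorem ring7 {R : Type*} [Ring R] {F S : R} (h7 : F ^ 7 = 1) (e : S * F = F ^ 3 * S)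
    (M : 1 - S + S ^ 2 - S ^ 3 + S ^ 4 - S ^ 5 = 0) : (F - 1) * 7 = 0 := by
  have p1 : ∀ j : ℕ, S * F ^ j = F ^ (3 * j) * S := fun j => by
    induction j with
    | zero => simp
    | succ j ih => rw [pow_succ, ← mul_assoc, ih, mul_assoc, e, ← mul_assoc, ← pow_add, mul_add_one]
  have p : ∀ b j : ℕ, S ^ b * F ^ j = F ^ (3 ^ b * j) * S ^ b := fun b j => by
    induction b with
    | zero => simp
    | succ b ih => rw [pow_succ', mul_assoc, ih, ← mul_assoc, p1, mul_assoc, ← mul_assoc 3, ← pow_succ']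
  have q : ∀ b i j : ℕ, F ^ i * S ^ b * F ^ j = F ^ ((i + 3 ^ b * j) % 7) * S ^ b := fun b i j => by
    rw [mul_assoc, p, ← mul_assoc, ← pow_add, ← pow_eq_pow_mod _ h7]
  let T : R → R := fun x => F ^ 0 * x * F ^ 7 + F ^ 1 * x * F ^ 6 + F ^ 2 * x * F ^ 5 + F ^ 3 * x * F ^ 4 +
    F ^ 4 * x * F ^ 3 + F ^ 5 * x * F ^ 2 + F ^ 6 * x * F ^ 1
  have N : (F - 1) * (F ^ 0 + F ^ 1 + F ^ 2 + F ^ 3 + F ^ 4 + F ^ 5 + F ^ 6) = 0 := by
    rw [← sub_eq_zero.2 h7]; noncomm_ring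
  have t : ∀ b ∈ [1, 2, 3, 4, 5], (F - 1) * T (S ^ b) = 0 := fun b hb => by
    rw [← zero_mul (S ^ b), ← N, mul_assoc]
    congr 1
    simp only [T, q, add_mul]
    simp only [List.mem_cons, List.not_mem_nil, or_false] at hb
    rcases hb with rfl | rfl | rfl | rfl | rfl <;> norm_num <;> abel
  have t0 : T 1 = 7 := by
    simp only [T, mul_one, ← pow_add]
    norm_num [h7]
  have k : T 1 - T (S ^ 1) + T (S ^ 2) - T (S ^ 3) + T (S ^ 4) - T (S ^ 5) =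
      T (1 - S + S ^ 2 - S ^ 3 + S ^ 4 - S ^ 5) := by
    simp only [T, pow_one S, mul_add, add_mul, mul_sub, sub_mul]; abel
  rw [M, show T 0 = 0 by simp [T], t0] at k
  have := congrArg ((F - 1) * ·) k
  simpa only [mul_add, mul_sub, t 1 (by simp), t 2 (by simp), t 3 (by simp), t 4 (by simp), t 5 (by simp), sub_zero,
    add_zero, mul_zero] using this

theorem fixp {p : ℕ} (hp : p.Prime) (h2 : p ≠ 2) {N : Subgroup G} (pN : IsPGroup 2 N) {a b : G} (ap : a ^ p = 1)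
    (bp : b ^ p = 1) (h : ∀ q ∈ N, a * q * b⁻¹ ∈ N) : ∃ q ∈ N, a * q = q * b := by
  classical
  have := Fact.mk hp
  have := Fintype.ofFinite N
  let f : Function.End N := fun q => ⟨_, h q q.2⟩
  have k : ∀ (j : ℕ) (q : N), (((f ^ j) q : N) : G) = a ^ j * q * (b ^ j)⁻¹ := fun j q => by
    induction j with
    | zero => simp; rfl
    | succ j ih =>
      rw [pow_succ' f]
      change a * ((f ^ j) q : N) * b⁻¹ = _
      rw [ih, pow_succ' a, pow_succ' b]; group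
  have c := Equiv.Perm.card_fixedPoints_modEq (f := f) (p := p) (n := 1) (funext fun q => Subtype.ext (by
    rw [k, pow_one, ap, bp]; simp; rfl))
  by_contra e
  have : IsEmpty f.fixedPoints := ⟨fun q => e ⟨q.1, q.1.2, mul_inv_eq_iff_eq_mul.1 (congrArg Subtype.val q.2)⟩⟩
  obtain ⟨m, hm⟩ := IsPGroup.iff_card.1 pN
  rw [Fintype.card_eq_zero (α := f.fixedPoints), ← Nat.card_eq_fintype_card, hm, Nat.modEq_zero_iff_dvd] at c
  exact h2 ((Nat.prime_dvd_prime_iff_eq hp Nat.prime_two).1 (hp.dvd_of_dvd_pow c))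

/-- the action on the abelianization -/
def ρ (U : Subgroup G) : 𝐍 U →* AddMonoid.End (Additive (Abelianization U)) where
  toFun n := MonoidHom.toAdditive (Abelianization.map (U.normalizerMonoidHom n).toMonoidHom)
  map_one' := AddMonoidHom.ext fun v => by
    obtain ⟨u, rfl⟩ : ∃ u : U, Additive.ofMul (Abelianization.of u) = v := QuotientGroup.mk_surjective v.toMul
    rw [map_one]; rfl
  map_mul' m n := AddMonoidHom.ext fun v => by
    obtain ⟨u, rfl⟩ : ∃ u : U, Additive.ofMul (Abelianization.of u) = v := QuotientGroup.mk_surjective v.toMul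
    rw [map_mul]; rfl

/-- the class of an element -/
def cl {U : Subgroup G} (u : U) : Additive (Abelianization U) := Additive.ofMul (Abelianization.of u)

theorem ρ_cl {U : Subgroup G} (n : 𝐍 U) (u : U) :
    ρ U n (cl u) = cl ⟨(n : G) * u * (n : G)⁻¹, (mem_normalizer_iff.1 n.2 u).1 u.2⟩ := rfl

theorem cl_mul {U : Subgroup G} (u v : U) : cl (u * v) = cl u + cl v := rfl

theorem cl_eq {U : Subgroup G} {u v : U} : cl u = cl v ↔ (u : G)⁻¹ * v ∈ ⁅U, U⁆ := by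
  rw [← map_subtype_commutator]
  exact QuotientGroup.eq.trans (mem_map_iff_mem (f := U.subtype) U.subtype_injective).symm

theorem step (h : HD G) {U : Subgroup G} (p : IsPGroup 2 U) {f g : G} (fn : f ∈ 𝐍 U) (gn : g ∈ 𝐍 U) (f7 : f ^ 7 = 1)
    (e : g * f * g⁻¹ = f ^ 3) (g6 : g ^ 6 = 1) (c1 : g ^ 2 ≠ 1) {u : G} (hu : u ∈ U) :
    u⁻¹ * (f * u * f⁻¹) ∈ ⁅U, U⁆ := by
  have := Fact.mk Nat.prime_two
  have c3 : (g ^ 2) ^ 3 = 1 := by rw [← pow_mul, g6]
  have pP : IsPGroup 2 (zpowers (g ^ 3) ⊔ U : Subgroup G) := IsPGroup.to_sup_of_normal_right'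
    (IsPGroup.of_card_dvd_pow (n := 1) (by
      rw [Nat.card_zpowers]; exact orderOf_dvd_of_pow_eq_one (by rw [← pow_mul]; exact g6))) p
    (zpowers_le.2 (pow_mem gn 3))
  let S := ρ U ⟨g, gn⟩
  have S6 : S ^ 6 = 1 := by rw [← map_pow, show (⟨g, gn⟩ : 𝐍 U) ^ 6 = 1 from Subtype.ext g6, map_one]
  have fx : ∀ v, (S ^ 2) v = v → (S ^ 3) v = v := fun v hv => by
    obtain ⟨k, rfl⟩ : ∃ k, cl k = v := QuotientGroup.mk_surjective v.toMul
    rw [← map_pow, ρ_cl, cl_eq] at hv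
    have nU : ∀ x ∈ 𝐍 U, ∀ q ∈ ⁅U, U⁆, x * q * x⁻¹ ∈ ⁅U, U⁆ := fun x hx q hq =>
      (mem_normalizer_iff.1 (le_normalizer_commutator le_rfl le_rfl hx) q).1 hq
    obtain ⟨q, hq, e⟩ := fixp Nat.prime_three (by norm_num) (N := ⁅U, U⁆) (p.to_le (commutator_le_left_of_normalizes le_normalizer))
      (a := (k : G)⁻¹ * g ^ 2 * k) (b := g ^ 2) (by
        rw [show (k : G)⁻¹ * g ^ 2 * k = (k : G)⁻¹ * g ^ 2 * (k : G)⁻¹⁻¹ by rw [inv_inv], conj_pow, c3]; group) c3 fun q hq => by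
        have := mul_mem (inv_mem hv) (nU _ (pow_mem gn 2) q hq)
        convert this using 1
        change _ = ((g ^ 2 * k * (g ^ 2)⁻¹)⁻¹ * k)⁻¹ * _
        group
    have qU : q ∈ U := commutator_le_left_of_normalizes le_normalizer hq
    have c := h.comm (.inl rfl) c3 c1 pP (mem_sup_left (mem_zpowers _)) (mem_sup_right (mul_mem k.2 qU))
      (by group) (by rw [mul_assoc, ← e]; group)
    rw [show cl k = cl ⟨k * q, mul_mem k.2 qU⟩ from cl_eq.2 (by simpa using hq), ← map_pow, ρ_cl]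
    congr 1
    exact Subtype.ext (mul_inv_eq_iff_eq_mul.2 c)
  have M : 1 - S + S ^ 2 - S ^ 3 + S ^ 4 - S ^ 5 = 0 := by
    have k : S ^ 2 * (1 + S ^ 2 + S ^ 4) = 1 + S ^ 2 + S ^ 4 := by
      rw [show S ^ 2 * (1 + S ^ 2 + S ^ 4) = S ^ 6 + S ^ 2 + S ^ 4 by noncomm_ring, S6]
    have k' : S ^ 3 * (1 + S ^ 2 + S ^ 4) = 1 + S ^ 2 + S ^ 4 :=
      AddMonoidHom.ext fun v => fx _ (DFunLike.congr_fun k v)
    have : S ^ 7 = S := by rw [pow_succ, S6, one_mul]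
    rw [← sub_eq_zero.2 k'.symm]
    conv_lhs => rw [show 1 - S = 1 - S ^ 7 by rw [this]]
    noncomm_ring
  have r := ring7 (F := ρ U ⟨f, fn⟩) (S := S)
    (by rw [← map_pow, show (⟨f, fn⟩ : 𝐍 U) ^ 7 = 1 from Subtype.ext f7, map_one]) (by
      rw [← map_pow, ← map_mul, ← map_mul]
      exact congrArg _ (Subtype.ext (mul_inv_eq_iff_eq_mul.1 e))) M
  have r1 : 7 • (ρ U ⟨f, fn⟩ (cl ⟨u, hu⟩) - cl ⟨u, hu⟩) = 0 := by
    have := DFunLike.congr_fun r (cl ⟨u, hu⟩)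
    rw [show (7 : AddMonoid.End _) = ((7 : ℕ) : AddMonoid.End _) from rfl, ← nsmul_eq_mul'] at this
    exact this
  generalize hw : ρ U ⟨f, fn⟩ (cl ⟨u, hu⟩) - cl ⟨u, hu⟩ = w at r1
  obtain ⟨j, hj⟩ := p.of_surjective Abelianization.of QuotientGroup.mk_surjective w.toMul
  have w0 : w = 0 := one_of_cop (G := Abelianization U) (g := w.toMul) r1 hj (Nat.Coprime.pow_right j (by norm_num))
  rw [w0, sub_eq_zero, ρ_cl] at hw
  exact cl_eq.1 hw.symm

theorem cen (h : HD G) {f g : G} (f7 : f ^ 7 = 1) (e : g * f * g⁻¹ = f ^ 3) (g6 : g ^ 6 = 1) (c1 : g ^ 2 ≠ 1)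
    (U : Subgroup G) (p : IsPGroup 2 U) (fn : f ∈ 𝐍 U) (gn : g ∈ 𝐍 U) : f ∈ 𝐂 U := by
  have := Fact.mk Nat.prime_two
  induction U using WellFoundedLT.induction with
  | _ U ih =>
  by_cases h0 : U = ⊥
  · exact fun u hu => by simp [mem_bot.1 (h0 ▸ hu)]
  have lt := commutator_lt_of_isPGroup p p le_normalizer h0
  have c := ih _ lt (p.to_le lt.le) (le_normalizer_commutator le_rfl le_rfl fn) (le_normalizer_commutator le_rfl le_rfl gn)
  intro u hu
  have hd := step h p fn gn f7 e g6 c1 hu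
  have cd := c _ hd
  generalize he : u⁻¹ * (f * u * f⁻¹) = d at hd cd
  have k : ∀ j : ℕ, f ^ j * u * (f ^ j)⁻¹ = u * d ^ j := fun j => by
    induction j with
    | zero => simp
    | succ j ih =>
      calc _ = f * (f ^ j * u * (f ^ j)⁻¹) * f⁻¹ := by rw [pow_succ']; group
        _ = u * (u⁻¹ * (f * u * f⁻¹)) * (f * d * f⁻¹) ^ j := by rw [ih, conj_pow]; group
        _ = _ := by rw [he, ← cd, mul_inv_cancel_right, pow_succ', mul_assoc]
  have d7 := k 7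
  rw [f7, one_mul, inv_one, mul_one, left_eq_mul] at d7
  rw [one_of_cop d7 (h.p16 p (lt.le hd)) (by norm_num), inv_mul_eq_one, eq_mul_inv_iff_mul_eq] at he
  exact he

end Fr42

open Fr42

/-- PROOF. `f' = f ^ 400` has order dividing `7`; if `f ∈ Q` take `f' = 1`. By Frattini (Sylow `7` of `Q⟨f⟩`) replace `g` by
`g q` normalizing `⟨f'⟩`; `g f' g⁻¹ = f' ^ 3`, so `6 ∣ orderOf g` and `g ^ 6 = 1` (`HD`). `t = g ^ 3`, `c = g ^ 2`. Elements of
`C_Q(c)` commute with `t` (`HD.comm` in the `2`-group `⟨t⟩ Q`). -/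
theorem fr42' (h : HD G) {Q : Subgroup G} (p : IsPGroup 2 Q) {f g : G} (fn : f ∈ 𝐍 Q) (gn : g ∈ 𝐍 Q) (f7 : f ^ 7 ∈ Q)
    (e : (g * f * g⁻¹)⁻¹ * f ^ 3 ∈ Q) : ∃ f', f' ^ 7 = 1 ∧ f'⁻¹ * f ∈ Q ∧ f' ∈ 𝐂 Q := by
  by_cases fQ : f ∈ Q
  · exact ⟨1, one_pow _, by simpa using fQ, one_mem _⟩
  have nQ : ∀ x ∈ 𝐍 Q, ∀ q ∈ Q, x * q * x⁻¹ ∈ Q := fun x hx q => (mem_normalizer_iff.1 hx q).1
  have f14 : f ^ 14 = 1 := by
    have k : ∀ a b : ℕ, f ^ a = 1 → f = (f ^ 7) ^ b * ((f ^ a) ^ ((7 * b - 1) / a))⁻¹ → False := fun a b e1 e2 =>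
      fQ (by rw [e2, e1, one_pow, inv_one, mul_one]; exact pow_mem f7 b)
    rcases h f with a | a | a | a
    exacts [(k 6 1 a (by group)).elim, a, (k 16 7 a (by group)).elim, (k 19 11 a (by group)).elim]
  have y7 : (f ^ 8) ^ 7 = 1 := by rw [← pow_mul, show 8 * 7 = 14 * 4 from rfl, pow_mul, f14, one_pow]
  have yQ : (f ^ 8)⁻¹ * f ∈ Q := by
    rw [show (f ^ 8)⁻¹ * f = (f ^ 7)⁻¹ by group]
    exact inv_mem f7
  refine ⟨f ^ 8, y7, yQ, ?_⟩
  have yn := pow_mem fn 8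
  have e' : (f ^ 8) ^ 3 * (g * f ^ 8 * g⁻¹)⁻¹ ∈ Q := by
    have k := nQ _ (mul_mem (mul_mem gn fn) (inv_mem gn)) _ e
    have := mul_mem (mul_mem (pow_mem f7 3) k) (nQ _ (mul_mem gn fn) _ (inv_mem f7))
    convert this using 1
    group
  have y1 : f ^ 8 ≠ 1 := fun k => fQ (by simpa [k] using yQ)
  generalize f ^ 8 = y at y7 yn e' y1
  obtain ⟨q, hq, e⟩ := fixp (p := 7) (by norm_num) (by norm_num) p (a := y ^ 3) (b := g * y * g⁻¹)
    (by rw [← pow_mul, mul_comm, pow_mul, y7, one_pow]) (by rw [conj_pow, y7]; group) fun q hq => by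
      have := mul_mem (nQ _ (pow_mem yn 3) q hq) e'
      convert this using 1
      group
  have e2 : q * g * y * (q * g)⁻¹ = y ^ 3 := by rw [eq_mul_inv_of_mul_eq e]; group
  have gn' := mul_mem (le_normalizer hq) gn
  generalize q * g = s at e2 gn'
  have k : ∀ n : ℕ, s ^ n * y * (s ^ n)⁻¹ = y ^ 3 ^ n := fun n => by
    induction n with
    | zero => simp
    | succ n ih =>
      calc _ = s * (s ^ n * y * (s ^ n)⁻¹) * s⁻¹ := by rw [pow_succ']; group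
        _ = _ := by rw [ih, ← conj_pow, e2, ← pow_mul, pow_succ']
  have ne : ∀ n : ℕ, (3 ^ n - 1).Coprime 7 → s ^ n ≠ 1 := fun n c d => y1 (by
    have := k n
    rw [d, one_mul, inv_one, mul_one, ← Nat.sub_add_cancel (Nat.one_le_pow n 3 (by norm_num)), pow_succ,
      right_eq_mul] at this
    exact one_of_cop this y7 c)
  refine cen h y7 e2 ?_ (ne 2 (by norm_num)) Q p yn gn'
  rcases h s with a | a | a | a
  exacts [a, (ne 14 (by norm_num) a).elim, (ne 16 (by norm_num) a).elim, (ne 19 (by norm_num) a).elim]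

theorem fr42 (h : HD G) {H : Subgroup G} (ch : Ch H) {f g : G} (hf : f ∈ H) (hg : g ∈ H) (f7 : f ^ 7 ∈ 𝐎 H)
    (e : (g * f * g⁻¹)⁻¹ * f ^ 3 ∈ 𝐎 H) : f ∈ 𝐎 H := by
  obtain ⟨y, -, hy, c⟩ := fr42' h (oP_isPGroup H) (oP_normal H hf) (oP_normal H hg) f7 e
  have yH : y ∈ H := by simpa using mul_mem hf (inv_mem (oP_le H hy))
  simpa using mul_mem (ch ⟨yH, c⟩) hy

end CL.L37
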