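import Cfsg.Agent.FGS.L37.Sol1
import Cfsg.Agent.FGS.Ord8.Sol3

/-!
Port of `FGS/Ord8/Sol3` (`S3x`: `Qt`, `closed`, `lift9`, `keyK`, `qt`; `g ^ 24 = 1` becomes `g ^ 48 = 1`).
-/

set_option autoImplicit false
set_option linter.unusedSectionVars false

namespace CL.L37

open Subgroup Cfsg CL.MSS CL.Ord6 CL.Ord8
open scoped commutatorElement MatrixGroups

universe u

variable {G : Type*} [Group G] [Finite G]
variable {H : Subgroup G}

namespace S3y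

open CL.Ord8.S3x (zp2 sq3 zp3 gen2)

theorem p48 (h : HD G) (n : ∀ g ∈ H, g ^ 7 = 1 ∨ g ^ 19 = 1 → g = 1) {g : G} (hg : g ∈ H) : g ^ 48 = 1 := by
  rcases h g with e | e | e | e
  · rw [show 48 = 6 * 8 from rfl, pow_mul, e, one_pow]
  · rw [show 48 = 2 * 24 from rfl, pow_mul, n _ (pow_mem hg 2) (.inl (by rw [← pow_mul, e])), one_pow]
  · rw [show 48 = 16 * 3 from rfl, pow_mul, e, one_pow]
  · rw [n g hg (.inr e), one_pow]

theorem cen3 [Group.IsSolvable G] (o : ∀ g : G, g ^ 48 = 1) (b : pCore 2 G = ⊥) : 𝐂 (pCore 3 G) ≤ pCore 3 G :=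
  Cfsg.Agent.S0017.result 3 (eq_bot_iff.2 (b ▸ PComp.le_pCore (isPGroup_iff_forall_mem.2 fun g hg => ⟨4,
    PComp.eq_one_of_coprime_of_pow (p := 3) (k := 1) (PComp.coprime_orderOf_of_mem (PComp.pPrimeCore_coprime 3) (pow_mem hg _))
      (by rw [← pow_mul]; exact o g)⟩)))

theorem cen2 [Group.IsSolvable G] (o : ∀ g : G, g ^ 48 = 1) (b : pCore 3 G = ⊥) : 𝐂 (pCore 2 G) ≤ pCore 2 G :=
  Cfsg.Agent.S0017.result 2 (eq_bot_iff.2 (b ▸ PComp.le_pCore (isPGroup_iff_forall_mem.2 fun g hg => ⟨1,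
    PComp.eq_one_of_coprime_of_pow (p := 2) (k := 4) (PComp.coprime_orderOf_of_mem (PComp.pPrimeCore_coprime 2) (pow_mem hg _))
      (by rw [← pow_mul]; exact o g)⟩)))

/-- the facts on `H / O₂(H)` -/
structure Qt (G : Type*) [Group G] (R : Subgroup G) : Prop where
  h8 : HD G
  nm : R.Normal
  pg : IsPGroup 3 R
  cen : 𝐂 R ≤ R
  p1 : ∀ e f s : G, Ep 3 ⊤ e f → s * s = 1 → s * e = e * s → s * f = f * s → s = 1
  p2 : ∀ e f : G, Ep 3 ⊤ e f → (∀ a ∈ zpowers e, ∃ s : G, s * s = 1 ∧ Commute s (a * f) ∧ s * e * s⁻¹ = e⁻¹) → False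

namespace Qt

variable {R : Subgroup G} (q : Qt G R)
include q

theorem cub {r : G} (hr : r ∈ R) : r ^ 3 = 1 := q.h8.pp Nat.prime_three (by decide) q.pg hr

theorem rx {r x : G} (hr : r ∈ R) (x3 : x ^ 3 = 1) : r * (x * r * x⁻¹) * (x * (x * r * x⁻¹) * x⁻¹) = 1 := by
  have := q.nm
  have e := q.h8.pp Nat.prime_three (by decide) (isPGroup_sup_of_normalizes' q.pg (isPGroup_zpowers (k := 1) (by rw [pow_one, x3]))
    le_normalizer_of_normal) (mul_mem (mem_sup_left hr) (mem_sup_right (mem_zpowers x)))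
  calc _ = (r * x) ^ 3 * (x ^ 3)⁻¹ := by simp only [pow_succ, pow_zero]; group
    _ = _ := by rw [e, x3, inv_one, mul_one]

theorem cyc {s r y : G} (ss : s * s = 1) (s1 : s ≠ 1) (hr : r ∈ R ⊓ 𝐜 s) (r1 : r ≠ 1) (hy : y ∈ R ⊓ 𝐜 s) : y = 1 ∨ y = r ∨ y = r⁻¹ := by
  have pP : IsPGroup 3 ↥(R ⊓ 𝐜 s) := q.pg.to_le inf_le_left
  obtain ⟨⟨z, hz, cz⟩, z1⟩ := ne_bot_iff_exists_ne_one.1 (inf_centralizer_ne_bot pP pP le_normalizer fun e => r1 (e.le hr))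
  have z1 : z ≠ 1 := fun e => z1 (Subtype.ext e)
  have k : ∀ w ∈ R ⊓ 𝐜 s, w = 1 ∨ w = z ∨ w = z⁻¹ := fun w hw => zp3 (q.cub hz.1) (by_contra fun n =>
    s1 (q.p1 z w s ⟨.inl rfl, trivial, trivial, q.cub hz.1, q.cub hw.1, (cz w hw).symm, z1, n⟩ ss (mem_c.1 hz.2).symm (mem_c.1 hw.2).symm))
  rcases k r hr with e | e | e
  · exact absurd e r1
  · rw [e]; exact k y hy
  · rw [e, inv_inv]; exact (k y hy).imp_right Or.symm

theorem caseA {f x : G} (ff : f * f = 1) (f1 : f ≠ 1) (x3 : x ^ 3 = 1) (c : Commute f (x * f * x⁻¹)) (ne : x * f * x⁻¹ ≠ f)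
    (e3 : x * (x * f * x⁻¹) * x⁻¹ = f * (x * f * x⁻¹)) : False := by
  have := q.nm
  have b1 : x⁻¹ * f * x = f * (x * f * x⁻¹) := by
    rw [← e3]
    calc _ = x⁻¹ * (x ^ 3 * f * (x ^ 3)⁻¹) * x := by rw [x3]; group
      _ = _ := by simp only [pow_succ, pow_zero]; group
  have key : ∀ r ∈ R ⊓ 𝐜 f, Commute (x * f * x⁻¹) r := fun r hr => by_contra fun n => by
    have cf : Commute f r := (mem_c.1 hr.2).symm
    have r1 : r ≠ 1 := fun e => n (e ▸ Commute.one_right _)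
    have i2 : x * f * x⁻¹ * r * (x * f * x⁻¹)⁻¹ = r⁻¹ := by
      rcases q.cyc ff f1 hr r1 (y := x * f * x⁻¹ * r * (x * f * x⁻¹)⁻¹)
        ⟨q.nm.conj_mem r hr.1 _, mem_c.2 ((c.mul_right cf).mul_right c.inv_right).symm⟩ with e | e | e
      · exact absurd (conj_eq_one_iff.1 e) r1
      · exact absurd (mul_inv_eq_iff_eq_mul.1 e) n
      · exact e
    have i3 : x⁻¹ * f * x * r * (x⁻¹ * f * x)⁻¹ = r⁻¹ := by
      rw [b1]
      calc _ = f * (x * f * x⁻¹ * r * (x * f * x⁻¹)⁻¹) * f⁻¹ := by group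
        _ = _ := by rw [i2, cf.inv_right.eq, mul_inv_cancel_right]
    have j2 : f * (x * r * x⁻¹) * f⁻¹ = (x * r * x⁻¹)⁻¹ := by
      calc _ = x * (x⁻¹ * f * x * r * (x⁻¹ * f * x)⁻¹) * x⁻¹ := by group
        _ = _ := by rw [i3]; group
    have j3 : f * (x * (x * r * x⁻¹) * x⁻¹) * f⁻¹ = (x * (x * r * x⁻¹) * x⁻¹)⁻¹ := by
      calc _ = x * x * ((x * x)⁻¹ * f * (x * x) * r * ((x * x)⁻¹ * f * (x * x))⁻¹) * (x * x)⁻¹ := by simp [mul_assoc]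
        _ = _ := by rw [show (x * x)⁻¹ * f * (x * x) = x * f * x⁻¹ by rw [sq3 x3, inv_inv], i2]; simp [mul_assoc]
    have e := q.rx hr.1 x3
    have c2 := sq3 (q.cub (q.nm.conj_mem r hr.1 x))
    have c3 := sq3 (q.cub (q.nm.conj_mem _ (q.nm.conj_mem r hr.1 x) x))
    generalize x * r * x⁻¹ = r2 at e c2 c3 j2 j3
    generalize x * r2 * x⁻¹ = r3 at e c3 j3
    have e' : r * (r2⁻¹ * r3⁻¹) = 1 := by
      rw [← j2, ← j3]
      calc _ = (r * f * r⁻¹ * f⁻¹) * (f * (r * r2 * r3) * f⁻¹) := by group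
        _ = _ := by rw [e, ← cf.eq]; group
    have e2 : r2⁻¹ * r3⁻¹ = 1 := by
      calc _ = r2 * (r⁻¹ * (r * r2 * r3)) * r3 := by rw [← c2, ← c3]; group
        _ = r2 * (r⁻¹ * (r * (r2⁻¹ * r3⁻¹))) * r3 := by rw [e, e']
        _ = _ := by group
    rw [e2, mul_one] at e'
    exact r1 e'
  obtain ⟨m, hm⟩ := IsPGroup.iff_card.1 q.pg
  have gg : x * f * x⁻¹ * (x * f * x⁻¹) = 1 := by rw [conj_mul, ff, mul_one, mul_inv_cancel]
  have le : R ≤ 𝐜 f := by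
    refine gen2 (p := 2) (by rw [pow_two, ff]) (by rw [pow_two, gg]) c f1 (fun m => ?_) (le_normalizer_of_normal (mem_top _))
      (le_normalizer_of_normal (mem_top _)) (by rw [hm]; exact Nat.Coprime.pow_right m (by decide)) fun a ha b hb n y hy => ?_
    · exact (zp2 ff m).elim (fun e => f1 (conj_eq_one_iff.1 e)) ne
    have cy : Commute y (a * b) := mem_c.1 hy.2
    rcases zp2 ff ha with e | e <;> rcases zp2 gg hb with e' | e' <;> rw [e, e'] at n cy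
    · exact absurd (one_mul _) n
    · rw [one_mul] at cy
      have c1 : Commute f (x⁻¹ * y * x) := by
        calc f * (x⁻¹ * y * x) = x⁻¹ * (x * f * x⁻¹ * y) * x := by group
          _ = _ := by rw [← cy.eq]; group
      have := (c1.mul_left (key _ ⟨by simpa using q.nm.conj_mem y hy.1 x⁻¹, mem_c.2 c1.symm⟩)).eq
      rw [← b1] at this
      refine mem_c.2 ?_
      calc y * f = x * (x⁻¹ * y * x * (x⁻¹ * f * x)) * x⁻¹ := by group
        _ = _ := by rw [← this]; group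
    · rw [mul_one] at cy; exact mem_c.2 cy
    · rw [← b1] at cy
      have c1 : Commute f (x * y * x⁻¹) := by
        calc f * (x * y * x⁻¹) = x * (x⁻¹ * f * x * y) * x⁻¹ := by group
          _ = _ := by rw [← cy.eq]; group
      have := (key _ ⟨q.nm.conj_mem y hy.1 x, mem_c.2 c1.symm⟩).eq
      rw [conj_mul, conj_mul] at this
      exact mem_c.2 (by simpa using this.symm)
  have := q.cub (q.cen fun r hr => mem_c.1 (le hr))
  rw [pow_succ, pow_two, ff, one_mul] at this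
  exact f1 this

theorem caseB {s x : G} (ss : s * s = 1) (s1 : s ≠ 1) (x3 : x ^ 3 = 1) (c : Commute s x) (xR : x ∉ R) : False := by
  have := q.nm
  have b : R ⊓ 𝐜 s = ⊥ := by_contra fun n => by
    obtain ⟨⟨z, hz, cz⟩, z1⟩ := ne_bot_iff_exists_ne_one.1 (inf_centralizer_ne_bot (isPGroup_zpowers (k := 1) (by rw [pow_one, x3]))
      (q.pg.to_le inf_le_left) (le_normalizer_inf le_normalizer_of_normal ((zpowers_le.2 (mem_c.2 c.symm.eq)).trans le_normalizer)) n)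
    exact s1 (q.p1 z x s ⟨.inl rfl, trivial, trivial, q.cub hz.1, x3, (cz x (mem_zpowers x)).symm, fun e => z1 (Subtype.ext e),
      fun m => xR (zpowers_le.2 hz.1 m)⟩ ss (mem_c.1 hz.2).symm c.eq)
  have iv : ∀ r ∈ R, s * r * s⁻¹ = r⁻¹ := fun r hr => by
    have mw : r⁻¹ * (s * r * s⁻¹) ∈ R := mul_mem (inv_mem hr) (q.nm.conj_mem r hr s)
    have iw : s * (r⁻¹ * (s * r * s⁻¹)) * s⁻¹ = (r⁻¹ * (s * r * s⁻¹))⁻¹ := by
      calc _ = s * r⁻¹ * s⁻¹ * (s * s * r * (s * s)⁻¹) := by group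
        _ = _ := by rw [ss]; group
    have e : s * r * s⁻¹ = r * (r⁻¹ * (s * r * s⁻¹)) := by group
    generalize r⁻¹ * (s * r * s⁻¹) = w at mw iw e
    have : r * w⁻¹ ∈ R ⊓ 𝐜 s := ⟨R.mul_mem hr (R.inv_mem mw), mem_c.2 (mul_inv_eq_iff_eq_mul.1 (by
      rw [← conj_mul, ← conj_inv, iw, e, inv_inv, mul_assoc, sq3 (q.cub mw)])).symm⟩
    rw [b, mem_bot, mul_inv_eq_one] at this
    rw [this, iw]
  have ab : ∀ r ∈ R, ∀ r' ∈ R, Commute r r' := fun r hr r' hr' => by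
    have := iv _ (mul_mem hr hr')
    rw [← conj_mul, iv r hr, iv r' hr', ← mul_inv_rev, inv_inj] at this
    exact this.symm
  obtain ⟨r, hr, n⟩ : ∃ r ∈ R, r * x ≠ x * r := by_contra fun k => xR (q.cen fun r hr => by_contra fun e => k ⟨r, hr, e⟩)
  have m2 := q.nm.conj_mem r hr x
  have mζ : x * r * x⁻¹ * r⁻¹ ∈ R := mul_mem m2 (inv_mem hr)
  have cx : x * (x * r * x⁻¹ * r⁻¹) * x⁻¹ = x * r * x⁻¹ * r⁻¹ := by
    rw [← conj_mul, ← conj_inv, eq_inv_of_mul_eq_one_right (q.rx hr x3), mul_inv_rev, mul_assoc, ← (ab _ m2 _ hr).inv_inv.eq, ← mul_assoc,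
      ← mul_inv_rev, sq3 (q.cub m2), inv_inv]
  have e1 : r * x * r⁻¹ = (x * r * x⁻¹ * r⁻¹)⁻¹ * x := by group
  have z1 : x * r * x⁻¹ * r⁻¹ ≠ 1 := fun e => n (mul_inv_eq_iff_eq_mul.1 (mul_inv_eq_one.1 e)).symm
  generalize x * r * x⁻¹ * r⁻¹ = ζ at mζ cx e1 z1
  have e2 : r⁻¹ * x * r⁻¹⁻¹ = ζ * x := by
    calc _ = s * r * s⁻¹ * (s * x * s⁻¹) * (s * r * s⁻¹)⁻¹ := by rw [iv r hr, c.eq, mul_inv_cancel_right]
      _ = (s * ζ * s⁻¹)⁻¹ * (s * x * s⁻¹) := by rw [conj_inv, conj_inv, conj_mul, conj_mul, conj_mul, e1]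
      _ = _ := by rw [iv ζ mζ, c.eq, mul_inv_cancel_right, inv_inv]
  refine q.p2 ζ x ⟨.inl rfl, trivial, trivial, q.cub mζ, x3, (mul_inv_eq_iff_eq_mul.1 cx).symm, z1, fun m => xR (zpowers_le.2 mζ m)⟩ fun a ha => ?_
  obtain ⟨ρ, hρ, e⟩ : ∃ ρ ∈ R, ρ * x * ρ⁻¹ = a * x := by
    rcases zp3 (q.cub mζ) ha with e | e | e <;> rw [e]
    exacts [⟨1, one_mem _, by group⟩, ⟨r⁻¹, inv_mem hr, e2⟩, ⟨r, hr, e1⟩]
  refine ⟨ρ * s * ρ⁻¹, by rw [conj_mul, ss]; group, e ▸ c.map (MulAut.conj ρ), ?_⟩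
  have k : ρ * ζ * ρ⁻¹ = ζ := by rw [(ab _ hρ _ mζ).eq, mul_inv_cancel_right]
  rw [← k, conj_inv, conj_mul, conj_mul, iv ζ mζ, conj_inv]

end Qt

theorem closed [Group.IsSolvable G] (o : ∀ g : G, g ^ 48 = 1) (q : Qt G (pCore 3 G)) {x : G} (x3 : x ^ 3 = 1) : x ∈ pCore 3 G := by
  by_contra xR
  let ρ := QuotientGroup.mk' (pCore 3 G)
  have sρ : Function.Surjective ρ := QuotientGroup.mk'_surjective _
  have x1 : ρ x ≠ 1 := fun e => xR ((QuotientGroup.eq_one_iff x).1 e)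
  have cn := cen2 (G := G ⧸ pCore 3 G) (fun g => by obtain ⟨g, rfl⟩ := sρ g; rw [← map_pow, o, map_one]) (CL.pCore_quotient_pCore 3 G)
  obtain ⟨D, hD⟩ := exists_sylIn 2 ((pCore 2 (G ⧸ pCore 3 G)).comap ρ)
  have eD := hD.map ρ
  rw [map_comap_eq_self_of_surjective sρ] at eD
  have eD := eD.eq_of_isPGroup (PComp.pCore_isPGroup 2)
  have D1 : D ≠ ⊥ := fun e => by
    rw [← eD, e, Subgroup.map_bot] at cn
    exact x1 (cn fun _ m => by rw [mem_bot.1 m, one_mul, mul_one])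
  obtain ⟨n, hn, y, hy, e⟩ := hD.frattini (x := x) (le_normalizer_of_normal (mem_top x))
  obtain ⟨d, hd, ed⟩ : ρ n ∈ D.map ρ := eD ▸ hn
  have ey : ρ (d * y) = ρ x := by rw [e, map_mul, map_mul, ed]
  obtain ⟨w3, ew⟩ := q.h8.lift ρ (r := 3) (.inl rfl) (g := d * y) (by rw [ey, ← map_pow, x3, map_one]) (ey ▸ x1)
  have wN : (d * y) ^ 400 ∈ 𝐍 (D ⊓ 𝐂 D) := le_normalizer_inf le_rfl (normalizer_le_normalizer_centralizer D)
    (pow_mem (mul_mem (le_normalizer hd) hy) _)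
  have wR : (d * y) ^ 400 ∉ pCore 3 G := fun m => x1 (by rw [← ey, ← ew]; exact (QuotientGroup.eq_one_iff _).2 m)
  generalize (d * y) ^ 400 = w at w3 wN wR
  obtain ⟨⟨s, hs⟩, os⟩ := exists_prime_orderOf_dvd_card' 2 (dvd_card_of_isPGroup_le (hD.pgroup.to_le inf_le_left)
    (inf_centralizer_ne_bot hD.pgroup hD.pgroup le_normalizer D1) le_rfl)
  rw [← orderOf_coe] at os
  have ss : s * s = 1 := by rw [← pow_two, ← os]; exact pow_orderOf_eq_one s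
  have s1 : s ≠ 1 := fun e => by rw [coe_mk, e, orderOf_one] at os; omega
  have m1 := (mem_normalizer_iff.1 wN _).1 hs
  have m2 := (mem_normalizer_iff.1 wN _).1 m1
  have c1 : Commute s (w * s * w⁻¹) := m1.2 s hs.1
  have c2 : Commute s (w * (w * s * w⁻¹) * w⁻¹) := m2.2 s hs.1
  have c3 : Commute (w * s * w⁻¹) (w * (w * s * w⁻¹) * w⁻¹) := m2.2 _ m1.1
  have e3 : w * (w * (w * s * w⁻¹) * w⁻¹) * w⁻¹ = s := by
    calc _ = w ^ 3 * s * (w ^ 3)⁻¹ := by simp only [pow_succ, pow_zero]; group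
      _ = _ := by rw [w3]; group
  have t2 : w * s * w⁻¹ * (w * s * w⁻¹) = 1 := by rw [conj_mul, ss]; group
  by_cases f1 : s * (w * s * w⁻¹) = 1
  · exact q.caseB ss s1 w3 (mul_inv_eq_iff_eq_mul.1 (mul_left_cancel (f1.trans ss.symm))).symm wR
  have ff : s * (w * s * w⁻¹) * (s * (w * s * w⁻¹)) = 1 := by rw [← c1.mul_mul_mul_comm, ss, t2, one_mul]
  by_cases ne : w * (s * (w * s * w⁻¹)) * w⁻¹ = s * (w * s * w⁻¹)
  · exact q.caseB ff f1 w3 (mul_inv_eq_iff_eq_mul.1 ne).symm wR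
  refine q.caseA ff f1 w3 ?_ ne ?_
  · rw [← conj_mul]; exact (c1.mul_right c2).mul_left ((Commute.refl _).mul_right c3)
  · rw [← conj_mul (a := s), ← conj_mul, e3, mul_assoc s, ← mul_assoc (w * s * w⁻¹), t2, one_mul, c2.eq]

theorem lift9 {e f : G ⧸ pCore 2 G} (E : Ep 3 ⊤ e f) : ∃ a b : G, Ep 3 ⊤ a b ∧ (a : G ⧸ pCore 2 G) = e ∧ (b : G ⧸ pCore 2 G) = f := by
  obtain ⟨a, rfl⟩ := QuotientGroup.mk_surjective e
  obtain ⟨b, rfl⟩ := QuotientGroup.mk_surjective f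
  have m : ∀ g : G, g ∈ 𝐎 (⊤ : Subgroup G) ↔ (g : G ⧸ pCore 2 G) = 1 := fun g => by rw [PComp.pCoreOf_top, QuotientGroup.eq_one_iff]
  obtain ⟨e, f, -, -, e3, f3, cm, e1, ne, h1, h2⟩ := ep_lift (H := ⊤) (p := 3) (.inl rfl) (a := a) (b := b) trivial trivial
    ((m _).2 E.ep) ((m _).2 E.fp)
    ((m _).2 (commutatorElement_eq_one_iff_mul_comm.2 E.cm :)) (fun k => E.e1 ((m _).1 k)) fun i k =>
      E.ne (eq_inv_of_mul_eq_one_right (show (a : G ⧸ pCore 2 G) ^ i * b = 1 from (m _).1 k) ▸ inv_mem (pow_mem (mem_zpowers _) i))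
  rw [PComp.pCoreOf_top] at h1 h2
  exact ⟨e, f, ⟨.inl rfl, trivial, trivial, e3, f3, cm, e1, ne⟩, QuotientGroup.eq.2 h1, QuotientGroup.eq.2 h2⟩

theorem keyK (h : HD G) {y ζ : G} (y3 : y ^ 3 = 1) (y1 : y ≠ 1) (z3 : ζ ^ 3 = 1) (c : Commute ζ y) {t : G ⧸ pCore 2 G} (tt : t * t = 1)
    (ty : Commute t y) (tz : t * ζ * t⁻¹ = (ζ : G ⧸ pCore 2 G)⁻¹) : pCore 2 G ⊓ 𝐜 y ≤ 𝐜 ζ := by
  have pO := PComp.pCore_isPGroup (G := G) 2
  obtain ⟨m, hm⟩ := IsPGroup.iff_card.1 pO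
  have mt : t ∈ 𝐂 ((zpowers y).map (QuotientGroup.mk' (pCore 2 G))) := by
    rintro _ ⟨_, ⟨i, rfl⟩, rfl⟩
    rw [map_zpow]
    exact (ty.zpow_right i).symm.eq
  rw [CL.centralizer_map_mk'_of_coprime _ _ (by rw [Nat.card_zpowers, ordp Nat.prime_three y3 y1, hm]; exact Nat.Coprime.pow_right m (by decide))
    (.inl inferInstance)] at mt
  obtain ⟨s, hs, rfl⟩ := mt
  have sy : s * y = y * s := (hs y (mem_zpowers y)).symm
  have s2 : s ^ 2 ^ 5 = 1 := by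
    rw [show 2 ^ 5 = 2 * 16 from rfl, pow_mul, pow_two]
    exact h.p16 pO ((QuotientGroup.eq_one_iff _).1 tt)
  have k : ∀ u ∈ pCore 2 G ⊓ 𝐜 y, Commute s u := fun u hu =>
    h.comm (.inl rfl) y3 y1 (isPGroup_sup_of_normalizes' pO (isPGroup_zpowers s2) le_normalizer_of_normal) (mem_sup_right (mem_zpowers s))
      (mem_sup_left hu.1) sy (mem_c.1 hu.2)
  intro u hu
  have c1 : Commute (ζ * s * ζ⁻¹) u := by
    have := (k (ζ⁻¹ * u * ζ) ⟨by simpa using (inferInstance : (pCore 2 G).Normal).conj_mem u hu.1 ζ⁻¹,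
      mem_c.2 ((c.inv_left.mul_left (mem_c.1 hu.2)).mul_left c)⟩).eq
    calc ζ * s * ζ⁻¹ * u = ζ * (s * (ζ⁻¹ * u * ζ)) * ζ⁻¹ := by group
      _ = _ := by rw [this]; group
  have c2 := (k u hu).mul_left c1.inv_left
  have mo : ζ⁻¹ * (s * (ζ * s * ζ⁻¹)⁻¹) ∈ pCore 2 G := by
    refine QuotientGroup.eq.1 ?_
    have e : ((s * (ζ * s * ζ⁻¹)⁻¹ : G) : G ⧸ pCore 2 G) = (s : G ⧸ pCore 2 G) * ζ * (s : G ⧸ pCore 2 G)⁻¹ * (ζ : G ⧸ pCore 2 G)⁻¹ := by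
      simp only [QuotientGroup.mk_mul, QuotientGroup.mk_inv]; group
    rw [e, show (s : G ⧸ pCore 2 G) * ζ * (s : G ⧸ pCore 2 G)⁻¹ = (ζ : G ⧸ pCore 2 G)⁻¹ from tz, ← mul_inv_rev,
      sq3 (by rw [← QuotientGroup.mk_pow, z3, QuotientGroup.mk_one]), inv_inv]
  have c3 : Commute (ζ⁻¹ * (s * (ζ * s * ζ⁻¹)⁻¹)) u := h.comm (.inl rfl) y3 y1 pO mo hu.1
    (c.inv_left.mul_left ((show Commute s y from sy).mul_left ((c.mul_left sy).mul_left c.inv_left).inv_left)) (mem_c.1 hu.2)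
  generalize s * (ζ * s * ζ⁻¹)⁻¹ = w at c2 c3
  have := c2.mul_left c3.inv_left
  rw [mul_inv_rev, mul_inv_cancel_left, inv_inv] at this
  exact mem_c.2 this.symm

theorem qt [Group.IsSolvable G] (h : HD G) (ch : Ch (⊤ : Subgroup G)) (o : ∀ g : G, g ^ 48 = 1) : Qt (G ⧸ pCore 2 G) (pCore 3 _) := by
  have m : ∀ g : G, g ∈ 𝐎 (⊤ : Subgroup G) ↔ (g : G ⧸ pCore 2 G) = 1 := fun g => by rw [PComp.pCoreOf_top, QuotientGroup.eq_one_iff]
  have pO := PComp.pCore_isPGroup (G := G) 2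
  refine ⟨h.quot _, inferInstance, PComp.pCore_isPGroup 3, cen3 (fun g => ?_) (CL.pCore_quotient_pCore 2 G), fun e f s E ss se sf => ?_,
    fun e f E k => ?_⟩
  · obtain ⟨g, rfl⟩ := QuotientGroup.mk_surjective g
    rw [← QuotientGroup.mk_pow, o, QuotientGroup.mk_one]
  · obtain ⟨a, b, E', rfl, rfl⟩ := lift9 E
    obtain ⟨s, rfl⟩ := QuotientGroup.mk_surjective s
    refine (m s).1 (L37.cy h ch E' trivial (h.p16 (isPGroup_zpowers (k := 5) ?_) (mem_zpowers s))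
      ((m _).2 (commutatorElement_eq_one_iff_mul_comm.2 se :)) ((m _).2 (commutatorElement_eq_one_iff_mul_comm.2 sf :)))
    rw [show 2 ^ 5 = 2 * 16 from rfl, pow_mul, pow_two]
    exact h.p16 pO ((QuotientGroup.eq_one_iff _).1 ss)
  · obtain ⟨a, b, E', rfl, rfl⟩ := lift9 E
    have c : Commute a b := E'.cm
    have key : ∀ u ∈ zpowers a, pCore 2 G ⊓ 𝐜 (u * b) ≤ 𝐜 a := by
      rintro _ ⟨i, rfl⟩
      obtain ⟨t, tt, ty, tz⟩ := k ((a : G ⧸ pCore 2 G) ^ i) ⟨i, rfl⟩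
      refine keyK h ?_ (fun e => E'.ne (eq_inv_of_mul_eq_one_right e ▸ inv_mem ⟨i, rfl⟩)) E'.ep
        ((Commute.self_zpow a i).mul_right c) tt ty tz
      rw [(c.zpow_left i).mul_pow, E'.fp, mul_one, ← zpow_natCast, ← zpow_mul, mul_comm, zpow_mul, zpow_natCast, E'.ep, one_zpow]
    obtain ⟨n, hn⟩ := IsPGroup.iff_card.1 pO
    have le : pCore 2 G ≤ 𝐜 a := by
      refine gen2 (p := 3) E'.ep E'.fp c E'.e1 E'.ne (le_normalizer_of_normal (mem_top _)) (le_normalizer_of_normal (mem_top _))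
        (by rw [hn]; exact Nat.Coprime.pow_right n (by decide)) fun u hu v hv n1 y hy => ?_
      have cy : Commute y (u * v) := mem_c.1 hy.2
      rcases zp3 E'.fp hv with e | e | e <;> rw [e] at n1 cy
      · rw [mul_one] at n1 cy
        rcases zp3 E'.ep hu with e | e | e <;> rw [e] at n1 cy
        exacts [absurd rfl n1, mem_c.2 cy, mem_c.2 (Commute.inv_right_iff.1 cy)]
      · exact key u hu ⟨hy.1, mem_c.2 cy⟩
      · refine key u⁻¹ (inv_mem hu) ⟨hy.1, mem_c.2 ?_⟩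
        obtain ⟨i, rfl⟩ := hu
        have := cy.inv_right
        rwa [mul_inv_rev, inv_inv, (c.symm.zpow_right i).inv_right.eq] at this
    exact E.e1 ((m a).1 (ch ⟨trivial, fun g hg => mem_c.1 (le (by rwa [PComp.pCoreOf_top] at hg))⟩))

end S3y

/-- **`3`-closure of `{2,3}`-groups**: `exists_tc` of `FGS/Ord8/Sol3` (`H` is solvable by Burnside as in `N57.solv`; `R / O` is
`O₃(H / O)`). -/
theorem closed3 (h : HD G) (ch : Ch H) (n : ∀ g ∈ H, g ^ 7 = 1 ∨ g ^ 19 = 1 → g = 1) :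
    ∃ R, Ft 3 H R ∧ ∀ x ∈ H, x ^ 3 ∈ 𝐎 H → x ∈ R := by
  have : Group.IsSolvable H := CL.Spec.solvable_of_orders (a := 4) (b := 1) Nat.prime_two Nat.prime_three fun g =>
    orderOf_dvd_of_pow_eq_one (Subtype.ext (S3y.p48 h n g.2))
  have o : ∀ g : H, g ^ 48 = 1 := fun g => Subtype.ext (S3y.p48 h n g.2)
  have mO : ∀ g : H, (g : G) ∈ 𝐎 H ↔ (g : H ⧸ pCore 2 H) = 1 := fun g => by rw [PComp.mem_pCoreOf, QuotientGroup.eq_one_iff]
  have q := S3y.qt (h.subgroup H) (fun g hg => by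
    rw [PComp.pCoreOf_top] at hg ⊢
    refine (PComp.mem_pCoreOf g).1 (ch ⟨g.2, ?_⟩)
    rintro _ ⟨u, hu, rfl⟩
    exact congrArg Subtype.val (hg.2 u hu)) o
  refine ⟨((pCore 3 _).comap (QuotientGroup.mk' (pCore 2 H))).map H.subtype, ⟨.inl rfl, fun g hg => ?_, map_subtype_le _,
    CL.le_normalizer_map_subtype _ _, ?_, fun s hs k => ⟨⟨s, hs⟩, q.cen fun r hr => ?_, rfl⟩⟩, fun x hx x3 => ⟨⟨x, hx⟩, ?_, rfl⟩⟩
  · obtain ⟨u, hu, rfl⟩ := hg
    exact ⟨u, by rw [SetLike.mem_coe, mem_comap, show QuotientGroup.mk' _ u = 1 from (QuotientGroup.eq_one_iff u).2 hu]; exact one_mem _, rfl⟩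
  · rintro _ ⟨r, hr, rfl⟩
    exact (mO (r ^ 3)).2 (q.cub hr)
  · obtain ⟨r, rfl⟩ := QuotientGroup.mk_surjective r
    exact (commutatorElement_eq_one_iff_mul_comm.1 ((mO ⁅(⟨s, hs⟩ : H), r⁆).1 (k r ⟨r, hr, rfl⟩) :)).symm
  · refine S3y.closed (fun g => ?_) q ((mO ((⟨x, hx⟩ : H) ^ 3)).1 x3 :)
    obtain ⟨g, rfl⟩ := QuotientGroup.mk_surjective g
    rw [← QuotientGroup.mk_pow, o, QuotientGroup.mk_one]

end CL.L37
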