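import Cfsg.Agent.FGS.L37.Sol2
import Cfsg.Agent.FGS.L37.Sol3
import Cfsg.Agent.FGS.L37.Fr42
import Cfsg.Agent.FGS.HHLenQ

/-!
No section `A₄` or `SL₂(3)` above `O₂` in solvable groups of characteristic two.
-/

set_option autoImplicit false
set_option linter.unusedSectionVars false

namespace CL.L37

open Subgroup Cfsg CL.MSS CL.Ord6 CL.Ord8
open scoped commutatorElement MatrixGroups

universe u

variable {G : Type*} [Group G] [Finite G]
variable {H : Subgroup G}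

namespace Tc

variable {P D : Subgroup G} {x s : G}

/-- the norm of a fixed point free automorphism of order three vanishes -/
theorem nrm (x3 : x ^ 3 = 1) (xN : x ∈ 𝐍 P) (fp : ∀ r ∈ P, x * r = r * x → r = 1) {u : G} (hu : u ∈ P) :
    u * (x * u * x⁻¹) * (x⁻¹ * u * x) = 1 := by
  have m : ∀ y ∈ P, y⁻¹ * (x * y * x⁻¹) ∈ P := fun y hy => mul_mem (inv_mem hy) ((mem_normalizer_iff.1 xN y).1 hy)
  have i : Function.Injective fun y : P => (⟨_, m y y.2⟩ : P) := fun y z e => by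
    have e' : (y : G)⁻¹ * (x * y * x⁻¹) = (z : G)⁻¹ * (x * z * x⁻¹) := congrArg Subtype.val e
    refine Subtype.ext (mul_inv_eq_one.1 (fp _ (mul_mem y.2 (inv_mem z.2)) ?_))
    calc x * (y * (z : G)⁻¹) = y * ((y : G)⁻¹ * (x * y * x⁻¹)) * (x * (z : G)⁻¹) := by group
      _ = _ := by rw [e']; group
  obtain ⟨y, e⟩ := Finite.injective_iff_surjective.1 i ⟨u, hu⟩
  have e' : (y : G)⁻¹ * (x * y * x⁻¹) = u := congrArg Subtype.val e
  have xi : x⁻¹ = x * x := inv_eq_of_mul_eq_one_right (by rw [← x3]; simp [pow_succ, mul_assoc])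
  calc u * (x * u * x⁻¹) * (x⁻¹ * u * x) = (y : G)⁻¹ * (x * x * y * (x * x)⁻¹) * (x⁻¹ * (y : G)⁻¹ * x) * y := by rw [← e']; group
    _ = 1 := by rw [← xi]; group

theorem two (e7 : ∀ r ∈ P, r ^ 7 = 1) {a : G} (ha : a ∈ P) (e : a * a = 1) : a = 1 :=
  one_of_cop (m := 2) (by rw [pow_two, e]) (e7 a ha) (by norm_num)

/-- an involution that commutes with `x` centralizes `P` -/
theorem eig (e7 : ∀ r ∈ P, r ^ 7 = 1) [hP : P.Normal] (fr : ∀ w ∈ P, ∀ g, g * w * g⁻¹ = w ^ 3 → w = 1) (x3 : x ^ 3 = 1)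
    (fp : ∀ r ∈ P, x * r = r * x → r = 1) (s2 : s * s = 1) (c : s * x = x * s) : s ∈ 𝐂 P := by
  have xN : x ∈ 𝐍 P := by simp [normalizer_eq_top]
  have si : s⁻¹ = s := inv_eq_of_mul_eq_one_right s2
  have four : ∀ w ∈ P, ∀ y, y * w * y⁻¹ = w ^ 4 → s * w * s⁻¹ = w⁻¹ → w = 1 := fun w hw y a b => fr w hw (s * y) (by
    have : s * y * w * (s * y)⁻¹ = s * (y * w * y⁻¹) * s⁻¹ := by group
    rw [this, a, ← conj_pow, b, inv_pow, inv_eq_iff_mul_eq_one, ← pow_add]; exact e7 w hw)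
  refine mem_centralizer_iff.2 fun z hz => ?_
  obtain ⟨a, ha⟩ : ∃ a, a = z⁻¹ * (s * z * s⁻¹) := ⟨_, rfl⟩
  have aP : a ∈ P := ha ▸ mul_mem (inv_mem hz) (hP.conj_mem z hz s)
  have sa : s * a * s⁻¹ = a⁻¹ := by
    calc s * a * s⁻¹ = s * z⁻¹ * s⁻¹ * (s * s) * z * (s * s)⁻¹ := by rw [ha]; group
      _ = _ := by rw [s2, ha]; group
  suffices a = 1 by rw [this, eq_inv_mul_iff_mul_eq, mul_one, eq_mul_inv_iff_mul_eq] at ha; exact ha
  obtain ⟨b, hb⟩ : ∃ b, b = x * a * x⁻¹ := ⟨_, rfl⟩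
  have bP : b ∈ P := hb ▸ hP.conj_mem a aP x
  have sb : s * b * s⁻¹ = b⁻¹ := by
    calc s * b * s⁻¹ = s * x * a * (s * x)⁻¹ := by rw [hb]; group
      _ = x * (s * a * s⁻¹) * x⁻¹ := by rw [c]; group
      _ = _ := by rw [sa, hb]; group
  have n1 := nrm x3 xN fp aP
  have n2 := nrm x3 xN fp (inv_mem aP)
  rw [← hb] at n1
  have e1 : x⁻¹ * a * x = (a * b)⁻¹ := eq_inv_of_mul_eq_one_right n1
  have cm : Commute a b := by
    have : b * a = (x⁻¹ * a * x)⁻¹ := by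
      calc b * a = (a⁻¹ * (x * a⁻¹ * x⁻¹))⁻¹ := by rw [hb]; group
        _ = _ := by rw [eq_inv_of_mul_eq_one_left n2]; group
    rw [e1, inv_inv] at this
    exact this.symm
  have xi : x⁻¹ = x * x := inv_eq_of_mul_eq_one_right (by rw [← x3]; simp [pow_succ, mul_assoc])
  have e2 : x * b * x⁻¹ = (a * b)⁻¹ := by
    calc x * b * x⁻¹ = x * x * a * (x * x)⁻¹ := by rw [hb]; group
      _ = _ := by rw [← xi, inv_inv, e1]
  have v1 : b * (a ^ 2)⁻¹ = 1 := four _ (mul_mem bP (inv_mem (pow_mem aP 2))) x (by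
      have : x * (b * (a ^ 2)⁻¹) * x⁻¹ = x * b * x⁻¹ * ((x * a * x⁻¹) ^ 2)⁻¹ := by rw [conj_pow]; group
      rw [this, e2, ← hb, (cm.symm.pow_right 2).inv_right.mul_pow, inv_pow, ← pow_mul, show 2 * 4 = 7 + 1 from rfl, pow_succ a, e7 a aP, one_mul,
        eq_inv_of_mul_eq_one_left (show b ^ 4 * b ^ 3 = 1 by rw [← pow_add, e7 b bP]), ← mul_inv_rev, ← mul_inv_rev, ← mul_assoc,
        (cm.pow_right 2).symm.eq, mul_assoc, ← pow_succ])
    (by
      have : s * (b * (a ^ 2)⁻¹) * s⁻¹ = s * b * s⁻¹ * ((s * a * s⁻¹) ^ 2)⁻¹ := by rw [conj_pow]; group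
      rw [this, sa, sb, inv_pow, inv_inv, mul_inv_rev, inv_inv]
      exact ((cm.pow_left 2).inv_right).symm.eq)
  refine four a aP x⁻¹ ?_ sa
  rw [inv_inv, e1, mul_inv_eq_one.1 v1, ← pow_succ', inv_eq_iff_mul_eq_one, ← pow_add]; exact e7 a aP

/-- the four-group case -/
theorem orb (e7 : ∀ r ∈ P, r ^ 7 = 1) [hP : P.Normal] (x3 : x ^ 3 = 1) (fp : ∀ r ∈ P, x * r = r * x → r = 1) {t t' t'' y : G}
    (e1 : x * t'' * x⁻¹ = t) (e2 : x⁻¹ * t' * x = t) (e : t'' = t * t') (c : t * t' = t' * t) (t2 : t' * t' = 1) (hy : y ∈ P)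
    (ty : y * t = t * y) : y * t' = t' * y := by
  obtain ⟨a, ha⟩ : ∃ a, a = y⁻¹ * (t' * y * t'⁻¹) := ⟨_, rfl⟩
  have aP : a ∈ P := ha ▸ mul_mem (inv_mem hy) (hP.conj_mem y hy t')
  suffices a = 1 by rw [this, eq_inv_mul_iff_mul_eq, mul_one, eq_mul_inv_iff_mul_eq] at ha; exact ha
  have a1 : t' * a * t'⁻¹ = a⁻¹ := by
    calc t' * a * t'⁻¹ = t' * y⁻¹ * t'⁻¹ * (t' * t') * y * (t' * t')⁻¹ := by rw [ha]; group
      _ = _ := by rw [t2, ha]; group
  have cy : Commute t y := ty.symm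
  have ct : Commute t t' := c
  have a0 : t * a * t⁻¹ = a := by
    rw [mul_inv_eq_iff_eq_mul, ha]
    exact cy.inv_right.mul_right ((ct.mul_right cy).mul_right ct.inv_right)
  have a2 : t'' * a * t''⁻¹ = a⁻¹ := by
    calc t'' * a * t''⁻¹ = t * (t' * a * t'⁻¹) * t⁻¹ := by rw [e]; group
      _ = (t * a * t⁻¹)⁻¹ := by rw [a1]; group
      _ = _ := by rw [a0]
  have n := nrm x3 (by simp [normalizer_eq_top]) fp aP
  have n' := nrm x3 (by simp [normalizer_eq_top]) fp (inv_mem aP)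
  have b1 : t * (x * a * x⁻¹) * t⁻¹ = x * a⁻¹ * x⁻¹ := by rw [← a2, ← e1]; group
  have b2 : t * (x⁻¹ * a * x) * t⁻¹ = x⁻¹ * a⁻¹ * x := by rw [← a1, ← e2]; group
  have k : a * (x * a⁻¹ * x⁻¹) * (x⁻¹ * a⁻¹ * x) = 1 := by
    calc _ = t * a * t⁻¹ * (t * (x * a * x⁻¹) * t⁻¹) * (t * (x⁻¹ * a * x) * t⁻¹) := by rw [a0, b1, b2]
      _ = t * (a * (x * a * x⁻¹) * (x⁻¹ * a * x)) * t⁻¹ := by group
      _ = 1 := by rw [n]; group
  rw [← n', mul_left_inj, mul_left_inj] at k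
  exact two e7 aP (by nth_rw 1 [k]; simp)

theorem seven (e7 : ∀ r ∈ P, r ^ 7 = 1) [hP : P.Normal] (cen : 𝐂 P ≤ P) (fr : ∀ w ∈ P, ∀ g, g * w * g⁻¹ = w ^ 3 → w = 1) (x3 : x ^ 3 = 1)
    (fp : ∀ r ∈ P, x * r = r * x → r = 1) (p : IsPGroup 2 D) (xn : x ∈ 𝐍 D) : D = ⊥ := by
  by_contra h0
  have I : ∀ t, t * t = 1 → t * x = x * t → t = 1 := fun t a b => two e7 (cen (eig e7 fr x3 fp a b)) a
  have := (nontrivial_iff_ne_bot D).2 h0
  obtain ⟨z, -, zc, zo⟩ := CL.PN.exists_mem_center_orderOf_eq p ⊤ top_ne_bot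
  obtain ⟨s, hs⟩ := z
  have so : orderOf s = 2 := by rw [← zo, ← orderOf_coe]
  have s2 : s * s = 1 := by rw [← pow_two, ← so, pow_orderOf_eq_one]
  have s1 : s ≠ 1 := fun e => by simp [e] at so
  have sc : ∀ d ∈ D, d * s = s * d := fun d hd => congrArg Subtype.val (mem_center_iff.1 zc ⟨d, hd⟩)
  have xi : x⁻¹ = x * x := inv_eq_of_mul_eq_one_right (by rw [← x3]; simp [pow_succ, mul_assoc])
  obtain ⟨u, hu⟩ : ∃ u, u = x * s * x⁻¹ := ⟨_, rfl⟩
  obtain ⟨v, hv⟩ : ∃ v, v = x⁻¹ * s * x := ⟨_, rfl⟩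
  have uD : u ∈ D := hu ▸ (mem_normalizer_iff.1 xn s).1 hs
  have vD : v ∈ D := hv ▸ (mem_normalizer_iff''.1 xn s).1 hs
  have xu : x * u * x⁻¹ = v := by
    calc x * u * x⁻¹ = x * x * s * (x * x)⁻¹ := by rw [hu]; group
      _ = _ := by rw [← xi, inv_inv, hv]
  have xv : x * v * x⁻¹ = s := by rw [hv]; group
  have us : Commute u s := sc u uD
  have vs : Commute v s := sc v vD
  have uv : Commute u v := by
    have : u * v = x * (s * u) * x⁻¹ := by rw [← xu]; nth_rw 1 [hu]; group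
    rw [Commute, SemiconjBy, this, ← us.eq, ← xu]; nth_rw 3 [hu]; group
  have u2 : u * u = 1 := by rw [hu, conj_mul, s2]; group
  have v2 : v * v = 1 := by rw [← xu, conj_mul, u2]; group
  have t1 : s * u * v = 1 := I _ (by
      rw [← pow_two, (vs.symm.mul_left uv).mul_pow, us.symm.mul_pow, pow_two, pow_two, pow_two, s2, u2, v2]; simp) (by
      symm
      rw [← mul_inv_eq_iff_eq_mul, ← conj_mul, ← conj_mul, ← hu, xu, xv, ← (us.mul_left vs).eq.symm, mul_assoc])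
  have ev : v = s * u := by rw [← inv_eq_of_mul_eq_one_right v2]; exact (eq_inv_of_mul_eq_one_left t1).symm
  have su : s ≠ u := fun e => s1 (I s s2 (by rw [hu, eq_mul_inv_iff_mul_eq] at e; exact e))
  have o : (Nat.card P).Coprime 2 := by
    have := Fact.mk (show Nat.Prime 7 by norm_num)
    obtain ⟨k, hk⟩ := (IsPGroup.iff_card (p := 7)).1 (fun r : P => ⟨1, Subtype.ext (by simpa using e7 r r.2)⟩)
    exact hk ▸ Nat.Coprime.pow_left _ (by norm_num)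
  have : P ≤ 𝐜 s := CL.HHL.le_of_four o s2 u2 s1 (fun e => s1 (by rw [e] at hu; simpa using hu.symm)) su us.symm (by simp [normalizer_eq_top])
    (by simp [normalizer_eq_top]) inf_le_right
    (fun y hy => by
      have a := orb e7 x3 fp (t := u) (t' := v) (t'' := s) hu.symm (by rw [← xu]; group) (by rw [ev, ← us.eq, ← mul_assoc, u2, one_mul]) uv v2 hy.1
        (mem_c.1 hy.2)
      have b : s = u * v := by rw [ev, ← us.eq, ← mul_assoc, u2, one_mul]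
      exact mem_c.2 (b ▸ (Commute.mul_right (mem_c.1 hy.2) a).eq))
    fun y hy => mem_c.2 (orb e7 x3 fp (t := v) (t' := s) (t'' := u) xu hv.symm (by rw [vs.eq, ev, ← mul_assoc, s2, one_mul]) vs s2 hy.1
      (ev ▸ mem_c.1 hy.2))
  exact s1 (two e7 (cen (mem_centralizer_iff.2 fun y hy => mem_c.1 (this hy))) s2)

/-- a normal self-centralizing cyclic subgroup contains the derived group -/
theorem cyc [hP : P.Normal] (cen : 𝐂 P ≤ P) {a : G} (e : P = zpowers a) (g k : G) : ⁅g, k⁆ ∈ P := by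
  have m : ∀ g : G, ∃ i : ℤ, a ^ i = g * a * g⁻¹ := fun g => mem_zpowers_iff.1 (e ▸ hP.conj_mem a (e ▸ mem_zpowers a) g)
  obtain ⟨i, hi⟩ := m g⁻¹
  obtain ⟨j, hj⟩ := m k⁻¹
  refine cen (le_centralizer_iff.1 (e ▸ zpowers_le.2 (mem_centralizer_iff.2 fun y hy => ?_) : P ≤ 𝐂 (zpowers ⁅g, k⁆)) (mem_zpowers _))
  obtain ⟨n, rfl⟩ := mem_zpowers_iff.1 hy
  refine (Commute.zpow_left ?_ n).eq
  have a1 : k⁻¹ * (g⁻¹ * a * g⁻¹⁻¹) * k⁻¹⁻¹ = a ^ (j * i) := by rw [← hi, ← conj_zpow, ← hj, zpow_mul]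
  have a2 : g⁻¹ * (k⁻¹ * a * k⁻¹⁻¹) * g⁻¹⁻¹ = a ^ (j * i) := by rw [← hj, ← conj_zpow, ← hi, mul_comm j, zpow_mul]
  rw [Commute, SemiconjBy, commutatorElement_def]
  calc g * k * g⁻¹ * k⁻¹ * a = g * k * (g⁻¹ * (k⁻¹ * a * k⁻¹⁻¹) * g⁻¹⁻¹) * (g⁻¹ * k⁻¹) := by group
    _ = _ := by rw [a2, ← a1]; group

end Tc

/-- PROOF. `Ft p H R` (`exists_ft`); replace `H` by `K = R ⊔ D ⊔ ⟨x⟩` (`Ft.of_le`). Bars: modulo `O = 𝐎 H`. Suppose `[D̄, x̄] ≠ 1`.
* `p = 3`: `K` is a `{2,3}`-group, `x ∈ R'` (`closed3`), `⁅d, x⁆ ∈ R' ⊓ D ≤ O`.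
* `p = 19`: `R̄` is cyclic (`ep_lift`, `no19`), so `K / R` is abelian (`cen`), `⁅d, x⁆ ∈ R ⊓ D ≤ O`.
* `p = 7`: `x̄` has no fixed point on `R̄` (`HD.c3`). Take `D̄` minimal `x`-invariant with `[D̄, x̄] ≠ 1`. If an involution `s` of
`Z(D̄)` (or of `Ω₁Z(D̄)`) is not centralized by `x̄`: four-group `⟨s, s^x⟩` normalized by `x̄`, `R̄ = ⟨C(s')⟩`; product of an orbit
in `Z`-sections gives a fixed point of `x̄` (S0666: Frobenius group `A₄`), contradiction. Otherwise `s ≠ 1` commutes with `x̄`, `s ∉ R̄`;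
`W` minimal `⟨s, x̄⟩`-invariant in a section..., concretely: the elements of `R̄` inverted by `s`; `[R̄, s] ≠ 1`; on an
`⟨s, x̄⟩`-invariant elementary abelian subgroup `W ≠ 1` inverted by `s` (`7 ≡ 1 mod 6`, `x̄` has an eigenvector `w`,
eigenvalue `2` or `4`) `g = s x̄` or `s x̄⁻¹` acts as `w ↦ w ^ 3`; `fr42` gives `w = 1`. (To get `W`: `s` central in the `7'`-group
`⟨s, x̄⟩` acting on `R̄`; a minimal invariant subgroup not centralized by `s` is special; if `s` centralizes its centre use an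
eigenvector of `x̄` in the Frattini quotient and lift it by coprimeness: `⟨w⟩ Φ / Φ` invariant; induct on `|R̄|` with the
statement: `∃ w ≠ 1, s w s = w⁻¹, x w x⁻¹ ∈ ⟨w⟩`.) -/
theorem tc (h : HD G) (ch : Ch H) (sol : Group.IsSolvable H) {D : Subgroup G} (hD : D ≤ H) (p : IsPGroup 2 D) {x : G}
    (hx : x ∈ H) (x3 : x ^ 3 = 1) (xn : x ∈ 𝐍 D) {d : G} (hd : d ∈ D) : ⁅d, x⁆ ∈ 𝐎 H := by
  obtain ⟨q, R, f⟩ := exists_ft h sol
  have cD : ⁅d, x⁆ ∈ D := by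
    have := mul_mem hd ((mem_normalizer_iff.1 xn _).1 (inv_mem hd))
    simpa [commutatorElement_def, mul_assoc] using this
  have fin : ∀ {m : ℕ}, m = 3 ∨ m = 19 → ⁅d, x⁆ ^ m ∈ 𝐎 H → ⁅d, x⁆ ∈ 𝐎 H := fun {m} hm a => by
    have c := h.p16 p cD
    rcases hm with rfl | rfl
    · have := pow_mem a 11
      rwa [← pow_mul, show 3 * 11 = 16 * 2 + 1 from rfl, pow_succ, pow_mul, c, one_pow, one_mul] at this
    · have := pow_mem a 11
      rwa [← pow_mul, show 19 * 11 = 16 * 13 + 1 from rfl, pow_succ, pow_mul, c, one_pow, one_mul] at this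
  have hO : ((𝐎 H).subgroupOf H).Normal := (normal_subgroupOf_iff_le_normalizer (oP_le H)).2 (oP_normal H)
  let π := QuotientGroup.mk' ((𝐎 H).subgroupOf H)
  have k1 : ∀ a : H, π a = 1 ↔ (a : G) ∈ 𝐎 H := fun a => QuotientGroup.eq_one_iff a
  have k2 : ∀ {a b : H}, π a = π b → (a : G)⁻¹ * b ∈ 𝐎 H := fun {a b} e => (QuotientGroup.eq (s := (𝐎 H).subgroupOf H) (a := a) (b := b)).1 e
  have sj : Function.Surjective π := QuotientGroup.mk'_surjective _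
  have hR : (R.subgroupOf H).Normal := (normal_subgroupOf_iff_le_normalizer f.le).2 f.nm
  obtain ⟨P, hP⟩ : ∃ P, P = (R.subgroupOf H).map π := ⟨_, rfl⟩
  have nP : P.Normal := hP ▸ hR.map π sj
  have mP : ∀ a : H, π a ∈ P ↔ (a : G) ∈ R := fun a => by
    refine ⟨fun e => ?_, fun e => hP ▸ mem_map_of_mem π (mem_subgroupOf.2 e)⟩
    obtain ⟨b, hb, e⟩ := hP ▸ e
    exact (R.mul_mem_cancel_left (inv_mem (mem_subgroupOf.1 hb))).1 (f.lo (k2 e))
  have eq : ∀ r ∈ P, r ^ q = 1 := fun r hr => by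
    obtain ⟨r, rfl⟩ := sj r
    rw [← map_pow, k1]; exact f.pw _ ((mP r).1 hr)
  have cen : 𝐂 P ≤ P := fun s hs => by
    obtain ⟨s, rfl⟩ := sj s
    refine (mP s).2 (f.cen _ s.2 fun r hr => (k1 ⁅s, ⟨r, f.le hr⟩⁆).1 ?_)
    rw [map_commutatorElement, commutatorElement_eq_one_iff_mul_comm]
    exact (mem_centralizer_iff.1 hs _ ((mP ⟨r, f.le hr⟩).2 hr)).symm
  rcases f.hp with rfl | rfl | rfl
  · have l : R ⊔ (D ⊔ zpowers x) ≤ H := sup_le f.le (sup_le hD (zpowers_le.2 hx))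
    obtain ⟨e, f'⟩ := f.of_le le_sup_left l
    obtain ⟨R', r, hr⟩ := closed3 h (ch.of_le l (f.lo.trans le_sup_left)) fun g hg hh => by
      obtain ⟨r, hr, y, hy, rfl⟩ := (mem_sup_of_normalizes_left ((le_sup_right.trans l).trans f.nm)).1 hg
      obtain ⟨b, hb, c, hc, rfl⟩ := (mem_sup_of_normalizes_left (zpowers_le.2 xn)).1 hy
      have c3 : c ^ 3 = 1 := by
        obtain ⟨n, rfl⟩ := mem_zpowers_iff.1 hc
        rw [← zpow_natCast, ← zpow_mul, mul_comm, zpow_mul, zpow_natCast, x3, one_zpow]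
      have cn := mem_normalizer_iff.1 (zpowers_le.2 xn hc)
      have a1 : (b * c) ^ 3 ∈ D := by
        have := mul_mem hb ((cn _).1 (mul_mem hb ((cn _).1 hb)))
        rwa [show b * (c * (b * (c * b * c⁻¹)) * c⁻¹) = (b * c) ^ 3 * (c ^ 3)⁻¹ by simp [pow_succ, mul_assoc], c3, inv_one, mul_one] at this
      have a2 : ((⟨r, f.le hr⟩ * ⟨b * c, l (mem_sup_right hy)⟩ : H) ^ 48 : H) ∈ R.subgroupOf H := by
        rw [← QuotientGroup.eq_one_iff, QuotientGroup.mk_pow, QuotientGroup.mk_mul, (QuotientGroup.eq_one_iff _).2 (mem_subgroupOf.2 hr), one_mul,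
          ← QuotientGroup.mk_pow, QuotientGroup.eq_one_iff, mem_subgroupOf]
        show (b * c) ^ (3 * 16) ∈ R
        rw [pow_mul, h.p16 p a1]; exact one_mem _
      have a3 : (r * (b * c)) ^ (48 * 3 * 16) = 1 := by
        rw [pow_mul, pow_mul]; exact h.p16 (oP_isPGroup H) (f.pw _ (mem_subgroupOf.1 a2))
      rcases hh with hh | hh <;> exact one_of_cop hh a3 (by norm_num)
    have xK : x ∈ R ⊔ (D ⊔ zpowers x) := mem_sup_right (mem_sup_right (mem_zpowers x))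
    have xR := hr x xK (x3 ▸ one_mem _)
    refine fin (.inl rfl) (e ▸ r.pw _ ?_)
    exact mul_mem ((mem_normalizer_iff.1 (r.nm (mem_sup_right (mem_sup_left hd))) x).1 xR) (inv_mem xR)
  · by_cases x1 : π ⟨x, hx⟩ = 1
    · refine (k1 ⁅(⟨d, hD hd⟩ : H), (⟨x, hx⟩ : H)⁆).1 ?_
      rw [map_commutatorElement, x1, commutatorElement_one_right]
    have y3 : π ⟨x, hx⟩ ^ 3 = 1 := by rw [← map_pow, k1]; simp [x3]
    have := Tc.seven eq cen (fun w hw g e => ?_) y3 (fun r hr e => one_of_cop (eq r hr) (((h.subgroup H).map sj).c3 y3 x1 e) (by norm_num))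
      ((p.comap_subtype (K := H)).map π) (le_normalizer_map π ⟨⟨x, hx⟩, mem_normalizer_iff.2 fun y => mem_normalizer_iff.1 xn y, rfl⟩)
    · refine (k1 ⁅(⟨d, hD hd⟩ : H), (⟨x, hx⟩ : H)⁆).1 ?_
      have a := mem_map_of_mem π (show (⟨d, hD hd⟩ : H) ∈ D.comap H.subtype from hd)
      rw [this, mem_bot] at a
      rw [map_commutatorElement, a, commutatorElement_one_left]
    · obtain ⟨w, rfl⟩ := sj w
      obtain ⟨g, rfl⟩ := sj g
      rw [← map_inv, ← map_mul, ← map_mul, ← map_pow] at e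
      exact (k1 w).2 (fr42 h ch w.2 g.2 (f.pw _ ((mP w).1 hw)) (k2 e))
  · obtain ⟨a, ha⟩ : ∃ a, P = zpowers a := by
      by_cases h0 : P = ⊥
      · exact ⟨1, by simp [h0]⟩
      have := (nontrivial_iff_ne_bot P).2 h0
      have := Fact.mk (show Nat.Prime 19 by norm_num)
      obtain ⟨⟨z, hz⟩, -, zc, zo⟩ := CL.PN.exists_mem_center_orderOf_eq (p := 19) (fun r : P => ⟨1, Subtype.ext (by simpa using eq r r.2)⟩) ⊤ top_ne_bot
      obtain ⟨z, rfl⟩ := sj z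
      refine ⟨π z, le_antisymm (fun b hb => ?_) (zpowers_le.2 hz)⟩
      obtain ⟨b, rfl⟩ := sj b
      by_contra nb
      obtain ⟨e, g, he, hg, e1, g1, c, e2, g2, -⟩ := ep_lift (.inr (.inr rfl)) z.2 b.2 (f.pw _ ((mP z).1 hz)) (f.pw _ ((mP b).1 hb))
        ((k1 ⁅z, b⁆).1 (by
          rw [map_commutatorElement, commutatorElement_eq_one_iff_mul_comm]
          exact (congrArg Subtype.val (mem_center_iff.1 zc ⟨_, hb⟩)).symm))
        (fun e => by
          have : (⟨π z, hz⟩ : P) = 1 := Subtype.ext ((k1 z).2 e)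
          simp [this] at zo)
        fun i e => nb (by
          have := (k1 (z ^ i * b)).2 e
          rw [map_mul, map_pow] at this
          rw [eq_inv_of_mul_eq_one_right this]
          exact inv_mem (pow_mem (mem_zpowers _) i))
      exact g2 (no19 h ch he hg e1 g1 c e2)
    refine fin (.inr rfl) (f.pw _ ((mP ⁅(⟨d, hD hd⟩ : H), (⟨x, hx⟩ : H)⁆).1 ?_))
    rw [map_commutatorElement]
    exact Tc.cyc cen ha _ _

end CL.L37
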