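import Cfsg.Agent.FGS.L37.UD1
import Cfsg.Agent.FGS.L37.Tc
import Cfsg.Agent.FGS.L37.Zp

/-!
The non-split case: the end.
-/

set_option autoImplicit false
set_option linter.unusedSectionVars false

namespace CL.L37

open Subgroup Cfsg CL.MSS CL.Ord6 CL.Ord8
open scoped commutatorElement MatrixGroups

universe u

variable {G : Type*} [Group G] [Finite G]
variable {M Q V T Q1 Z1 H : Subgroup G} {z0 z x : G}

theorem UD2.cardT (t : Ty7 H) (s : SylIn 2 T H) : ♯T = 8 * ♯(𝐎 H) := by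
  have := Fact.mk Nat.prime_two
  obtain ⟨a, ha⟩ := s.pgroup.exists_card_eq
  obtain ⟨b, hb⟩ := (oP_isPGroup (p := 2) H).exists_card_eq
  have e := s.card_eq_pow_factorization
  rw [t.card, hb, show 168 * 2 ^ b = 21 * 2 ^ (b + 3) by ring, Nat.factorization_mul (by norm_num) (by positivity),
    Nat.prime_two.factorization_pow] at e
  have z : Nat.factorization 21 2 = 0 := Nat.factorization_eq_zero_of_not_dvd (by norm_num)
  rw [e, hb]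
  simp [z, pow_succ]
  ring

theorem UD2.ri {A B : Subgroup G} (h : A ≤ B) : A.relIndex B * ♯A = ♯B := by
  rw [← relIndex_bot_left A, ← relIndex_bot_left B, mul_comm, relIndex_mul_relIndex _ _ _ bot_le h]

theorem UD2.sixteen {A B O : Subgroup G} (a : A.relIndex O ≤ 4) (b : B.relIndex O ≤ 4) (c : O ⊓ (A ⊓ B) = ⊥) : ♯O ≤ 16 := by
  rw [← relIndex_bot_left, ← c, inf_relIndex_left]
  exact relIndex_inf_le.trans (Nat.mul_le_mul a b)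

/-- PROOF. `O ≤ Q1` (`o2`). If `O ≤ Q`: `tc` against `xq`, or `|T| = 8 |O|` (`Ty7.card`, `T` Sylow in `H`), `O = Q`, `H ≤ M`. -/
theorem Cu.not_le (h : HD G) (k : Cu M Q V T Q1 Z1 z0 z x) (top : SylIn 2 T ⊤)
    (sp : ∀ y ∈ B7.Om Q, ∃ v ∈ V, ∃ c ∈ B7.Om Q, Zm M c ∧ y = v * c) (tH : T ≤ H) (xH : x ∈ H) (ch : Ch H)
    (t : Group.IsSolvable H ∨ Ty7 H) (n : ¬ H ≤ M) : ¬ 𝐎 H ≤ Q := by
  intro o
  have s := top.of_le tH le_top
  rcases t with t | t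
  · obtain ⟨d, hd, e⟩ := k.xq
    exact e (o (tc h ch t (k.q2.trans tH) (s.pgroup.to_le k.q2) xH k.x3 k.nx hd))
  · have c1 := UD2.cardT t s
    have e : 𝐎 H = Q := eq_of_le_of_card_ge o (by have := k.cT; omega)
    exact n (k.nQ ▸ e ▸ oP_normal H)

/-- PROOF. `X = Om O`, `t ∈ X - Q`; `V ⊓ O ≤ Z1` (`ct`). Solvable `H`: `tc` (`D = V`) against `xv`. Otherwise `|Q1| = 4 |O|`,
`V O = Q1`, `V ⊓ O = Z1`, `Q = V (Q ⊓ O)`, `⁅Q, t⁆ ≤ V`; `sq`: `Q = Y = V Z` is elementary, `|Q| = 8 |Z|`; `O ⊓ Q = Z1 Z` has order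
`2 |Z|`, `O = X (O ⊓ Q)` (`irr`) is elementary abelian of order `|Q|`, and `x` centralizes `Z1 Z` (`st`). `Ty7.two_gen`:
`|O : C_O(H)| ≤ 16`; `C_O(H) = 1` (`zt`, `cz`). So `|Q| ≤ 16`. -/
theorem Cu.fin2 (h : HD G) (k : Cu M Q V T Q1 Z1 z0 z x) (top : SylIn 2 T ⊤)
    (sp : ∀ y ∈ B7.Om Q, ∃ v ∈ V, ∃ c ∈ B7.Om Q, Zm M c ∧ y = v * c) (tH : T ≤ H) (xH : x ∈ H) (ch : Ch H)
    (t : Group.IsSolvable H ∨ Ty7 H) (n : ¬ H ≤ M) (c : ¬ B7.Om (𝐎 H) ≤ Q) : Q = V := by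
  have s := top.of_le tH le_top
  have OT : 𝐎 H ≤ T := oP_le_sylIn s
  have nO : H ≤ 𝐍 (𝐎 H) := oP_normal H
  have O1 : 𝐎 H ≤ Q1 := k.o2 _ OT (nO xH)
  have TM : T ≤ M := k.syl.le
  have VQ : V ≤ Q := k.cV ▸ fun v hv w hw => comm_sq k.el hw hv
  have QH : Q ≤ H := k.q1.trans (k.q2.trans tH)
  obtain ⟨u, hu, uQ⟩ := SetLike.not_le_iff_exists.1 c
  have uM : u ∈ M := TM (OT hu.1)
  have VO : ∀ v ∈ V, v ∈ 𝐎 H → v ∈ Z1 := fun v a b => k.ct u (O1 hu.1) uQ v a (hu.2.2 v b).symm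
  have cV : ∀ {v m}, v ∈ V → m ∈ M → ⁅v, m⁆ ∈ V := fun {v m} a b => by
    have := mul_mem a (inv_mem ((mem_normalizer_iff.1 (k.nV.ge b) v).1 a))
    simpa [commutatorElement_def, mul_assoc] using this
  rcases t with t | t
  · obtain ⟨v, hv, e⟩ := k.xv
    exact (e (VO _ (cV hv k.xM)
      (tc h ch t (VQ.trans QH) (k.pQ.to_le VQ) xH k.x3 (k.nV.ge k.xM) hv))).elim
  have cO : ♯(𝐎 H) = ♯Q := by have := UD2.cardT t s; have := k.cT; omega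
  have p0 : 0 < ♯Q := Nat.card_pos
  have i4 : 4 ≤ (𝐎 H).relIndex V := by
    have e1 := UD2.ri (inf_le_right : 𝐎 H ⊓ V ≤ V)
    have e2 : ♯(𝐎 H ⊓ V) ≤ 4 := k.c4 ▸ card_le_of_le fun v hv => VO v hv.2 hv.1
    rw [inf_relIndex_right, k.c16] at e1
    nlinarith
  have su : V ⊔ 𝐎 H = Q1 := eq_of_le_of_card_ge (sup_le (VQ.trans k.q1) O1) (by
    have e1 := UD2.ri (le_sup_right : 𝐎 H ≤ V ⊔ 𝐎 H)
    have e2 : (𝐎 H).relIndex V ≤ (𝐎 H).relIndex (V ⊔ 𝐎 H) :=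
      relIndex_le_of_le_right le_sup_left FiniteIndex.index_ne_zero
    rw [← e1, k.c1, cO]
    exact Nat.mul_le_mul_right _ (i4.trans e2))
  have el : ∀ q ∈ Q, q * q = 1 := k.sq u uM uQ fun q hq => by
    have m : q ∈ ((V ⊔ 𝐎 H : Subgroup G) : Set G) := su.ge (k.q1 hq)
    rw [coe_mul_of_left_le_normalizer_right _ _ (VQ.trans (QH.trans nO))] at m
    obtain ⟨v, hv, o, ho, rfl⟩ := m
    have : ⁅v * o, u⁆ = ⁅v, u⁆ := by
      simp only [commutatorElement_def, mul_inv_rev]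
      rw [mul_assoc v o u, ← hu.2.2 o ho]; group
    exact this ▸ cV hv uM
  have xz : x * z = z * x := mem_c.1 (k.st.ge (mem_sup_right (mem_zpowers x))).2
  have fx : ∀ y ∈ Q, y ∈ 𝐎 H → y ∈ 𝐜 x := fun y hy yO => by
    obtain ⟨v, hv, w, hw, zw, rfl⟩ := sp y ⟨hy, el y hy, fun q hq => comm_sq el hy hq⟩
    have wO : w ∈ 𝐎 H := ch ⟨QH hw.1, fun o ho => (zw o (TM (OT ho))).symm⟩
    have c0 : z0 ∈ 𝐜 x := mem_c.2 (k.z0M x k.xM)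
    have cz : z ∈ 𝐜 x := mem_c.2 xz.symm
    refine mul_mem ?_ (mem_c.2 (zw x k.xM))
    rcases (k.mem v).1 (VO v hv ((mul_mem_cancel_right wO).1 yO)) with rfl | rfl | rfl | rfl
    exacts [one_mem _, c0, cz, mul_mem cz c0]
  have XO : B7.Om (𝐎 H) ≤ 𝐎 H := fun a ha => ha.1
  have sX : B7.Om (𝐎 H) ⊔ Q = Q1 := (k.irr _ (XO.trans O1) (B7.Om_nz (nO xH))).resolve_left c
  have eO : ∀ o ∈ 𝐎 H, o * o = 1 := fun o ho => by
    have m : o ∈ ((B7.Om (𝐎 H) ⊔ Q : Subgroup G) : Set G) := sX.ge (O1 ho)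
    rw [coe_mul_of_left_le_normalizer_right _ _ (XO.trans (OT.trans (TM.trans k.nQ.ge)))] at m
    obtain ⟨a, ha, q, hq, rfl⟩ := m
    have qO : q ∈ 𝐎 H := (mul_mem_cancel_left ha.1).1 ho
    show a * q * (a * q) = 1
    rw [mul_assoc, ← mul_assoc q, ← ha.2.2 q qO, mul_assoc, el q hq, mul_one, ha.2.1]
  obtain ⟨g, hg, gen⟩ := t.two_gen xH k.x3 k.x1
  have r4 : (𝐎 H ⊓ Q).relIndex (𝐎 H) ≤ 4 := by
    rw [inf_relIndex_left]
    refine (relIndex_le_of_le_right O1 FiniteIndex.index_ne_zero).trans (le_of_eq ?_)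
    have := UD2.ri k.q1
    rw [k.c1] at this
    exact Nat.eq_of_mul_eq_mul_right p0 this
  have r4' : (g •ᶜ (𝐎 H ⊓ Q)).relIndex (𝐎 H) ≤ 4 := by
    have e1 := UD2.ri (inf_le_left : 𝐎 H ⊓ Q ≤ 𝐎 H)
    have e2 := UD2.ri (cj_le_of_mem_normalizer (inf_le_left : 𝐎 H ⊓ Q ≤ 𝐎 H) (nO hg))
    rw [card_cj, ← e1] at e2
    exact (Nat.eq_of_mul_eq_mul_right Nat.card_pos e2).trans_le r4
  have le := UD2.sixteen r4 r4' (eq_bot_iff.2 fun w hw => by_contra fun w1 => by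
    obtain ⟨wO, ⟨-, wQ⟩, y, ⟨yO, yQ⟩, ey⟩ := hw
    have Hw : H ≤ 𝐜 w := by
      rw [← gen]
      refine sup_le (sup_le (zpowers_le.2 (mem_c.2 (mem_c.1 (fx w wQ wO)).symm)) (zpowers_le.2 (mem_c.2 ?_)))
        fun o ho => mem_c.2 (comm_sq eO ho wO)
      have e : g * y * g⁻¹ = w := ey
      rw [← e, conj_mul, conj_mul, mem_c.1 (fx y yQ yO)]
    exact n (k.cz (eO w wO) w1 (k.zt sp (eO w wO) fun t ht => (mem_c.1 (Hw (tH ht))).symm).2 ▸ Hw))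
  exact (eq_of_le_of_card_ge VQ (by rw [k.c16, ← cO]; exact le)).symm

theorem Cu.fin (h : HD G) (k : Cu M Q V T Q1 Z1 z0 z x) (top : SylIn 2 T ⊤)
    (sp : ∀ y ∈ B7.Om Q, ∃ v ∈ V, ∃ c ∈ B7.Om Q, Zm M c ∧ y = v * c) (tH : T ≤ H) (xH : x ∈ H) (ch : Ch H)
    (t : Group.IsSolvable H ∨ Ty7 H) (n : ¬ H ≤ M) : Q = V :=
  (em (B7.Om (𝐎 H) ≤ Q)).elim (k.fin1 h top sp tH xH ch n (k.not_le h top sp tH xH ch t n))
    (k.fin2 h top sp tH xH ch t n)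

end CL.L37
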