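import Cfsg.Agent.FGS.L37.Defs

/-!
`F₂L₃(2)`-modules without fixed points and without Steinberg summand (cf. `B7.b1`, `B7.b2`).
-/

set_option autoImplicit false
set_option linter.unusedSectionVars false

namespace CL.L37

open Subgroup Cfsg CL.MSS CL.Ord6 CL.Ord8
open scoped commutatorElement MatrixGroups

universe u

variable {W : Type*} [CommGroup W] [Finite W] {ρ : L32 →* MulAut W}

namespace ModA

open B7 Matrix

theorem b1 {ρ : L32 →* MulAut W} (h2 : ∀ w : W, w * w = 1) (c0 : ∀ w : W, (∀ a, ρ a w = w) → w = 1) (U : Vec → W)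
    (U0 : U 0 = 1) (hne : ∃ v, U v ≠ 1) (hU : ∀ a v, ρ a (U v) = U (ac a v)) : NatM ρ ∨ NatM (ρ.comp σ) := by
  by_cases c : ∃ l : Vec, ∏ u, U u ^ (l ⬝ᵥ u).val ≠ 1
  · refine .inr ⟨fun l => ∏ u, U u ^ (l ⬝ᵥ u).val, c, fun a l => ?_, fun l m => tri h2 ?_⟩
    · simp only [MonoidHom.comp_apply, map_prod, map_pow, hU]
      refine Fintype.prod_equiv (acE (σ a)) _ _ fun u => ?_
      have := pair (σ a) l u
      rw [σσ] at this
      exact congrArg (fun t : ZMod 2 => U (ac (σ a) u) ^ t.val) this.symm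
    · simp only [← Finset.prod_mul_distrib, ← pow_add, add_dotProduct]
      exact par h2 _ _ fun u => .inr ((by decide : ∀ x y : ZMod 2, ((x + y).val + x.val + y.val) % 2 = 0) _ _)
  · push Not at c
    refine .inl ⟨U, hne, hU, fun v w => tri h2 ?_⟩
    obtain ⟨l, k, hk⟩ := lin v w
    have := par h2 U _ fun u => (hk u).imp_left fun e => by rw [e, U0]
    have o : ∏ u, U u ^ k.1 = 1 := c0 _ fun a => by
      simp only [map_prod, map_pow, hU]
      exact Fintype.prod_equiv (acE a) _ _ fun _ => rfl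
    simp only [pow_add, Finset.prod_mul_distrib, c, o, pow_ite, pow_one, pow_zero, Finset.prod_ite_eq',
      Finset.mem_univ, if_true, mul_one] at this
    exact this

/-- the inverse of `up p` -/
def upi (p : ZMod 2 × ZMod 2 × ZMod 2) : L32 := up (p.1, p.2.1 + p.1 * p.2.2, p.2.2)

theorem up_upi : ∀ p, up p * upi p = 1 := by decide +kernel

theorem cert : ∀ x : Vec × Vec, x.1 ≠ 0 → x.2 ≠ 0 → x.2 ⬝ᵥ x.1 = 0 → ((if x = (e0, e2) then 1 else 0) +
    242 / 2 ^ cd x.1 % 2 + 68 / 2 ^ cd x.2 % 2 +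
    ∑ p, if x = (ac (up p) e2, ac (upi p).transpose e0) then 1 else 0) % 2 = 0 := by decide +kernel

theorem fix (ρ : L32 →* MulAut W) (h2 : ∀ w : W, w * w = 1) (ne : ∃ w : W, w ≠ 1) :
    ∃ z : W, z ≠ 1 ∧ ∀ a ∈ D, ρ a z = z := by
  let _ : MulAction D W := MulAction.compHom W (ρ.comp D.subtype)
  have pW : IsPGroup 2 W := fun w => ⟨1, by rw [pow_one, pow_two, h2]⟩
  have : Nontrivial W := let ⟨w, hw⟩ := ne; ⟨w, 1, hw⟩
  obtain ⟨k, k0, hk⟩ := pW.nontrivial_iff_card.1 this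
  obtain ⟨z, hz, z1⟩ := pg_D.exists_fixed_point_of_prime_dvd_card_of_fixed_point W
    (by rw [hk]; exact dvd_pow_self 2 k0.ne') (a := 1) fun a => map_one (ρ a.1)
  exact ⟨z, z1.symm, fun a ha => hz ⟨a, ha⟩⟩

end ModA

open B7 Matrix in
/-- PROOF. Take `1 ≠ z` fixed by the `2`-group `D`; `Φ(a • (e0, e2)) = ρ a z` on flags as in `B7.b2`, `U p = ∏_{l ∋ p} Φ`,
`U' l = ∏_{p ∈ l} Φ`. CERTIFICATE in `F₂[flags]`: `(e0, e2) = ∑_{u ∈ D} u • (![0,0,1], ![1,0,0]) + L ![0,1,0] + L ![0,1,1] +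
P ![0,0,1] + P ![0,1,1] + P ![1,0,0] + P ![1,0,1] + P ![1,1,1]` (`P`, `L`: point and line sums); the first term gives `1` by
`n`. So `U ≠ 1` or `U' ≠ 1`; `B7.b1` used `FP` only to get `∏_p U p = 1`, which here follows from `c0`. -/
theorem modA (h2 : ∀ w : W, w * w = 1) (c0 : ∀ w : W, (∀ a, ρ a w = w) → w = 1) (ne : ∃ w : W, w ≠ 1) (n : ¬ StM ρ) :
    B7.NatM ρ ∨ B7.NatM (ρ.comp B7.σ) := by
  classical
  obtain ⟨z, z1, hD⟩ := ModA.fix ρ h2 ne
  have hz : ∀ a, ac a e0 = e0 → ac (σ a) e2 = e2 → ρ a z = z := fun a p q => hD a (mem_D p q)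
  let P : Vec × Vec → Prop := fun x => ∃ a, ac a e0 = x.1 ∧ ac (σ a) e2 = x.2
  let Φ : Vec × Vec → W := fun x => if h : P x then ρ h.choose z else 1
  have h1 : ∀ a, Φ (ac a e0, ac (σ a) e2) = ρ a z := fun a => by
    have p : P (ac a e0, ac (σ a) e2) := ⟨a, rfl, rfl⟩
    have := hz (a⁻¹ * p.choose) (by rw [ac_mul, p.choose_spec.1, ac_inv])
      (by rw [map_mul, ac_mul, p.choose_spec.2, map_inv, ac_inv])
    simp only [Φ, dif_pos p]
    conv_rhs => rw [← this, ← MulAut.mul_apply, ← map_mul, mul_inv_cancel_left]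
  have h0 : ∀ x, ¬ P x → Φ x = 1 := fun x c => dif_neg c
  have hΦ : ∀ a x, ρ a (Φ x) = Φ (ac a x.1, ac (σ a) x.2) := fun a x => by
    by_cases c : P x
    · obtain ⟨b, b1, b2⟩ := c
      have : x = (ac b e0, ac (σ b) e2) := Prod.ext b1.symm b2.symm
      rw [this, h1, ← ac_mul, ← ac_mul, ← map_mul, h1, map_mul, MulAut.mul_apply]
    · rw [h0 x c, map_one, h0]
      rintro ⟨b, b1, b2⟩
      exact c ⟨a⁻¹ * b, by rw [ac_mul, b1, ac_inv], by rw [map_mul, ac_mul, b2, map_inv, ac_inv]⟩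
  have fl : ∀ x, P x → x.1 ≠ 0 ∧ x.2 ≠ 0 ∧ x.2 ⬝ᵥ x.1 = 0 := fun x ⟨b, b1, b2⟩ => by
    rw [← b1, ← b2, pair]
    exact ⟨ac_ne _ (by decide), ac_ne _ (by decide), by decide⟩
  by_cases c1 : ∃ v, ∏ l, Φ (v, l) ≠ 1
  · refine ModA.b1 h2 c0 _ (Finset.prod_eq_one fun l _ => h0 _ fun p => (fl _ p).1 rfl) c1 fun a v => ?_
    simp only [map_prod, hΦ]
    exact Fintype.prod_equiv (acE (σ a)) _ _ fun _ => rfl
  by_cases c2 : ∃ l, ∏ v, Φ (v, l) ≠ 1
  · have := ModA.b1 (ρ := ρ.comp σ) h2 (fun w e => c0 w fun a => by rw [← σσ a]; exact e (σ a)) _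
      (Finset.prod_eq_one fun l _ => h0 _ fun p => (fl _ p).2.1 rfl) c2 fun a v => by
      simp only [MonoidHom.comp_apply, map_prod, hΦ, σσ]
      exact Fintype.prod_equiv (acE (σ a)) _ _ fun _ => rfl
    rw [show (ρ.comp σ).comp σ = ρ from MonoidHom.ext fun a => congrArg ρ (σσ a)] at this
    exact this.symm
  push Not at c1 c2
  have o : ∏ x, Φ x ^ (∑ p, if x = (ac (up p) e2, ac (ModA.upi p).transpose e0) then 1 else 0) = 1 := by
    simp only [← Finset.prod_pow_eq_pow_sum]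
    rw [Finset.prod_comm]
    simp only [pow_ite, pow_one, pow_zero, Finset.prod_ite_eq', Finset.mem_univ, if_true]
    by_contra q
    refine n ⟨Φ (e2, e0), fun e => q ?_⟩
    rw [← e]
    exact Finset.prod_congr rfl fun p _ => by rw [hΦ, σ_eq (ModA.up_upi p)]
  have r1 : ∀ e : Vec → ℕ, ∏ x, Φ x ^ e x.1 = 1 := fun e => by
    rw [Fintype.prod_prod_type]
    exact Finset.prod_eq_one fun v _ => by simp only [Finset.prod_pow, c1, one_pow]
  have r2 : ∀ e : Vec → ℕ, ∏ x, Φ x ^ e x.2 = 1 := fun e => by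
    rw [Fintype.prod_prod_type_right]
    exact Finset.prod_eq_one fun v _ => by simp only [Finset.prod_pow, c2, one_pow]
  have := par h2 Φ _ fun x => (em (P x)).symm.imp (h0 x) fun p => ModA.cert x (fl x p).1 (fl x p).2.1 (fl x p).2.2
  simp only [pow_add, Finset.prod_mul_distrib, o,
    r1 fun v => 242 / 2 ^ cd v % 2, r2 fun v => 68 / 2 ^ cd v % 2, pow_ite, pow_one, pow_zero, Finset.prod_ite_eq',
    Finset.mem_univ, if_true, mul_one] at this
  have e := h1 1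
  rw [map_one, ac_one, ac_one, this, map_one] at e
  exact (z1 e.symm).elim

end CL.L37
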