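import Cfsg.Agent.FGS.L37.Defs

/-!
Pushing up (no hypothesis on element orders).
-/

set_option autoImplicit false
set_option linter.unusedSectionVars false

namespace CL.L37

open Subgroup Cfsg CL.MSS CL.Ord6 CL.Ord8 CL.Th
open scoped commutatorElement MatrixGroups

universe u

variable {G : Type*} [Group G] [Finite G]

/-- a minimal overgroup -/
theorem exists_min {T M H0 : Subgroup G} (hT : SylIn 2 T ⊤) (tM : T ≤ M) (h0 : T ≤ H0) (ch : Ch H0) (n : ¬ H0 ≤ M) :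
    ∃ H, T ≤ H ∧ Ch H ∧ ¬ H ≤ M ∧ MSS.UniqMax T H (H ⊓ M) := by
  obtain ⟨H, a1, a2, a3⟩ := CL.BHS.exists_minOver h0 n tM
  exact ⟨H, a3.le_top', ChP.of_oP_le (p := 2) ch a1 ((oP_le_sylIn (hT.of_le h0 le_top)).trans a3.le_top'), a2, a3⟩

theorem ev_c2 (c2 : C2 G) {T : Subgroup G} (hT : SylIn 2 T ⊤) : CL.QP.Ev T :=
  ⟨hT, fun Y a b _ => c2 Y a b⟩

/-- PROOF. `H` from `exists_min`. `CL.QP.pMin_of` (`𝐍 T ≤ 𝐍 J(T) ≤ M`), `pm_of` (`z ∈ vz`, so `C(vz) ≤ 𝐜 z ≤ M`), `push_pm` with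
`K = P = H`, `S = T` (`𝐍 B(T) ≤ 𝐍 J(T)` as `J(B(T)) = J(T)`); `Ev T` from `c2`. -/
theorem push (c2 : C2 G) {T M H0 : Subgroup G} (hT : SylIn 2 T ⊤) (tM : T ≤ M) {z : G} (zT : z ∈ T) (z2 : z * z = 1)
    (z1 : z ≠ 1) (cz : T ≤ 𝐜 z) (zM : 𝐜 z ≤ M) (nJ : 𝐍 (𝐉 T) ≤ M) (h0 : T ≤ H0) (ch : Ch H0) (n : ¬ H0 ≤ M) :
    ∃ U : Subgroup G, IsPGroup 2 U ∧ U ≠ ⊥ ∧ 𝐍 (𝐁 T) ≤ 𝐍 U ∧ ¬ 𝐍 U ≤ M := by
  obtain ⟨H, tH, cH, nH, u⟩ := exists_min hT tM h0 ch n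
  have sT := hT.of_le tH le_top
  have nT : 𝐍 T ≤ M := (normalizer_le_normalizer_thompsonSubgroupOf T).trans nJ
  have nB : 𝐍 (𝐁 T) ≤ M := by
    refine le_trans ?_ nJ
    rw [← thompsonSubgroupOf_eq_of_le (CL.Foc3.J_le_baum T) (inf_le_left : 𝐁 T ≤ T)]
    exact normalizer_le_normalizer_thompsonSubgroupOf _
  have m := CL.QP.pMin_of sT u fun e => nH (e.trans nT)
  have hc := chP_iff.2 (show ChP 2 H from cH)
  have zc : (⟨z, tH zT⟩ : H) ∈ centralizer (pCore 2 H : Set H) := fun y hy => Subtype.ext (by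
    have : y.1 ∈ T := oP_le_sylIn sT ⟨y, hy, rfl⟩
    exact mem_c.1 (cz this))
  have zv : (⟨z, tH zT⟩ : H) ∈ CL.BHS.vz 2 H :=
    subset_closure ⟨⟨hc zc, zc⟩, Subtype.ext (by simpa [pow_two] using z2)⟩
  have hC : centralizer (CL.BHS.vz 2 H : Set H) ≤ M.subgroupOf H := fun x hx =>
    zM (mem_c.2 (congrArg Subtype.val (hx _ zv)).symm)
  have nj := CL.QP.norm_sub (M := M) (Y := 𝐉 (T.subgroupOf H)) (X := 𝐉 T) (by
    rw [map_thompsonSubgroupOf _ H.subtype_injective, map_subgroupOf_eq_of_le tH]) (inf_le_right.trans nJ)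
  obtain ⟨U, a1, a2, a3, a4⟩ := CL.QP.push_pm (ev_c2 c2 hT) (show ChP 2 H from cH) tH le_rfl tH
    (CL.QP.pm_of m hc hC nj) (le_normalizer.trans (CL.Foc3.norm_baum T)) (inf_le_right.trans nB)
  exact ⟨U, hT.pgroup.to_le (a1.trans inf_le_left), a2, a3, fun e => a4 (inf_le_right.trans e)⟩

/-- **Steinberg case.** PROOF. `T` Sylow in `M`, `Y = Om Q`. `A ∈ 𝒜(T)`, `¬ A ≤ Q`: `|A| ≥ |(A ⊓ Q) Y|` makes `A` an offender,
against `n`. So `J(T) = J(Q)`, `𝐍 T ≤ 𝐍 J(T) = M`, `T` is Sylow in `G`. `CL.QP.qrc` with `H` from `exists_min`, `M₀ = M`,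
`R = E = Q`, `V = Y`: `U` contradicts `max`, the other two cases contradict `n`. -/
theorem st_case (c2 : C2 G) {M Q : Subgroup G} {π : M →* L32} (l : Loc M Q π) (cy : M ⊓ 𝐂 (B7.Om Q) ≤ Q)
    (n : No2F M (B7.Om Q)) : ∃ T, SylIn 2 T ⊤ ∧ T ≤ M ∧ ∀ H, T ≤ H → Ch H → H ≤ M := by
  have qM : Q ≤ M := l.nQ ▸ le_normalizer
  obtain ⟨T, sT, qT⟩ := exists_sylIn_ge l.pQ qM
  have yQ : B7.Om Q ≤ Q := fun _ h => h.1
  have qC : Q ≤ 𝐂 (B7.Om Q) := fun q hq v hv => hv.2.2 q hq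
  have hV : IsElementaryAbelian 2 (B7.Om Q) :=
    ⟨⟨⟨fun a b => Subtype.ext (a.2.2.2 b b.2.1)⟩⟩, fun a ha => by rw [pow_two]; exact ha.2.1⟩
  have nV : M ≤ 𝐍 (B7.Om Q) := l.nQ ▸ B7.Om_nz
  have nq : ¬ QuadParamLE M (B7.Om Q) 2 := fun ⟨B, b1, b2, _, b4⟩ => (n B b1 b2).not_ge b4
  have nc : ¬ CubicParamLE M (B7.Om Q) 2 := fun ⟨B, b1, b2, _, b4⟩ => (n B b1 b2).not_ge b4
  have jQ : 𝐉 T ≤ Q := thompsonSubgroupOf_le_iff.2 fun A hA => le_trans (le_inf (hA.1.trans sT.le) (by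
    by_contra e
    obtain ⟨B, b1, b2, b3, b4⟩ := CL.QP.exists_quad hV (yQ.trans qT) (sT.le.trans nV) hA e
    have b5 := b1.trans (hA.1.trans sT.le)
    exact nq (CL.QP.quad_of hV b5 (b5.trans nV) b2 b3 (CL.QP.le_sq' b4)))) cy
  have jE : 𝐉 Q = 𝐉 T := thompsonSubgroupOf_eq_of_le jQ qT
  have nJ : 𝐍 (𝐉 Q) = M := l.max _ (l.pQ.to_le (thompsonSubgroupOf_le Q))
    (thompsonSubgroupOf_ne_bot_of_isPGroup l.pQ l.ne) (l.nQ ▸ normalizer_le_normalizer_thompsonSubgroupOf Q)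
  have hT : SylIn 2 T ⊤ := sT.of_normalizer_le le_top (inf_le_right.trans (by
    rw [← nJ, jE]; exact normalizer_le_normalizer_thompsonSubgroupOf T))
  refine ⟨T, hT, sT.le, fun H0 h0 ch => by_contra fun nH0 => ?_⟩
  obtain ⟨H, tH, cH, nH, u⟩ := exists_min hT sT.le h0 ch nH0
  rcases CL.QP.qrc (R := Q) (E := Q) (ev_c2 c2 hT) (show ChP 2 H from cH) u sT.le hV (yQ.trans qT) nV l.nQ.ge
    (le_antisymm (le_inf qT qC) ((inf_le_inf_right _ sT.le).trans cy)) (inf_le_right.trans l.nQ.ge)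
    (inf_eq_right.2 qT) with ⟨U, a1, a2, a3⟩ | a | a
  · exact nH ((le_sup_right.trans a3).trans (l.max U (l.pQ.to_le a1) a2 (le_sup_left.trans a3)).le)
  · exact nc a.2
  · exact nq a

end CL.L37
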