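import Cfsg.Agent.FGS.L37.Defs
import Cfsg.Agent.FGS.Ord8.R1b

/-!
Transvections of `Q` with centre a point of a central natural module.
-/

set_option autoImplicit false
set_option linter.unusedSectionVars false

namespace CL.L37

open Subgroup Cfsg CL.MSS CL.Ord6 CL.Ord8
open scoped commutatorElement MatrixGroups

universe u

variable {G : Type*} [Group G] [Finite G]

/-- fixed points of an element of order three with `N(z) ≠ 1` centralize `b` -/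
theorem R1x.fix {Q : Subgroup G} {z b : G} (h : HD G) (p : IsPGroup 2 Q) (hz : z ∈ Q) (z2 : z * z = 1) (zc : ∀ q ∈ Q, z * q = q * z) (hb : b ∈ Q)
    (k : ∀ q ∈ Q, ⁅b, q⁆ ∈ zpowers z) {a : G} (a3 : a ^ 3 = 1) (a1 : a ≠ 1) (ha : a ∈ 𝐍 Q)
    (n : z * (a * z * a⁻¹) * (a * (a * z * a⁻¹) * a⁻¹) ≠ 1) (q : G) (hq : q ∈ Q) (e : q * a = a * q) :
    b * q = q * b := by
  by_contra c
  have cj : ∀ x ∈ Q, a * x * a⁻¹ ∈ Q := fun x hx => (mem_normalizer_iff.1 ha x).1 hx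
  have nZ : 𝐍 Q ≤ 𝐍 (Q ⊓ 𝐂 Q) := le_normalizer_inf le_rfl (le_normalizer_centralizer le_rfl)
  have zZ : z ∈ Q ⊓ 𝐂 Q := ⟨hz, fun q hq => (zc q hq).symm⟩
  have cZ : ∀ x ∈ Q ⊓ 𝐂 Q, a * x * a⁻¹ ∈ Q ⊓ 𝐂 Q := fun x hx => (mem_normalizer_iff.1 (nZ ha) x).1 hx
  have s0 : b * q = z * q * b := by
    rw [← (Sol1.zp2 z2 (k q hq)).resolve_left fun o => c (commutatorElement_eq_one_iff_mul_comm.1 o),
      commutatorElement_def]
    group
  have st : ∀ x ζ, x * q = ζ * q * x → a * x * a⁻¹ * q = a * ζ * a⁻¹ * q * (a * x * a⁻¹) := fun x ζ hx => by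
    calc a * x * a⁻¹ * q = a * x * a⁻¹ * (q * a) * a⁻¹ := by group
      _ = a * (x * q) * a⁻¹ := by rw [e]; group
      _ = a * ζ * a⁻¹ * (a * q) * x * a⁻¹ := by rw [hx]; group
      _ = _ := by rw [← e]; group
  have s1 := st _ _ s0
  have s2 := st _ _ s1
  have m1 := cj _ hb
  have m2 := cj _ m1
  have u1 := cZ _ zZ
  have u2 := cZ _ u1
  have s3 : a * (a * (a * b * a⁻¹) * a⁻¹) * a⁻¹ = b := by
    rw [show a * (a * (a * b * a⁻¹) * a⁻¹) * a⁻¹ = a ^ 3 * b * (a ^ 3)⁻¹ by rw [pow_three]; group, a3]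
    group
  generalize hb1 : a * b * a⁻¹ = b1 at s1 s2 m1 m2 s3
  generalize hb2 : a * b1 * a⁻¹ = b2 at s2 m2 s3
  generalize a * z * a⁻¹ = z1 at s1 s2 u1 u2 n
  generalize a * z1 * a⁻¹ = z' at s2 u2 n
  have mb := mul_mem (mul_mem hb m1) m2
  obtain ⟨s, hs, f1⟩ := R1b.fixq (p.to_le (inf_le_left (b := 𝐂 Q))) (n := 3) (by norm_num) a3 (nZ ha)
    (nZ (le_normalizer mb)) (by
      have := inv_mem (zpowers_le_of_mem zZ (k _ (mul_mem m1 m2)))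
      rwa [show ⁅b, b1 * b2⁆⁻¹ = a * (b * b1 * b2) * a⁻¹ * (b * b1 * b2)⁻¹ by
        rw [← conj_mul, ← conj_mul, hb1, hb2, s3, commutatorElement_def]; group] at this)
  have f2 := h.comm (.inl rfl) a3 a1 p (mul_mem mb hs.1) hq f1 e
  rw [mul_assoc, ← hs.2 q hq, ← mul_assoc, ← mul_assoc, mul_left_inj] at f2
  have f3 : b * b1 * b2 * q = z * z1 * z' * (q * (b * b1 * b2)) := by
    calc b * b1 * b2 * q = b * b1 * (b2 * q) := by group
      _ = (b * b1 * z') * q * b2 := by rw [s2]; group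
      _ = z' * b * (b1 * q) * b2 := by rw [u2.2 _ (mul_mem hb m1)]; group
      _ = z' * (b * z1) * q * b1 * b2 := by rw [s1]; group
      _ = z' * z1 * (b * q) * b1 * b2 := by rw [u1.2 _ hb]; group
      _ = z' * (z1 * z) * (q * (b * b1 * b2)) := by rw [s0]; group
      _ = _ := by rw [← u1.2 _ hz, ← u2.2 _ (mul_mem hz u1.1)]
  rw [f2] at f3
  exact n (by simpa using f3)

open B7 in
/-- the certificate -/
theorem R1x.key (Ψ : L32 → ZMod 2) (I : ∀ p x, Ψ (up p * x) = Ψ x)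
    (R : ∀ a x, a * a * a = 1 → a ≠ 1 → e0 + ac a e0 + ac a (ac a e0) ≠ 0 → Ψ x + Ψ (a * x) + Ψ (a * (a * x)) = 0) : Ψ 1 = 0 := by
  have r1 := R (mk 0 0 1 0 1 1 1 0 1) (mk 0 0 1 0 1 0 1 0 0) (by decide +kernel) (by decide +kernel) (by decide +kernel)
  have r2 := R (mk 0 0 1 1 0 0 0 1 0) (mk 0 0 1 1 1 0 1 0 0) (by decide +kernel) (by decide +kernel) (by decide +kernel)
  have r3 := R (mk 0 0 1 1 0 0 0 1 0) (mk 0 0 1 1 1 0 1 0 1) (by decide +kernel) (by decide +kernel) (by decide +kernel)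
  have k : ∀ p x y, y = up p * x → Ψ y = Ψ x := fun p x y e => e ▸ I p x
  rw [k (0, 0, 1) (mk 0 0 1 1 1 0 1 0 0) (mk 0 0 1 0 1 0 1 0 0) (by decide +kernel),
    k (0, 1, 0) (mk 0 0 1 1 1 0 1 0 1) (_ * mk 0 0 1 0 1 0 1 0 0) (by decide +kernel),
    k (0, 1, 1) 1 (_ * (_ * mk 0 0 1 0 1 0 1 0 0)) (by decide +kernel)] at r1
  rw [k (1, 0, 0) (mk 0 0 1 1 0 0 0 1 0 * mk 0 0 1 1 1 0 1 0 1) (_ * mk 0 0 1 1 1 0 1 0 0) (by decide +kernel),
    k (0, 0, 1) (mk 0 0 1 1 0 0 0 1 0 * (mk 0 0 1 1 0 0 0 1 0 * mk 0 0 1 1 1 0 1 0 1)) (_ * (_ * mk 0 0 1 1 1 0 1 0 0))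
      (by decide +kernel)] at r2
  exact (by decide : ∀ a b c d e : ZMod 2, a + b + c = 0 → a + d + e = 0 → b + d + e = 0 → c = 0) _ _ _ _ _ r1 r2 r3

open B7 in
/-- PROOF. `Q = ker π`, `z = ζ e0`; all `ζ v` are central in `Q` (`eq`). `N = {b ∈ Q | ⁅b, Q⁆ ≤ ⟨z⟩} ≥ Z(Q)` is normalized by
`T = π⁻¹(D)`; if `N > Z(Q)` choose `b ∈ N - Z(Q)` with `⁅b, T⁆ ≤ Z(Q)`. `λ(q) = R1b.lam b q` is additive (`lam_mul`) and
`T`-invariant. For `a` of order `3` (`HD.lift`) with `e0 + a e0 + a² e0 ≠ 0`: `R1b.fix` (port, `HD.comm`) and `R1b.nrm` give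
`λ(q) + λ(a q a⁻¹) + λ(a² q a⁻²) = 0`. Fix `q`; `Φ(g) = λ(g⁻¹ q g)` depends only on the flag `π g • (e0, e2)` (point
`ac (π g) e0`, line `ac (σ (π g)) e2`), and `Φ(f) + Φ(a f) + Φ(a² f) = 0` whenever the point `p` of `f` has
`p + a p + a² p ≠ 0` (apply the relation to `g⁻¹ a g`). CERTIFICATE in `F₂[flags]`: `(e0, e2) = N(a1) f1 + N(a2) f2 + N(a3) f1` with
`a1 = mk 0 0 1 0 1 0 1 1 1`, `a2 = mk 0 0 1 1 1 1 1 0 1`, `a3 = mk 0 1 0 1 1 0 1 0 1`, `f1 = (![0,1,0], ![0,0,1])`,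
`f2 = (![0,1,1], ![1,0,0])`. So `λ(q) = 0`. -/
theorem r1 (h : HD G) (π : G →* L32) (p : IsPGroup 2 π.ker) (r : Function.Surjective π) (ζ : Vec → G)
    (hQ : ∀ v, ζ v ∈ π.ker) (inj : Function.Injective ζ) (eq : ∀ m v, m * ζ v * m⁻¹ = ζ (ac (π m) v))
    (ad : ∀ v w, ζ (v + w) = ζ v * ζ w) {b : G} (hb : b ∈ π.ker) (k : ∀ q ∈ π.ker, ⁅b, q⁆ ∈ zpowers (ζ e0)) :
    ∀ q ∈ π.ker, b * q = q * b := by
  have z0 : ζ 0 = 1 := left_eq_mul.1 ((congrArg ζ (add_zero 0)).symm.trans (ad 0 0))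
  have z2 : ζ e0 * ζ e0 = 1 := by rw [← ad, ← z0]; exact congrArg ζ (by decide)
  have zc : ∀ q ∈ π.ker, ζ e0 * q = q * ζ e0 := fun q hq =>
    (mul_inv_eq_iff_eq_mul.1 ((eq q e0).trans (by rw [show π q = 1 from hq, ac_one]))).symm
  have nQ := π.normal_ker
  have zp : ∀ {g w : G}, g * ζ e0 * g⁻¹ = ζ e0 → w ∈ zpowers (ζ e0) → g * w * g⁻¹ ∈ zpowers (ζ e0) := fun {g w} e hw =>
    (cj_zpowers g _).le.trans (zpowers_le.2 (e.symm ▸ mem_zpowers _)) (conj_mem_cj hw)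
  have zq : ∀ q ∈ π.ker, q * ζ e0 * q⁻¹ = ζ e0 := fun q hq => by rw [← zc q hq, mul_inv_cancel_right]
  let N : Subgroup G :=
    { carrier := {b | b ∈ π.ker ∧ ∀ q ∈ π.ker, ⁅b, q⁆ ∈ zpowers (ζ e0)}
      one_mem' := ⟨one_mem _, fun q _ => by simp⟩
      mul_mem' := fun {a b} ha hb => ⟨mul_mem ha.1 hb.1, fun q hq => by
        rw [show ⁅a * b, q⁆ = a * ⁅b, q⁆ * a⁻¹ * ⁅a, q⁆ by simp only [commutatorElement_def]; group]
        exact mul_mem (zp (zq a ha.1) (hb.2 q hq)) (ha.2 q hq)⟩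
      inv_mem' := fun {a} ha => ⟨inv_mem ha.1, fun q hq => by
        rw [show ⁅a⁻¹, q⁆ = a⁻¹ * ⁅a, q⁆⁻¹ * a⁻¹⁻¹ by simp only [commutatorElement_def]; group]
        exact zp (zq _ (inv_mem ha.1)) (inv_mem (ha.2 q hq))⟩ }
  by_contra c
  have : (𝐂 π.ker).Normal := normal_centralizer
  let φ := QuotientGroup.mk' (𝐂 π.ker)
  have nT : D.comap π ≤ 𝐍 N := le_normalizer_of_cj_le fun t ht => cj_le_iff_forall.2 fun a ha => ⟨nQ.conj_mem a ha.1 t, fun q hq => by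
    rw [R1.cm_cj]
    exact zp ((eq t e0).trans (congrArg ζ ht.1)) (ha.2 _ (nQ.conj_mem' q hq t))⟩
  obtain ⟨⟨_, ⟨b, hN, rfl⟩, hc⟩, b1⟩ := ne_bot_iff_exists_ne_one.1 (inf_centralizer_ne_bot ((pg_D.comap_of_ker_isPGroup π p).map φ)
    ((p.to_le (fun _ ha => ha.1 : N ≤ π.ker)).map φ) ((map_mono nT).trans (le_normalizer_map φ)) fun e => c fun q hq =>
      (((QuotientGroup.eq_one_iff b).1 (e.le ⟨b, ⟨hb, k⟩, rfl⟩)) q hq).symm)
  refine b1 (Subtype.ext ((QuotientGroup.eq_one_iff b).2 fun q hq => (R1b.lam_eq.1 ?_).symm))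
  let s := Function.surjInv r
  have hs : ∀ x, π (s x) = x := Function.surjInv_eq r
  have I : ∀ g g' : G, π g' * (π g)⁻¹ ∈ D → R1b.lam b (g' * q * g'⁻¹) = R1b.lam b (g * q * g⁻¹) := fun g g' e => by
    have t : (g' * g⁻¹)⁻¹ ∈ D.comap π := inv_mem (by rwa [mem_comap, map_mul, map_inv])
    have u : (g' * g⁻¹)⁻¹ * b * (g' * g⁻¹) * b⁻¹ ∈ 𝐂 π.ker := (QuotientGroup.eq_one_iff _).1 (by
      change φ _ = 1
      rw [map_mul, map_mul, map_mul, hc _ ⟨_, t, rfl⟩, map_inv, map_inv]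
      group)
    have v : Commute (g * q * g⁻¹) _ := u _ (nQ.conj_mem q hq g)
    have : Commute b (g' * q * g'⁻¹) ↔ Commute b (g * q * g⁻¹) := by
      rw [← Commute.conj_iff (g' * g⁻¹)⁻¹, show (g' * g⁻¹)⁻¹ * (g' * q * g'⁻¹) * (g' * g⁻¹)⁻¹⁻¹ = g * q * g⁻¹ by group, inv_inv]
      exact ⟨fun w => by simpa only [mul_inv_rev, inv_inv, mul_assoc, inv_mul_cancel_left, mul_inv_cancel_left, inv_mul_cancel, mul_inv_cancel,
        mul_one] using v.symm.inv_left.mul_left w, fun w => by simpa only [inv_mul_cancel_right] using v.symm.mul_left w⟩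
    by_cases o : Commute b (g * q * g⁻¹)
    · rw [R1b.lam_eq.2 o, R1b.lam_eq.2 (this.2 o)]
    · rw [R1b.lam_ne o, R1b.lam_ne (mt this.1 o)]
  have := R1x.key (fun x => R1b.lam b (s x * q * (s x)⁻¹)) (fun p x => I _ _ (by
    rw [hs, hs, mul_inv_cancel_right]; exact up_D p)) fun a x a3 a1 n => by
      obtain ⟨c3, ca⟩ := h.lift π (.inl rfl) (g := s a) (by rw [hs, pow_three', a3]) (by rwa [hs])
      rw [hs] at ca
      generalize s a ^ 400 = c at c3 ca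
      have cn : c ∈ 𝐍 π.ker := le_normalizer_of_normal (mem_top c)
      have := R1b.nrm p z2 zc hN.2 (n := 3) (by norm_num) c3 cn
        (R1x.fix h p (hQ e0) z2 zc hN.1 hN.2 c3 (fun e => a1 (by rw [← ca, e, map_one])) cn (by
          rw [eq, eq, ← ad, ← ad, ca, ← z0]
          exact fun e => n (inj e))) (nQ.conj_mem q hq (s x))
      rw [Finset.sum_range_succ, Finset.sum_range_succ, Finset.sum_range_one] at this
      rw [I (c * s x) (s (a * x)) (by simp [hs, ca]), I (c * (c * s x)) (s (a * (a * x))) (by simp [hs, ca, mul_assoc])]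
      simpa [pow_two, mul_assoc] using this
  simpa using (I (s 1) 1 (by simp [hs])).trans this

end CL.L37
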