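import Cfsg.Agent.FGS.L37.Defs
import Cfsg.Agent.FGS.Ord8.Sol1

/-!
Port of `FGS/Ord8/Sol1` (`E9` becomes `Ep p`, `p = 3, 7`; `comm3` becomes `HD.comm`; exponent `8` becomes `16`).
-/

set_option autoImplicit false
set_option linter.unusedSectionVars false

namespace CL.L37

open Subgroup Cfsg CL.MSS CL.Ord6 CL.Ord8
open scoped commutatorElement MatrixGroups

universe u

variable {G : Type*} [Group G] [Finite G]
variable {H : Subgroup G}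

namespace S1

open CL.Ord8.Sol1

/-- `Ep` for an arbitrary odd prime -/
structure Eq (p : ℕ) (H : Subgroup G) (e f : G) : Prop where
  hp : p = 3 ∨ p = 7 ∨ p = 19
  he : e ∈ H
  hf : f ∈ H
  ep : e ^ p = 1
  fp : f ^ p = 1
  cm : e * f = f * e
  e1 : e ≠ 1
  ne : f ∉ zpowers e

variable {p : ℕ} {e f : G}

theorem of (E : Ep p H e f) : Eq p H e f :=
  ⟨E.hp.imp_right .inl, E.he, E.hf, E.ep, E.fp, E.cm, E.e1, E.ne⟩

theorem pr (hp : p = 3 ∨ p = 7 ∨ p = 19) : p.Prime ∧ p ≠ 2 := by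
  rcases hp with rfl | rfl | rfl <;> norm_num

theorem cop (hp : p = 3 ∨ p = 7 ∨ p = 19) {A K : Subgroup G} (pA : IsPGroup p A) (pK : IsPGroup 2 K) :
    (Nat.card A).Coprime (Nat.card K) :=
  haveI := Fact.mk (pr hp).1
  IsPGroup.coprime_card_of_ne p 2 (pr hp).2 A K pA pK

theorem pz {w : G} (wp : w ^ p = 1) : IsPGroup p (zpowers w) := isPGroup_zpowers (k := 1) (by rwa [pow_one])

theorem le (E : Eq p H e f) : closure ({e, f} : Set G) ≤ H := by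
  refine (closure_le H).2 ?_
  rintro _ (rfl | rfl)
  exacts [E.he, E.hf]

theorem comm (E : Eq p H e f) {a b : G} (ha : a ∈ closure ({e, f} : Set G)) (hb : b ∈ closure ({e, f} : Set G)) :
    a * b = b * a :=
  cen (cen rfl E.cm hb) (cen E.cm.symm rfl hb) ha

theorem pw (E : Eq p H e f) {a : G} (ha : a ∈ closure ({e, f} : Set G)) : a ^ p = 1 := by
  induction ha using closure_induction with
  | mem x hx =>
    rcases hx with rfl | rfl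
    exacts [E.ep, E.fp]
  | one => simp
  | mul x y hx hy a b => rw [Commute.mul_pow (comm E hx hy), a, b, one_mul]
  | inv x _ a => rw [inv_pow, a, inv_one]

theorem pg (E : Eq p H e f) : IsPGroup p (closure ({e, f} : Set G)) :=
  isPGroup_iff_forall_mem.2 fun _ ha => ⟨1, by rw [pow_one]; exact pw E ha⟩

theorem ncyc (E : Eq p H e f) : ¬ IsCyclic (closure ({e, f} : Set G)) := fun c => by
  obtain ⟨g, hg⟩ := c.exists_generator
  have h1 : Nat.card (closure ({e, f} : Set G)) ∣ p := by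
    rw [← orderOf_eq_card_of_forall_mem_zpowers hg]
    exact orderOf_dvd_of_pow_eq_one (Subtype.ext (pw E g.2))
  have h2 : zpowers e ≤ closure ({e, f} : Set G) := zpowers_le_of_mem (subset_closure (.inl rfl))
  have h3 := eq_of_le_of_card_ge h2 (by
    rw [Nat.card_zpowers, ordp (pr E.hp).1 E.ep E.e1]; exact Nat.le_of_dvd (pr E.hp).1.pos h1)
  exact E.ne (h3 ▸ subset_closure (.inr rfl))

/-- a `2`-group normalized by a `p²` is generated by the centralizers of its nonidentity elements -/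
theorem gen (E : Eq p H e f) {K L : Subgroup G} (pK : IsPGroup 2 K) (n : H ≤ 𝐍 K)
    (h : ∀ w ∈ closure ({e, f} : Set G), w ≠ 1 → ∀ q ∈ K, q * w = w * q → q ∈ L) : K ≤ L :=
  haveI : IsMulCommutative (closure ({e, f} : Set G)) := ⟨⟨fun a b => Subtype.ext (comm E a.2 b.2)⟩⟩
  coprime_le_of_forall_centralizer_le _ K L (ncyc E) ((le E).trans n) (cop E.hp (pg E) pK)
    fun w hw w1 q hq => h w hw w1 q hq.1 (mem_c.1 hq.2)

theorem pgO {u : G} (hu : u ∈ H) (u8 : u ^ 16 = 1) : IsPGroup 2 (zpowers u ⊔ 𝐎 H : Subgroup G) :=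
  isPGroup_sup_of_normalizes (isPGroup_zpowers (k := 4) u8) (oP_isPGroup H)
    ((zpowers_le_of_mem hu).trans (oP_normal H))

theorem part (hp : p = 3 ∨ p = 7 ∨ p = 19) {K : Subgroup G} (pK : IsPGroup 2 K) {g : G} (g3 : g ^ p ∈ K) :
    ∃ k : ℕ, (g ^ k) ^ p = 1 ∧ (g ^ k)⁻¹ * g ∈ K := by
  obtain ⟨m, hm⟩ := isPGroup_iff_forall_mem.1 pK _ g3
  obtain ⟨t, ht⟩ : ∃ t, 2 ^ m * (2 ^ 17) ^ m = p * t + 1 := by
    refine ⟨2 ^ m * (2 ^ 17) ^ m / p, ?_⟩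
    have : 2 ^ m * (2 ^ 17) ^ m % p = 1 := by
      rcases hp with rfl | rfl | rfl <;> rw [← mul_pow, Nat.pow_mod] <;> simp
    rw [← this, Nat.div_add_mod]
  refine ⟨2 ^ m * (2 ^ 17) ^ m, ?_, ?_⟩
  · rw [← pow_mul, mul_comm, pow_mul, pow_mul, hm, one_pow]
  · rw [ht, pow_succ', pow_mul, mul_inv_rev, inv_mul_cancel_right]
    exact inv_mem (pow_mem g3 t)

theorem pwm {x y : G} (hx : x ∈ H) (h : x⁻¹ * y ∈ 𝐎 H) (j : ℕ) : (x ^ j)⁻¹ * y ^ j ∈ 𝐎 H := by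
  induction j with
  | zero => simp
  | succ j ih =>
    have := mul_mem (cjO (inv_mem hx) ih) h
    rwa [show x⁻¹ * ((x ^ j)⁻¹ * y ^ j) * x⁻¹⁻¹ * (x⁻¹ * y) = (x ^ (j + 1))⁻¹ * y ^ (j + 1) by
      rw [pow_succ, pow_succ]; group] at this

end S1

open S1
open CL.Ord8.Sol1 (cen cjO zp2)

/-- PROOF. `Q = C_Q(w) [Q, w]` (coprime action). `b` commutes with `C_Q(w)` (`HD.comm`). `q ↦ ⁅b, q⁆` is a homomorphism into
`Z(Q)` with `⁅b, w q w⁻¹⁆ = w ⁅b, q⁆ w⁻¹ = ⁅b, q⁆`, so it kills `[Q, w]`. -/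
theorem lem1 (h : HD G) {r : ℕ} (hr : r = 3 ∨ r = 7) {Q : Subgroup G} (p : IsPGroup 2 Q) {w b : G} (wr : w ^ r = 1)
    (w1 : w ≠ 1) (wn : w ∈ 𝐍 Q) (hb : b ∈ Q) (e : b * w = w * b)
    (c : ∀ q ∈ Q, ⁅b, q⁆ * w = w * ⁅b, q⁆ ∧ ∀ q' ∈ Q, ⁅b, q⁆ * q' = q' * ⁅b, q⁆) : ∀ q ∈ Q, b * q = q * b := by
  intro q hq
  obtain ⟨c1, c2⟩ := c q hq
  have e1 : b * q * b⁻¹ = ⁅b, q⁆ * q := by rw [commutatorElement_def]; group
  generalize ⁅b, q⁆ = ζ at c1 c2 e1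
  have k : ∀ x ∈ Q, b * x * b⁻¹ = ζ * x * ζ⁻¹ → x ∈ Q ⊓ 𝐜 b := fun x hx a => by
    rw [c2 x hx, mul_inv_cancel_right, mul_inv_eq_iff_eq_mul] at a
    exact ⟨hx, mem_c.2 a.symm⟩
  have nw : zpowers w ≤ 𝐍 (Q ⊓ 𝐜 b) := le_normalizer_inf (zpowers_le.2 wn)
    ((zpowers_le.2 (mem_c.2 e.symm)).trans le_normalizer)
  obtain ⟨n, hn, a⟩ := coprime_fixed_point_quotient (zpowers w) (Q ⊓ 𝐜 b) nw
    (cop (hr.imp_right .inl) (pz wr) (p.to_le inf_le_left))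
    (.inr (isSolvable_of_isPGroup (p.to_le inf_le_left))) q
    (mem_normalizer_of_cj_le (cj_le_iff_forall.2 fun n hn => k _
      (Q.mul_mem (Q.mul_mem hq hn.1) (Q.inv_mem hq)) (by
        rw [← conj_mul, ← conj_mul, ← conj_inv, e1, ← mem_c.1 hn.2]; group)))
    fun x hx => k _ (Q.mul_mem (conj_mem_of_normalizes (zpowers_le.2 wn) hx hq) (Q.inv_mem hq)) (by
      have x1 : x * b = b * x := mem_c.1 (zpowers_le.2 (mem_c.2 e.symm) hx)
      have x2 : x * ζ = ζ * x := mem_c.1 (zpowers_le.2 (mem_c.2 c1.symm) hx)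
      calc b * (x * q * x⁻¹ * q⁻¹) * b⁻¹ = b * x * q * (b * x)⁻¹ * (b * q * b⁻¹)⁻¹ := by group
        _ = x * (b * q * b⁻¹) * x⁻¹ * (b * q * b⁻¹)⁻¹ := by rw [← x1]; group
        _ = x * ζ * q * x⁻¹ * q⁻¹ * ζ⁻¹ := by rw [e1]; group
        _ = _ := by rw [x2]; group)
  have a1 := h.comm hr wr w1 p hb (Q.mul_mem hq hn.1) e (a w (mem_zpowers w)).symm
  have a2 := mem_c.1 hn.2
  rw [mul_assoc, a2, ← mul_assoc, ← mul_assoc] at a1
  exact mul_right_cancel a1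

/-- as `CL.Ord8.ce` -/
theorem ce (h : HD G) (ch : Ch H) {p : ℕ} {e f u : G} (E : Ep p H e f) (hu : u ∈ H) (u8 : u ^ 16 = 1)
    (ue : u * e = e * u) (uf : u * f = f * u) : u ∈ 𝐎 H ∧ ∀ q ∈ 𝐎 H, u * q = q * u := by
  have k : 𝐎 H ≤ 𝐜 u := gen (of E) (oP_isPGroup H) (oP_normal H) fun w hw w1 q hq c =>
    mem_c.2 (h.comm E.hp (pw (of E) hw) w1 (pgO hu u8) (mem_sup_right hq) (mem_sup_left (mem_zpowers u)) c
      (cen ue uf hw).symm)
  exact ⟨ch ⟨hu, fun q hq => mem_c.1 (k hq)⟩, fun q hq => (mem_c.1 (k hq)).symm⟩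

/-- as `CL.Ord8.lemE` -/
theorem lemE (h : HD G) (ch : Ch H) {p : ℕ} {e f z b : G} (E : Ep p H e f) (hz : z ∈ H) (z2 : z * z = 1)
    (ze : z * e = e * z) (zf : z * f = f * z) (hb : b ∈ 𝐎 H) (c : ∀ q ∈ 𝐎 H, ⁅b, q⁆ ∈ zpowers z) :
    ∀ q ∈ 𝐎 H, b * q = q * b := by
  obtain ⟨-, zc⟩ := ce h ch E hz (by rw [show 16 = 2 * 8 from rfl, pow_mul, pow_two, z2, one_pow]) ze zf
  have k : 𝐎 H ≤ 𝐜 b := gen (of E) (oP_isPGroup H) (oP_normal H) fun w hw w1 q hq wq => by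
    have wH := le (of E) hw
    have wz := cen ze zf hw
    have P : ∀ ζ ∈ zpowers z, ζ * w = w * ζ ∧ ∀ q ∈ 𝐎 H, ζ * q = q * ζ := fun ζ hζ => by
      rcases zp2 z2 hζ with rfl | rfl
      · simp
      · exact ⟨wz.symm, zc⟩
    let U : Subgroup G :=
      { carrier := {u | u ∈ 𝐎 H ∧ ⁅q, u⁆ ∈ zpowers z}
        one_mem' := ⟨one_mem _, by simp⟩
        mul_mem' := fun {u v} hu hv => ⟨mul_mem hu.1 hv.1, by
          rw [show ⁅q, u * v⁆ = ⁅q, u⁆ * (u * ⁅q, v⁆) * u⁻¹ by simp only [commutatorElement_def]; group,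
            ← (P _ hv.2).2 u hu.1, ← mul_assoc, mul_inv_cancel_right]
          exact mul_mem hu.2 hv.2⟩
        inv_mem' := fun {u} hu => ⟨inv_mem hu.1, by
          rw [show ⁅q, u⁻¹⁆ = u⁻¹ * (⁅q, u⁆⁻¹ * u) by simp only [commutatorElement_def]; group,
            (P _ (inv_mem hu.2)).2 u hu.1, inv_mul_cancel_left]
          exact inv_mem hu.2⟩ }
    refine mem_c.2 (lem1 h E.hp (Q := U) ((oP_isPGroup H).to_le fun _ a => a.1) (pw (of E) hw) w1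
      (mem_normalizer_of_cj_le (cj_le_iff_forall.2 fun u hu => ⟨cjO wH hu.1, ?_⟩)) ⟨hq, by simp⟩ wq
      (fun u hu => ⟨(P _ hu.2).1, fun v hv => (P _ hu.2).2 v hv.1⟩) b
      ⟨hb, commutatorElement_inv b q ▸ inv_mem (c q hq)⟩)
    have e1 : ⁅q, w * u * w⁻¹⁆ = w * ⁅q, u⁆ * w⁻¹ := by
      simp only [commutatorElement_def]
      calc q * (w * u * w⁻¹) * q⁻¹ * (w * u * w⁻¹)⁻¹ = q * w * u * (q * w)⁻¹ * w * u⁻¹ * w⁻¹ := by group
        _ = _ := by rw [wq]; group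
    rw [e1, ← (P _ hu.2).1, mul_inv_cancel_right]
    exact hu.2
  exact fun q hq => (mem_c.1 (k hq)).symm

/-- as `CL.Ord8.cy` -/
theorem cy (h : HD G) (ch : Ch H) {p : ℕ} {e f s : G} (E : Ep p H e f) (hs : s ∈ H) (s8 : s ^ 16 = 1)
    (se : ⁅s, e⁆ ∈ 𝐎 H) (sf : ⁅s, f⁆ ∈ 𝐎 H) : s ∈ 𝐎 H := by
  have E' := of E
  have k : ∀ a ∈ closure ({e, f} : Set G), a * s * a⁻¹ * s⁻¹ ∈ 𝐎 H := fun a ha => by
    induction ha using closure_induction with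
    | mem x hx =>
      rcases hx with rfl | rfl
      · simpa [commutatorElement_def, mul_assoc] using inv_mem se
      · simpa [commutatorElement_def, mul_assoc] using inv_mem sf
    | one => simp
    | mul x y hx hy a b =>
      have := mul_mem (cjO (le E' hx) b) a
      rwa [show x * (y * s * y⁻¹ * s⁻¹) * x⁻¹ * (x * s * x⁻¹ * s⁻¹) = x * y * s * (x * y)⁻¹ * s⁻¹ by group] at this
    | inv x hx a =>
      have := cjO (inv_mem (le E' hx)) (inv_mem a)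
      rwa [show x⁻¹ * (x * s * x⁻¹ * s⁻¹)⁻¹ * x⁻¹⁻¹ = x⁻¹ * s * x⁻¹⁻¹ * s⁻¹ by group] at this
  obtain ⟨n, hn, c⟩ := coprime_fixed_point_quotient _ (𝐎 H) ((le E').trans (oP_normal H))
    (cop E'.hp (pg E') (oP_isPGroup H)) (.inr (isSolvable_of_isPGroup (oP_isPGroup (p := 2) H))) s (oP_normal H hs) k
  have := (ce h ch E (mul_mem hs (oP_le H hn))
    (h.p16 (pgO hs s8) (mul_mem (mem_sup_left (mem_zpowers s)) (mem_sup_right hn)))
    (c e (subset_closure (.inl rfl))).symm (c f (subset_closure (.inr rfl))).symm).1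
  simpa using mul_mem this (inv_mem hn)

/-- as `CL.Ord8.e9_lift`; stated for `p = 3, 7, 19` without the field `hp` -/
theorem ep_lift {p : ℕ} (hp : p = 3 ∨ p = 7 ∨ p = 19) {a b : G} (ha : a ∈ H) (hb : b ∈ H) (a3 : a ^ p ∈ 𝐎 H)
    (b3 : b ^ p ∈ 𝐎 H) (c : ⁅a, b⁆ ∈ 𝐎 H) (a1 : a ∉ 𝐎 H) (ne : ∀ i : ℕ, a ^ i * b ∉ 𝐎 H) :
    ∃ e f, e ∈ H ∧ f ∈ H ∧ e ^ p = 1 ∧ f ^ p = 1 ∧ e * f = f * e ∧ e ≠ 1 ∧ f ∉ zpowers e ∧
      e⁻¹ * a ∈ 𝐎 H ∧ f⁻¹ * b ∈ 𝐎 H := by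
  have pO := oP_isPGroup (p := 2) H
  obtain ⟨k, e3, ea⟩ := part hp pO a3
  have he : a ^ k ∈ H := pow_mem ha k
  have cm : ∀ j : ℕ, a ^ j * b * (a ^ j)⁻¹ * b⁻¹ ∈ 𝐎 H := fun j => by
    induction j with
    | zero => simp
    | succ j ih =>
      have := mul_mem (cjO ha ih) c
      rwa [show a * (a ^ j * b * (a ^ j)⁻¹ * b⁻¹) * a⁻¹ * ⁅a, b⁆ = a ^ (j + 1) * b * (a ^ (j + 1))⁻¹ * b⁻¹ by
        rw [commutatorElement_def, pow_succ']; group] at this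
  obtain ⟨n, hn, cc⟩ := coprime_fixed_point_quotient (zpowers (a ^ k)) (𝐎 H)
    ((zpowers_le_of_mem he).trans (oP_normal H)) (cop hp (pz e3) pO) (.inr (isSolvable_of_isPGroup pO)) b
    (oP_normal H hb) fun x hx => by
      obtain ⟨j, rfl⟩ := mem_powers_iff_mem_zpowers.2 hx
      simpa only [← pow_mul] using cm (k * j)
  have c1 : Commute (a ^ k) (b * n) := cc _ (mem_zpowers _)
  generalize a ^ k = e at *
  have n3 : (b * n) ^ p ∈ 𝐎 H := by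
    simpa using mul_mem b3 (pwm (y := b * n) hb (by simpa using hn) p)
  obtain ⟨l, f3, fb⟩ := part hp pO n3
  have hf : (b * n) ^ l ∈ H := pow_mem (mul_mem hb (oP_le H hn)) l
  have c2 := (c1.pow_right l).eq
  generalize (b * n) ^ l = f at *
  have fb' : f⁻¹ * b ∈ 𝐎 H := by simpa [← mul_assoc] using mul_mem fb (inv_mem hn)
  refine ⟨e, f, he, hf, e3, f3, c2, fun o => a1 (by simpa [o] using ea), fun o => ?_, ea, fb'⟩
  obtain ⟨i, rfl⟩ := mem_powers_iff_mem_zpowers.2 o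
  refine ne ((p - 1) * i) ?_
  have e1 : e ^ ((p - 1) * i) * e ^ i = 1 := by
    rw [← pow_add, ← Nat.succ_mul, Nat.succ_eq_add_one, Nat.sub_add_cancel (pr hp).1.pos, pow_mul, e3, one_pow]
  have := mul_mem (cjO (pow_mem he ((p - 1) * i)) (pwm he ea ((p - 1) * i))) fb'
  simp only at this
  rwa [← eq_inv_of_mul_eq_one_left e1, mul_inv_cancel_left, mul_assoc, inv_mul_cancel_left] at this

/-- no subgroup `19²`. PROOF. `𝐎 H` is generated by the `C(w)`, `w ∈ ⟨e, f⟩#`, all trivial (`HD.fpf`); so `𝐎 H = 1`, `H = 1`. -/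
theorem no19 (h : HD G) (ch : Ch H) {e f : G} (he : e ∈ H) (hf : f ∈ H) (ep : e ^ 19 = 1) (fp : f ^ 19 = 1)
    (cm : e * f = f * e) (e1 : e ≠ 1) : f ∈ zpowers e := by
  by_contra n
  have k : 𝐎 H ≤ ⊥ := gen ⟨.inr (.inr rfl), he, hf, ep, fp, cm, e1, n⟩ (oP_isPGroup H) (oP_normal H)
    fun w hw w1 q hq c => h.fpf (pw ⟨.inr (.inr rfl), he, hf, ep, fp, cm, e1, n⟩ hw) w1 (oP_isPGroup H) hq c.symm
  exact e1 (k (ch ⟨he, fun q hq => by rw [mem_bot.1 (k hq), one_mul, mul_one]⟩))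

end CL.L37
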