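import Cfsg.Agent.FGS.L37.Defs
import Cfsg.Agent.FGS.Ord8.Sol2a

/-!
The Fitting subgroup of `H / O₂(H)` and dihedral subgroups (cf. `FGS/Ord8/Sol2a`).
-/

set_option autoImplicit false
set_option linter.unusedSectionVars false

namespace CL.L37

open Subgroup Cfsg CL.MSS CL.Ord6 CL.Ord8
open scoped commutatorElement MatrixGroups

universe u

variable {G : Type*} [Group G] [Finite G]
variable {H : Subgroup G}

namespace Sol2

theorem odd_p {p : ℕ} (hp : p = 3 ∨ p = 7 ∨ p = 19) : p.Prime ∧ Nat.Coprime 2 p := by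
  rcases hp with rfl | rfl | rfl <;> exact ⟨by norm_num, by norm_num⟩

theorem mem_two {p : ℕ} (hp : p = 3 ∨ p = 7 ∨ p = 19) {P N : Subgroup G} (hP : IsPGroup 2 P) {c : G} (hc : c ∈ P)
    (e : c ^ p ∈ N) : c ∈ N := by
  obtain ⟨k, hk⟩ := isPGroup_iff_forall_mem.1 hP c hc
  exact oU_mem_of_pow_mem (Nat.Coprime.coprime_dvd_left (orderOf_dvd_of_pow_eq_one hk) ((odd_p hp).2.pow_left k)) e

theorem fit {X : Type*} [Group X] [Finite X] (h : HD X) (o : pCore 2 X = ⊥) :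
    ∃ p, (p = 3 ∨ p = 7 ∨ p = 19) ∧ ∀ t ∈ fittingSubgroup X, t ^ p = 1 := by
  have F2 : ∀ t ∈ fittingSubgroup X, t ^ 16 = 1 → t = 1 := fun t ht e =>
    mem_bot.1 (o ▸ le_pCore_of_le_fittingSubgroup (zpowers_le.2 ht) (IsPGroup.of_card_dvd_pow (n := 4)
      (by rw [Nat.card_zpowers]; exact orderOf_dvd_of_pow_eq_one e)) (mem_zpowers t))
  have od : ∀ t ∈ fittingSubgroup X, t ^ 3 = 1 ∨ t ^ 7 = 1 ∨ t ^ 19 = 1 := fun t ht => by
    rcases h t with a | a | a | a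
    · exact .inl (F2 _ (pow_mem ht 3) (by rw [← pow_mul, show 3 * 16 = 6 * 8 from rfl, pow_mul, a, one_pow]))
    · exact .inr (.inl (F2 _ (pow_mem ht 7) (by rw [← pow_mul, show 7 * 16 = 14 * 8 from rfl, pow_mul, a, one_pow])))
    · exact .inl (by rw [F2 t ht a, one_pow])
    · exact .inr (.inr a)
  have cm : ∀ s ∈ fittingSubgroup X, ∀ t ∈ fittingSubgroup X, ∀ {m n : ℕ}, s ^ m = 1 → t ^ n = 1 → m.Coprime n →
      s * t = t * s := fun s hs t ht m n a b c => by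
    have := isNilpotent_fittingSubgroup X
    have := commute_of_coprime_of_isNilpotent (G := fittingSubgroup X) (x := ⟨s, hs⟩) (y := ⟨t, ht⟩)
      (Nat.Coprime.coprime_dvd_left (orderOf_dvd_of_pow_eq_one (Subtype.ext a))
        (Nat.Coprime.coprime_dvd_right (orderOf_dvd_of_pow_eq_one (Subtype.ext b)) c))
    exact congrArg Subtype.val this.eq
  by_cases c3 : ∃ s ∈ fittingSubgroup X, s ≠ 1 ∧ s ^ 3 = 1
  · obtain ⟨s, hs, s1, s3⟩ := c3
    refine ⟨3, .inl rfl, fun t ht => ?_⟩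
    rcases od t ht with a | a | a
    · exact a
    · rw [one_of_cop a (h.c3 s3 s1 (cm s hs t ht s3 a (by norm_num))) (by norm_num), one_pow]
    · rw [one_of_cop a (h.c3 s3 s1 (cm s hs t ht s3 a (by norm_num))) (by norm_num), one_pow]
  push Not at c3
  by_cases c7 : ∃ s ∈ fittingSubgroup X, s ≠ 1 ∧ s ^ 7 = 1
  · obtain ⟨s, hs, s1, s7⟩ := c7
    refine ⟨7, .inr (.inl rfl), fun t ht => ?_⟩
    rcases od t ht with a | a | a
    · rw [one_of_cop a (h.c7 s7 s1 (cm s hs t ht s7 a (by norm_num))) (by norm_num), one_pow]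
    · exact a
    · rw [one_of_cop a (h.c7 s7 s1 (cm s hs t ht s7 a (by norm_num))) (by norm_num), one_pow]
  push Not at c7
  refine ⟨19, .inr (.inr rfl), fun t ht => ?_⟩
  by_cases t1 : t = 1
  · rw [t1, one_pow]
  rcases od t ht with a | a | a
  · exact absurd a (c3 t ht t1)
  · exact absurd a (c7 t ht t1)
  · exact a

theorem core {X : Type*} [Group X] [Finite X] {p : ℕ} (hp : p = 3 ∨ p = 7 ∨ p = 19) {N : Subgroup X} [N.Normal]
    (pw : ∀ t ∈ N, t ^ p = 1) (cen : ∀ s, (∀ r ∈ N, s * r = r * s) → s ∈ N) {A : Subgroup X}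
    (el : ∀ a ∈ A, a * a = 1) (n : A ≠ ⊥) :
    ∃ B : Subgroup X, B.relIndex A = 2 ∧ ∃ a ∈ A, ∃ u ∈ N, a ∉ B ∧ u⁻¹ * a * u * a⁻¹ ≠ 1 ∧
      ∀ b ∈ A, b ∈ B → b * u = u * b := by
  have F2 : ∀ t ∈ N, t * t = 1 → t = 1 := fun t ht e =>
    one_of_cop (by rw [pow_two, e]) (pw t ht) (odd_p hp).2
  have : IsMulCommutative A := ⟨⟨fun a b => Subtype.ext (comm_sq el a.2 b.2)⟩⟩
  have cop : (Nat.card A).Coprime (Nat.card N) := by
    obtain ⟨k, hk⟩ := (show IsPGroup 2 A from fun a => ⟨1, Subtype.ext (by simpa [pow_two] using el _ a.2)⟩).exists_card_eq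
    rw [hk]
    refine Nat.Coprime.pow_left _ ((Nat.Prime.coprime_iff_not_dvd Nat.prime_two).2 fun c => ?_)
    obtain ⟨t, ht⟩ := exists_prime_orderOf_dvd_card' 2 c
    have e : t.1 * t.1 = 1 := by
      have := congrArg Subtype.val (pow_orderOf_eq_one t)
      rwa [ht, pow_two] at this
    rw [show t = 1 from Subtype.ext (F2 _ t.2 e), orderOf_one] at ht
    omega
  by_contra c
  push Not at c
  have := coprime_le_of_forall_hyperplane A N (𝐂 A) Nat.prime_two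
    (fun a ha => by rw [pow_two, el a ha]) n le_normalizer_of_normal cop fun B hB i u hu a ha => by
      by_cases aB : a ∈ B
      · exact hu.2 a aB
      by_contra ne
      obtain ⟨b, -, h1, h2⟩ := c B i a ha u hu.1 aB fun e => ne (by
        calc _ = u * (u⁻¹ * a * u * a⁻¹) * a := by group
          _ = _ := by rw [e, mul_one])
      exact h2 (hu.2 b h1)
  exact n (eq_bot_iff.2 fun a ha => mem_bot.2 (F2 a (cen a fun u hu => this hu a ha) (el a ha)))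

end Sol2

/-- PROOF. `F = F(H / O₂(H))` is nilpotent of odd order and self-centralizing; elements of distinct odd prime orders do not
commute (`HD.c3, c7`), so `F` is a `p`-group, of exponent `p` (`HD.pp`). -/
theorem exists_ft (h : HD G) (sol : Group.IsSolvable H) : ∃ p R, Ft p H R := by
  have := Fact.mk Nat.prime_two
  obtain ⟨φ, hφ⟩ : ∃ φ, φ = QuotientGroup.mk' (pCore 2 H) := ⟨_, rfl⟩
  have ker : ∀ g : H, φ g = 1 ↔ g.1 ∈ 𝐎 H := fun g => by
    rw [hφ, QuotientGroup.mk'_apply, QuotientGroup.eq_one_iff, mem_oP_iff]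
  have sj : Function.Surjective φ := hφ ▸ QuotientGroup.mk'_surjective _
  obtain ⟨p, hp, pw⟩ := Sol2.fit ((h.subgroup H).quot (pCore 2 H)) oP_pCore_quotient_pCore
  have nF := fittingSubgroup_normal (H ⧸ pCore 2 H)
  refine ⟨p, ((fittingSubgroup (H ⧸ pCore 2 H)).comap φ).map H.subtype, hp, fun g hg => ?_, map_subtype_le _, ?_, ?_, ?_⟩
  · exact ⟨⟨g, oP_le H hg⟩, by rw [SetLike.mem_coe, mem_comap, (ker _).2 hg]; exact one_mem _, rfl⟩
  · have : ((((fittingSubgroup (H ⧸ pCore 2 H)).comap φ).map H.subtype).subgroupOf H).Normal := by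
      rw [subgroupOf, comap_map_eq_self_of_injective H.subtype_injective]
      infer_instance
    exact le_normalizer_of_normal_subgroupOf (map_subtype_le _)
  · rintro _ ⟨r, hr, rfl⟩
    exact (ker (r ^ p)).1 (by rw [map_pow]; exact pw _ hr)
  · intro s hs c
    refine ⟨⟨s, hs⟩, centralizer_fittingSubgroup_le (H ⧸ pCore 2 H) fun u hu => ?_, rfl⟩
    obtain ⟨v, rfl⟩ := sj u
    have := (ker ⁅(⟨s, hs⟩ : H), v⁆).2 (c v ⟨v, hu, rfl⟩)
    rw [map_commutatorElement, commutatorElement_eq_one_iff_mul_comm] at this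
    exact this.symm

/-- PROOF. `A` acts non-trivially and coprimely on `R / O`; so for a hyperplane `A1` of `A` and `a ∈ A - A1` some
`u ∈ C_{R/O}(A1)` is not centralized by `a`. `x₀ = u⁻¹ a u a⁻¹ ∈ R - O` is inverted by `a`; `x = x₀ ^ 400` (`HD.lift`). -/
theorem dih (h : HD G) {p : ℕ} {R : Subgroup G} (f : Ft p H R) {A : Subgroup G} (hA : A ≤ H) (el : ∀ a ∈ A, a * a = 1)
    (n : ¬ A ≤ 𝐎 H) : ∃ (A1 : Subgroup G) (a x : G), A1 ≤ A ∧ ♯A = 2 * ♯A1 ∧ A ⊓ 𝐎 H ≤ A1 ∧ a ∈ A ∧ a ∉ A1 ∧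
      x ∈ R ∧ x ≠ 1 ∧ x ^ p = 1 ∧ a * x * a⁻¹ = x⁻¹ ∧ ∀ b ∈ A1, ⁅b, x⁆ ∈ 𝐎 H := by
  have := Fact.mk Nat.prime_two
  obtain ⟨φ, hφ⟩ : ∃ φ, φ = QuotientGroup.mk' (pCore 2 H) := ⟨_, rfl⟩
  have ker : ∀ g : H, φ g = 1 ↔ g.1 ∈ 𝐎 H := fun g => by
    rw [hφ, QuotientGroup.mk'_apply, QuotientGroup.eq_one_iff, mem_oP_iff]
  have sj : Function.Surjective φ := hφ ▸ QuotientGroup.mk'_surjective _
  have nR : (R.subgroupOf H).Normal := normal_subgroupOf_of_le_normalizer f.nm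
  have nN : ((R.subgroupOf H).map φ).Normal := nR.map φ sj
  have pw : ∀ t ∈ (R.subgroupOf H).map φ, t ^ p = 1 := by
    rintro _ ⟨r, hr, rfl⟩
    rw [← map_pow]
    exact (ker _).2 (f.pw _ hr)
  obtain ⟨B, i, _, ⟨a, ha, rfl⟩, _, ⟨u, hR, rfl⟩, aB, w1, hu⟩ := Sol2.core f.hp pw (fun s c => by
      obtain ⟨v, rfl⟩ := sj s
      refine mem_map_of_mem φ (f.cen v v.2 fun r hr => (ker ⁅v, (⟨r, f.le hr⟩ : H)⁆).1 ?_)
      rw [map_commutatorElement, commutatorElement_eq_one_iff_mul_comm]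
      exact c _ (mem_map_of_mem φ hr))
    (A := (A.subgroupOf H).map φ) (by
      rintro _ ⟨a, ha, rfl⟩
      rw [← map_mul, show a * a = 1 from Subtype.ext (el _ ha), map_one])
    fun e => n fun a ha => (ker ⟨a, hA ha⟩).1 (mem_bot.1 (e ▸ mem_map_of_mem φ ha))
  obtain ⟨w, hw⟩ : ∃ w, w = u⁻¹ * a * u * a⁻¹ := ⟨_, rfl⟩
  have wR : w ∈ R.subgroupOf H := by
    rw [hw, mul_assoc, mul_assoc, ← mul_assoc a]
    exact mul_mem (inv_mem hR) (nR.conj_mem u hR a)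
  have w1' : φ w ≠ 1 := by rw [hw]; simpa only [map_mul, map_inv] using w1
  obtain ⟨l1, l2⟩ := (h.subgroup H).lift φ f.hp (pw _ (mem_map_of_mem φ wR)) w1'
  have ai : a.1⁻¹ = a := inv_eq_of_mul_eq_one_right (el _ ha)
  refine ⟨(A.subgroupOf H ⊓ B.comap φ).map H.subtype, a, w.1 ^ 400, ?_, ?_, ?_, ha, ?_, pow_mem wR _,
    fun e => w1' (by rw [← l2, show w ^ 400 = 1 from Subtype.ext e, map_one]), congrArg Subtype.val l1, ?_, ?_⟩
  · rintro _ ⟨b, hb, rfl⟩; exact hb.1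
  · rw [card_map_of_injective H.subtype_injective, ← Nat.card_congr (subgroupOfEquivOfLe hA).toEquiv,
      ← relIndex_comap] at *
    generalize comap φ B = C at i ⊢
    rw [← i, ← relIndex_bot_left, ← relIndex_bot_left, mul_comm, ← inf_relIndex_left _ C,
      relIndex_mul_relIndex _ _ _ bot_le inf_le_left]
  · exact fun b hb => ⟨⟨b, hA hb.1⟩, mem_inf.2 ⟨hb.1, by rw [mem_comap, (ker _).2 hb.2]; exact one_mem _⟩, rfl⟩
  · rintro ⟨b, hb, e⟩
    exact aB (by rw [← show b = a from Subtype.ext e]; exact hb.2)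
  · rw [← conj_pow, ← inv_pow, hw]
    simp only [coe_mul, coe_inv, mul_inv_rev, ai, inv_inv, mul_assoc, show a.1 * a.1 = 1 from el _ ha, mul_one]
  · rintro _ ⟨b, hb, rfl⟩
    refine (ker ⁅b, w ^ 400⁆).1 ?_
    have c1 : Commute (φ b) (φ u) := hu _ (mem_map_of_mem φ hb.1) hb.2
    have c2 : Commute (φ b) (φ a) := Commute.map (Subtype.ext (comm_sq el hb.1 ha)) φ
    rw [map_commutatorElement, commutatorElement_eq_one_iff_commute, l2, hw]
    simp only [map_mul, map_inv]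
    exact ((c1.inv_right.mul_right c2).mul_right c1).mul_right c2.inv_right

/-- PROOF. `𝐎 K` and `R` normalize each other, `⁅𝐎 K, R⁆ ≤ 𝐎 K ⊓ R ≤ 𝐎 H` (a `2`-element of `R` lies in `𝐎 H`), so
`𝐎 K ≤ R` by `cen`, `𝐎 K ≤ 𝐎 H`. -/
theorem Ft.of_le {p : ℕ} {R K : Subgroup G} (f : Ft p H R) (h1 : R ≤ K) (h2 : K ≤ H) : 𝐎 K = 𝐎 H ∧ Ft p K R := by
  have := Fact.mk Nat.prime_two
  have e : 𝐎 K = 𝐎 H := by
    refine le_antisymm (fun s hs => ?_) (oP_le_oP_of_le h2 (f.lo.trans h1))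
    have sK : s ∈ K := oP_le K hs
    have sR : s ∈ R := f.cen s (h2 sK) fun r hr => by
      have m1 : ⁅s, r⁆ ∈ 𝐎 K := by
        rw [commutatorElement_def, mul_assoc, mul_assoc, ← mul_assoc r]
        exact mul_mem hs ((mem_normalizer_iff.1 (oP_normal K (h1 hr)) _).1 (inv_mem hs))
      have m2 : ⁅s, r⁆ ∈ R := by
        rw [commutatorElement_def]
        exact mul_mem ((mem_normalizer_iff.1 (f.nm (h2 sK)) _).1 hr) (inv_mem hr)
      exact Sol2.mem_two f.hp (oP_isPGroup K) m1 (f.pw _ m2)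
    exact Sol2.mem_two f.hp (oP_isPGroup K) hs (f.pw _ sR)
  refine ⟨e, f.hp, e ▸ f.lo, h1, h2.trans f.nm, fun r hr => e ▸ f.pw r hr, fun s hs c => f.cen s (h2 hs) fun r hr => ?_⟩
  rw [← e]
  exact c r hr

end CL.L37
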