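import Cfsg.Agent.FGS.L37.Push

/-!
The non-split case: reduction to an overgroup of the parabolic `T⟨x⟩`.
-/

set_option autoImplicit false
set_option linter.unusedSectionVars false

namespace CL.L37

open Subgroup Cfsg CL.MSS CL.Ord6 CL.Ord8
open scoped commutatorElement MatrixGroups

universe u

variable {G : Type*} [Group G] [Finite G]
variable {M Q V T Q1 Z1 H : Subgroup G} {z0 z x : G}

namespace UAx

variable (k : Cu M Q V T Q1 Z1 z0 z x)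
include k

theorem QT : Q ≤ T := k.q1.trans k.q2

theorem VQ : V ≤ Q := fun _ hv => k.cV.le fun _ hw => comm_sq (A := V) k.el hw hv

theorem zV : z0 ∈ V := k.le ((k.mem z0).2 (.inr (.inl rfl)))

theorem zT : z0 ∈ T := QT k (VQ k (zV k))

theorem z2 : z0 * z0 = 1 := k.el _ (zV k)

theorem J1 : 𝐉 T ≠ ⊥ := Th.thompsonSubgroupOf_ne_bot
  (dvd_card_of_isPGroup_le k.syl.pgroup (fun e => k.z01 (e.le (zT k))) le_rfl)

omit k in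
theorem beq {S : Subgroup G} (h1 : 𝐁 T ≤ S) (h2 : S ≤ T) : 𝐁 S = 𝐁 T :=
  QP.baum_eq_of_le_cj (g := 1) h1 fun s hs => ⟨s, h2 hs, by simp⟩

end UAx

namespace Cu

/-- `max` for `⟨c⟩` -/
theorem cz (k : Cu M Q V T Q1 Z1 z0 z x) {c : G} (c2 : c * c = 1) (c1 : c ≠ 1) (hc : Zm M c) : 𝐜 c = M := by
  rw [← norm_zpowers c2]
  refine k.max _ (isPGroup_zpowers (k := 1) (by rw [pow_one, pow_two, c2])) (fun e => c1 (zpowers_eq_bot.1 e)) ?_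
  rw [norm_zpowers c2]
  exact fun m hm => mem_c.2 (hc m hm).symm

theorem _root_.CL.L37.UAx.ps (c2 : C2 G) (k : Cu M Q V T Q1 Z1 z0 z x) (top : SylIn 2 T ⊤) (nJ : 𝐍 (𝐉 T) ≤ M)
    {H0 : Subgroup G} (h0 : T ≤ H0) (ch : Ch H0) (n : ¬ H0 ≤ M) :
    ∃ U : Subgroup G, IsPGroup 2 U ∧ U ≠ ⊥ ∧ 𝐍 (𝐁 T) ≤ 𝐍 U ∧ ¬ 𝐍 U ≤ M :=
  have e := k.cz (UAx.z2 k) k.z01 k.z0M
  push c2 top k.syl.le (UAx.zT k) (UAx.z2 k) k.z01 (k.syl.le.trans e.ge) e.le nJ h0 ch n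

/-- PROOF. `J(T) = J(Q)`, `𝐍 J(T) = M`, `T` Sylow in `G`. `V ≤ Ω₁Z(J(T))`, so `B(T) ≤ 𝐂 V = Q`, `B(T) = B(Q)` (`baum_eq_of_le_cj`),
`M ≤ 𝐍 B(T)`; `push` with `z0` contradicts `max`. -/
theorem jq (c2 : C2 G) (k : Cu M Q V T Q1 Z1 z0 z x) (j : 𝐉 T ≤ Q) : SylIn 2 T ⊤ ∧ ∀ H, T ≤ H → Ch H → H ≤ M := by
  have e := Th.thompsonSubgroupOf_eq_of_le j (UAx.QT k)
  have nJ : 𝐍 (𝐉 T) = M := k.max _ (k.syl.pgroup.to_le (Th.thompsonSubgroupOf_le T)) (UAx.J1 k)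
    (by rw [← e, ← k.nQ]; exact Th.normalizer_le_normalizer_thompsonSubgroupOf Q)
  have top : SylIn 2 T ⊤ := k.syl.of_normalizer_le le_top
    (inf_le_right.trans ((Th.normalizer_le_normalizer_thompsonSubgroupOf T).trans nJ.le))
  refine ⟨top, fun H tH ch => by_contra fun n => ?_⟩
  have b : 𝐁 T ≤ Q := by
    rw [← k.cV]
    refine inf_le_right.trans (centralizer_le fun v hv => subset_closure ?_)
    have v2 : v ^ 2 = 1 := by rw [pow_two, k.el v hv]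
    have c : v ∈ 𝐂 (𝐉 T) := fun q hq => ((k.cV.ge (j hq)) v hv).symm
    exact ⟨⟨Th.mem_thompsonSubgroupOf_of_centralizes (UAx.QT k (UAx.VQ k hv)) v2 c, c⟩, v2⟩
  obtain ⟨U, p, U1, h1, h2⟩ := UAx.ps c2 k top nJ.le tH ch n
  refine h2 (k.max U p U1 (le_trans ?_ h1)).le
  rw [← UAx.beq b (UAx.QT k), ← k.nQ]
  exact Foc3.norm_baum Q

/-- an involution centralizing `T` is central in `M` (`cQ`, `ft`) -/
theorem zt (k : Cu M Q V T Q1 Z1 z0 z x) (sp : ∀ y ∈ B7.Om Q, ∃ v ∈ V, ∃ c ∈ B7.Om Q, Zm M c ∧ y = v * c) {c : G}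
    (c2 : c * c = 1) (hc : ∀ t ∈ T, c * t = t * c) : c ∈ B7.Om Q ∧ Zm M c := by
  have o : c ∈ B7.Om Q := ⟨k.cQ fun q hq => (hc q (UAx.QT k hq)).symm, c2, fun q hq => hc q (UAx.QT k hq)⟩
  refine ⟨o, ?_⟩
  obtain ⟨v, hv, d, -, zd, rfl⟩ := sp c o
  have := k.ft v hv fun t ht => mul_right_cancel (b := d) (by
    rw [mul_assoc, ← zd t (k.syl.le ht), ← mul_assoc, hc t ht, mul_assoc])
  intro m hm
  rcases this with rfl | rfl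
  · rw [one_mul, zd m hm]
  · rw [mul_assoc, zd m hm, ← mul_assoc, k.z0M m hm, mul_assoc]

/-- PROOF. `𝐍 T ≤ 𝐍 (Om T) = M` (`zt`, `max`). -/
theorem top (k : Cu M Q V T Q1 Z1 z0 z x) (sp : ∀ y ∈ B7.Om Q, ∃ v ∈ V, ∃ c ∈ B7.Om Q, Zm M c ∧ y = v * c) :
    SylIn 2 T ⊤ := by
  refine k.syl.of_normalizer_le le_top (inf_le_right.trans (B7.Om_nz.trans (k.max (B7.Om T) (k.syl.pgroup.to_le fun _ h => h.1)
    (fun e => k.z01 (e.le (show z0 ∈ B7.Om T from ⟨UAx.zT k, UAx.z2 k, fun t ht => k.z0M t (k.syl.le ht)⟩)))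
    fun m hm => centralizer_le_normalizer _ fun c hc => ?_).le))
  exact (k.zt sp hc.2.1 hc.2.2).2 m hm

/-- PROOF. `J(T) ≤ B(T) ≤ Q1` give `J(T) = J(Q1)`, `B(T) = B(Q1)`, normalized by `T, x`. If `¬ 𝐍 J(T) ≤ M` take `X = J(T)`;
otherwise `X = U` from `push`. -/
theorem exH (c2 : C2 G) (k : Cu M Q V T Q1 Z1 z0 z x) (top : SylIn 2 T ⊤) (b : 𝐁 T ≤ Q1) {H0 : Subgroup G} (h0 : T ≤ H0)
    (ch : Ch H0) (n : ¬ H0 ≤ M) : ∃ X : Subgroup G, IsPGroup 2 X ∧ X ≠ ⊥ ∧ T ≤ 𝐍 X ∧ x ∈ 𝐍 X ∧ ¬ 𝐍 X ≤ M := by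
  by_cases nJ : 𝐍 (𝐉 T) ≤ M
  · obtain ⟨U, p, U1, h1, h2⟩ := UAx.ps c2 k top nJ h0 ch n
    rw [← UAx.beq b k.q2] at h1
    exact ⟨U, p, U1, k.nT.trans ((Foc3.norm_baum Q1).trans h1), h1 (Foc3.norm_baum Q1 k.nx), h2⟩
  · refine ⟨_, k.syl.pgroup.to_le (Th.thompsonSubgroupOf_le T), UAx.J1 k, Th.le_normalizer_thompsonSubgroupOf T, ?_, nJ⟩
    rw [← Th.thompsonSubgroupOf_eq_of_le ((Foc3.J_le_baum T).trans b) k.q2]
    exact Th.normalizer_le_normalizer_thompsonSubgroupOf Q1 k.nx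

end Cu

end CL.L37
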