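import Cfsg.Agent.FGS.L37.UA
import Cfsg.Agent.TECH.LargeTI

/-!
The non-split case: `Ω₁Z(O₂(H)) ≤ Q`.
-/

set_option autoImplicit false
set_option linter.unusedSectionVars false

namespace CL.L37

open Subgroup Cfsg CL.MSS CL.Ord6 CL.Ord8
open scoped commutatorElement MatrixGroups

universe u

variable {G : Type*} [Group G] [Finite G]
variable {M Q V T Q1 Z1 H : Subgroup G} {z0 z x : G}

namespace UD1
open R1 (cj cj')

theorem pOm (K : Subgroup G) : IsPGroup 2 (B7.Om K) :=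
  isPGroup_iff_forall_mem.2 fun _ hg => ⟨1, by rw [pow_one, pow_two]; exact hg.2.1⟩

variable (k : Cu M Q V T Q1 Z1 z0 z x)
include k

theorem VQ : V ≤ Q := k.cV ▸ fun _ ha => mem_centralizer_iff.2 fun _ hb => comm_sq k.el hb ha

theorem VY : V ≤ B7.Om Q := fun v hv =>
  ⟨VQ k hv, k.el v hv, fun _ hq => mem_centralizer_iff.1 (k.cV.ge hq) v hv⟩

theorem z0Z : z0 ∈ Z1 := (k.mem _).2 (.inr (.inl rfl))

theorem zZ : z ∈ Z1 := (k.mem _).2 (.inr (.inr (.inl rfl)))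

theorem QM : Q ≤ M := k.nQ ▸ le_normalizer

/-- `M` is self-normalizing -/
theorem NM : 𝐍 M ≤ M := by
  have := k.max (B7.Om M) (pOm M) (fun e => k.z01 (mem_bot.1 (e.le
    (⟨QM k (VQ k (k.le (z0Z k))), k.el _ (k.le (z0Z k)), k.z0M⟩ : z0 ∈ B7.Om M)))) (le_normalizer.trans B7.Om_nz)
  exact B7.Om_nz.trans this.le

/-- conjugates of central involutions of `M` -/
theorem ti {c g : G} (c2 : c * c = 1) (c1 : c ≠ 1) (hc : Zm M c) (hg : Zm M (g * c * g⁻¹)) : g ∈ M := by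
  have e1 := k.cz c2 c1 hc
  have e2 := k.cz (c := g * c * g⁻¹) (by rw [conj_mul, c2]; simp) (fun e => c1 (conj_eq_one_iff.1 e)) hg
  refine NM k (mem_normalizer_fintype fun m hm => e2.le (mem_c.2 ?_))
  rw [conj_mul, conj_mul, mem_c.1 (e1.ge hm)]

theorem zm0 {c : G} (hc : Zm M c) : Zm M (z0 * c) := fun m hm => by
  rw [mul_assoc, hc m hm, ← mul_assoc, k.z0M m hm, mul_assoc]

end UD1

open UD1 R1 in
/-- the case `Ω₁Z(O₂(H)) ≤ Q` -/
theorem Cu.fin1 (h : HD G) (k : Cu M Q V T Q1 Z1 z0 z x) (top : SylIn 2 T ⊤)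
    (sp : ∀ y ∈ B7.Om Q, ∃ v ∈ V, ∃ c ∈ B7.Om Q, Zm M c ∧ y = v * c) (tH : T ≤ H) (xH : x ∈ H) (ch : Ch H)
    (n : ¬ H ≤ M) (o : ¬ 𝐎 H ≤ Q) (c : B7.Om (𝐎 H) ≤ Q) : Q = V := by
  have : Fact (Nat.Prime 2) := ⟨Nat.prime_two⟩
  have oT : 𝐎 H ≤ T := oP_le_sylIn (top.of_le tH le_top)
  have o1 : 𝐎 H ≤ Q1 := k.o2 _ oT (oP_normal H xH)
  have qT : Q ≤ T := k.q1.trans k.q2
  have nX : H ≤ 𝐍 (B7.Om (𝐎 H)) := (oP_normal H).trans B7.Om_nz
  -- central involutions of `M` lie in `X`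
  have zX : ∀ c ∈ B7.Om Q, Zm M c → c ∈ B7.Om (𝐎 H) := fun c hc hz =>
    ⟨ch ⟨tH (qT hc.1), mem_centralizer_iff.2 fun y hy => (hz y (k.syl.le (oT hy))).symm⟩, hc.2.1,
      fun y hy => hz y (k.syl.le (oT hy))⟩
  obtain ⟨t, ht, tQ⟩ := SetLike.not_le_iff_exists.1 o
  have xy : ∀ y ∈ B7.Om (𝐎 H), y ∈ B7.Om Q → ∃ c, Zm M c ∧ (y = c ∨ y = z * c) := fun y h1 h2 => by
    obtain ⟨v, hv, c, hc, hz, rfl⟩ := sp y h2
    have v1 := (mul_mem_cancel_right (zX c hc hz)).1 h1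
    rcases (k.mem v).1 (k.ct t (o1 ht) tQ v hv (v1.2.2 t ht)) with e | e | e | e <;> rw [e]
    · exact ⟨c, hz, .inl (one_mul c)⟩
    · exact ⟨_, zm0 k hz, .inl rfl⟩
    · exact ⟨c, hz, .inr rfl⟩
    · exact ⟨_, zm0 k hz, .inr (mul_assoc _ _ _)⟩
  have XY : B7.Om (𝐎 H) ≤ B7.Om Q := by
    by_contra e
    obtain ⟨b, hb, b1, b2⟩ := CL.LTI.exists_fix (pOm _) k.pQ ((qT.trans tH).trans nX) e
    refine b1 ⟨c hb, hb.2.1, k.r1 b (c hb) fun q hq => xy _ ?_ ?_⟩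
    · rw [commutatorElement_def, mul_assoc, mul_assoc, ← mul_assoc q]
      exact mul_mem hb (cj (nX (tH (qT hq))) (inv_mem hb))
    · rw [← commutatorElement_inv]
      exact inv_mem (b2 q hq)
  obtain ⟨g, gH, gM⟩ := SetLike.not_le_iff_exists.1 n
  have zY := VY k (k.le (zZ k))
  have z0Y := VY k (k.le (z0Z k))
  -- conjugates of central involutions
  have cg : ∀ c ∈ B7.Om Q, Zm M c → c ≠ 1 → ∃ d, Zm M d ∧ g * c * g⁻¹ = z * d := fun c hc hz c1 => by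
    have h1 := cj (nX gH) (zX c hc hz)
    obtain ⟨d, hd, e | e⟩ := xy _ h1 (XY h1)
    · exact (gM (ti k hc.2.1 c1 hz (e ▸ hd))).elim
    · exact ⟨d, hd, e⟩
  have Z2 : ∀ c ∈ B7.Om Q, Zm M c → c = 1 ∨ c = z0 := fun c hc hz => by
    by_contra e
    rw [not_or] at e
    obtain ⟨d, hd, e1⟩ := cg c hc hz e.1
    obtain ⟨d', hd', e2⟩ := cg z0 z0Y k.z0M k.z01
    refine gM (ti k (c := z0 * c) (mul_mem z0Y hc).2.1 (fun e3 => e.2 ?_) (zm0 k hz) fun m hm => ?_)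
    · rw [eq_inv_of_mul_eq_one_right e3, inv_eq_of_mul_eq_one_left z0Y.2.1]
    · rw [← conj_mul, e1, e2, show z * d' * (z * d) = z * (d' * z) * d by group, hd' z (QM k zY.1),
        show z * (z * d') * d = z * z * (d' * d) by group, zY.2.1, one_mul, mul_assoc, hd m hm, ← mul_assoc, hd' m hm,
        mul_assoc]
  have YV : B7.Om Q ≤ V := fun y hy => by
    obtain ⟨v, hv, c, hc, hz, rfl⟩ := sp y hy
    refine mul_mem hv ?_
    rcases Z2 c hc hz with e | e <;> rw [e]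
    exacts [one_mem _, k.le (z0Z k)]
  have XZ : B7.Om (𝐎 H) ≤ Z1 := fun y hy => by
    obtain ⟨d, hd, e | e⟩ := xy y hy (XY hy)
    · rcases Z2 y (XY hy) (e ▸ hd) with e | e <;> rw [e]
      exacts [one_mem _, z0Z k]
    · have := XY hy
      rw [e] at this ⊢
      refine mul_mem (zZ k) ?_
      rcases Z2 d ((mul_mem_cancel_left zY).1 this) hd with e | e <;> rw [e]
      exacts [one_mem _, z0Z k]
  have z0X := zX z0 z0Y k.z0M
  have zzX : z ∈ B7.Om (𝐎 H) := by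
    obtain ⟨d, hd, e⟩ := cg z0 z0Y k.z0M k.z01
    have h1 := cj (nX gH) z0X
    rw [e] at h1
    exact (mul_mem_cancel_right (zX d ((mul_mem_cancel_left zY).1 (XY h1)) hd)).1 h1
  have ZX : Z1 ≤ B7.Om (𝐎 H) := fun w hw => by
    rcases (k.mem w).1 hw with e | e | e | e <;> rw [e]
    exacts [one_mem _, z0X, zzX, mul_mem zzX z0X]
  -- `H` normalizes `Q1`
  have n1 : ∀ a ∈ H, ∀ q ∈ Q1, a * q * a⁻¹ ∈ Q1 := fun a ha q hq => by
    have q1 : q ∈ M ⊓ 𝐜 z := k.st.ge (mem_sup_left hq)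
    have cX : ∀ y ∈ B7.Om (𝐎 H), q * y = y * q := fun y hy => by
      have e0 := (k.z0M q q1.1).symm
      have e1 := mem_c.1 q1.2
      rcases (k.mem y).1 (XZ hy) with e | e | e | e <;> rw [e]
      · simp
      · exact e0
      · exact e1
      · rw [← mul_assoc, e1, mul_assoc, e0, mul_assoc]
    have cX' : ∀ y ∈ B7.Om (𝐎 H), a * q * a⁻¹ * y = y * (a * q * a⁻¹) := fun y hy => by
      rw [show a * q * a⁻¹ * y = a * (q * (a⁻¹ * y * a)) * a⁻¹ by group, cX _ (cj' (nX ha) hy)]; group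
    refine k.two _ ⟨(k.cz z0Y.2.1 k.z01 k.z0M).le (mem_c.2 (cX' _ z0X)), mem_c.2 (cX' _ zzX)⟩ ?_
    rw [conj_pow, h.p16 k.syl.pgroup (k.q2 hq)]; simp
  have vq : ∀ b ∈ V, ∀ q ∈ Q1, ⁅g * b * g⁻¹, q⁆ ∈ Z1 := fun b hb q hq => by
    have h1 := k.vq b hb _ (n1 _ (inv_mem gH) q hq)
    rw [show ⁅g * b * g⁻¹, q⁆ = g * ⁅b, g⁻¹ * q * g⁻¹⁻¹⁆ * g⁻¹ by simp only [commutatorElement_def]; group]
    exact XZ (cj (nX gH) (ZX h1))
  by_cases e : ∀ b ∈ V, g * b * g⁻¹ ∈ Q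
  · refine (gM (k.nV.le (mem_normalizer_fintype fun b hb => YV ⟨e b hb, by rw [conj_mul, k.el b hb]; simp,
      k.r1 _ (e b hb) fun q hq => ?_⟩))).elim
    have h1 := ZX (vq b hb q (k.q1 hq))
    exact xy _ h1 (XY h1)
  · push Not at e
    obtain ⟨b, hb, e⟩ := e
    have sq := k.sq _ (k.syl.le (k.q2 (n1 g gH b (k.q1 (VQ k hb))))) e fun q hq => by
      rw [← commutatorElement_inv]
      exact inv_mem (k.le (vq b hb q (k.q1 hq)))
    exact le_antisymm (fun q hq => YV ⟨hq, sq q hq, fun r hr => comm_sq sq hq hr⟩) (VQ k)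

end CL.L37
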